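import Cfsg.Agent.Lib.Sporadic.MTwentyTwo.SetsData

/-!
# Decidable facts for the centralizer
-/

set_option autoImplicit false

namespace CfsgLib.Sporadic.MTwentyTwo

theorem cj0_nz : pts.all (fun P => veq (nz (cj0 P)) (cj0 P) && isPt (cj0 P)) = true := by decide +kernel

theorem sg_sq : pts.all (fun P => veq (sg (sg P)) P) = true := by decide +kernel

theorem full_moved : fullReps.all (fun r => !two (dmul (mk6 om 1 1 1 1 1) r) &&
    (!two (dmul (mk6 (om + 1) 1 1 1 1 1) r) && (!two r && !two (cj0 r)))) = true := by decide +kernel

/-- Every fixed point is orthogonal to a fixed point of the invariant set. -/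
theorem fix_S_touch : pts.all (fun P => !fixd P ||
    pts.any fun Q => fixd Q && (inS0 Q && orth P Q)) = true := by decide +kernel

/-- The five points of a line. -/
def line34 : List Vec := [p12, p34, comb p12 1 p34, comb p12 om p34, comb p12 (om + 1) p34]

/-- Three pairwise orthogonal points off a line have at most twenty-one common perpendiculars. -/
theorem clique_bound : pts.all (fun P => !(orth p12 P && orth p34 P) || (line34.any fun L => veq P L) ||
    decide ((pts.countP fun Q => orth p12 Q && (orth p34 Q && orth P Q)) ≤ 21)) = true := by decide +kernel

end CfsgLib.Sporadic.MTwentyTwo
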