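import Cfsg.Agent.Lib.Sporadic.MTwentyTwo.Order
import Mathlib.GroupTheory.PGroup

/-!
# Exactly one common neighbourhood is invariant under the diagonal group
-/

set_option autoImplicit false
set_option linter.unusedSectionVars false

namespace CfsgLib.Sporadic.MTwentyTwo

open Matrix CfsgLib.Sporadic.FischerTransitivity CfsgLib.Sporadic.FischerRankThree
open CfsgLib.Sporadic.U62Lift (hf mat hf_mat mat_mul mat_one)

attribute [local irreducible] pts tp orth veq comb tmv dmul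

/-- The action of an element of the diagonal subgroup. -/
theorem E0_spec {u : P} (hu : u ∈ E0) :
    ∃ d' : Vec, prd d' = 1 ∧ ∀ v ∈ pts, u * tp v * u⁻¹ = tp (dmul d' v) := by
  obtain ⟨g, ⟨dv, hg⟩, rfl⟩ := hu
  have hm : (g.1 : Matrix (Fin 6) (Fin 6) K) = Matrix.diagonal dv := by
    refine Matrix.ext_of_mulVec_single fun j => ?_
    show mat g *ᵥ Pi.single j 1 = _
    rw [hg]
    funext i
    rw [Matrix.mulVec_diagonal]
  refine ⟨dv, ?_, fun v hv => ?_⟩
  · rw [prd_eq, ← Matrix.det_diagonal, ← hm]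
    exact g.1.2
  · have e : dmul dv v = nz (mat g *ᵥ v) := by
      rw [hg, dmul]
      congr 1
      funext i
      simp only [mk6]
      fin_cases i <;> rfl
    rw [e]
    exact (mk_conj g hv).2

variable {G : Type*} [Group G] {D : Set G}

/-- The common neighbourhood is invariant under the diagonal group. -/
def CsInv (D : Set G) (d : G) (π : HG D d →* P) (c : G) : Prop :=
  ∀ d' : Vec, prd d' = 1 → ∀ v ∈ cs π (Nb D d ∩ Nb D c), dmul d' v ∈ cs π (Nb D d ∩ Nb D c)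

variable [Finite G] (ctx : Ctx D)
include ctx

namespace Ctx

variable {d : G} (hd : d ∈ D) {π : HG D d →* P} (hπ : IsPi D d π)
include hd hπ

theorem cs_shape {c : G} (hc : c ∈ D) (hdc : ¬ Commute d c) (h : CsInv D d π c) :
    ∃ r ∈ fullReps, cs π (Nb D d ∩ Nb D c) = {v | v ∈ pts ∧ (two v = true ∨ rep v = r)} := by
  have hS : InvSet (cs π (Nb D d ∩ Nb D c)) := by
    refine ⟨fun v hv => hv.1, fun d' hd' v _ hv => h d' hd' v hv, ?_,
      fun p hp q hq hne ho a ha => ctx.no_three hd hc hdc hπ ha hne ho hp hq, ?_⟩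
    · rintro p ⟨hp, x, hx, ep⟩ q ⟨hq, y, hy, eq⟩ -
      obtain ⟨h1, h2⟩ := ctx.pf_conj hd hπ (mem_HG hx.1) hy.1
      refine ⟨tmv_mem hp hq, _, ⟨h1, ?_⟩, by rw [h2, ep, eq]; exact tp_conj hp hq⟩
      have := nb_conj ctx.hD x hy.2
      rwa [show x * c * x⁻¹ = c by rw [← hx.2.2.2.eq, mul_inv_cancel_right]] at this
    · rw [ctx.ncard_cs hd hπ Set.inter_subset_left, ctx.card_common hd hc hdc]
      norm_num
  obtain ⟨r, hr, hrS⟩ := hS.shape
  refine ⟨r, hr, Set.ext fun v => ⟨fun hv => ⟨hS.sub v hv, (hrS v (hS.sub v hv)).1 hv⟩,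
    fun ⟨hv, hh⟩ => (hrS v hv).2 hh⟩⟩

theorem exists_csInv : ∃ c ∈ D, ¬ Commute d c ∧ CsInv D d π c := by
  obtain ⟨c, hc, hdc, hinv⟩ := ctx.exists_invariant hd hπ
  exact ⟨c, hc, hdc, fun d' hd' v hv => (ctx.invSet hd hc hdc hπ hinv).inv d' hd' v hv.1 hv⟩

omit hπ

/-- The fibres of the map to common neighbourhoods. -/
theorem common_eq_iff {c c' : G} (hc : c ∈ D) (hdc : ¬ Commute d c) (hc' : c' ∈ D) (hdc' : ¬ Commute d c') :
    Nb D d ∩ Nb D c' = Nb D d ∩ Nb D c ↔ c' = c ∨ c' = d * c * d⁻¹ := by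
  constructor
  · intro h
    obtain ⟨e, he, -⟩ := ctx.common_noncomm hd hc hdc
    have he' : e ∈ Nb D d ∩ Nb D c' := h ▸ he
    rcases ctx.eq_of_common hd hc hdc he ⟨hc', Ne.symm he'.2.2.1, he'.2.2.2.symm⟩ (fun x hx h1 h2 => by
      have hx' : x ∈ Nb D d ∩ Nb D c :=
        ⟨⟨hx.1, fun e' => hdc (e' ▸ h2.symm), h1⟩, ⟨hx.1, fun e' => hdc (e' ▸ h1), h2⟩⟩
      rw [← h] at hx'
      exact hx'.2.2.2) with h' | h' | h'
    · exact absurd (h' ▸ Commute.refl d) hdc'
    · exact Or.inl h'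
    · exact Or.inr (by rw [h', inv_eq ctx.hD hd])
  · rintro (rfl | rfl)
    · rfl
    · have h1 : (fun x => d * x * d⁻¹) '' (Nb D d ∩ Nb D c) = Nb D d ∩ Nb D c := by
        ext x
        constructor
        · rintro ⟨y, hy, rfl⟩
          show d * y * d⁻¹ ∈ _
          rw [hy.1.2.2.eq, mul_inv_cancel_right]
          exact hy
        · intro hx
          exact ⟨x, hx, by show d * x * d⁻¹ = x; rw [hx.1.2.2.eq, mul_inv_cancel_right]⟩
      conv_rhs => rw [← h1]
      rw [Set.image_inter (fun a b h => mul_left_cancel (mul_right_cancel h)), nb_image ctx.hD,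
        nb_image ctx.hD, mul_inv_cancel_right]

include hπ

theorem csInv_unique {c c' : G} (hc : c ∈ D) (hdc : ¬ Commute d c) (h : CsInv D d π c) (hc' : c' ∈ D)
    (hdc' : ¬ Commute d c') (h' : CsInv D d π c') : c' = c ∨ c' = d * c * d⁻¹ := by
  classical
  have := Fintype.ofFinite G
  rw [← ctx.common_eq_iff hd hc hdc hc' hdc']
  set f : G → Set P := fun c => pf π '' (Nb D d ∩ Nb D c)
  have hinj : ∀ a b, f a = f b → Nb D d ∩ Nb D a = Nb D d ∩ Nb D b := by
    have : ∀ a b, f a = f b → Nb D d ∩ Nb D a ⊆ Nb D d ∩ Nb D b := by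
      intro a b e x hx
      have hm : pf π x ∈ f b := e ▸ ⟨x, hx, rfl⟩
      obtain ⟨y, hy, ey⟩ := hm
      exact ctx.pf_inj hd hπ hy.1 hx.1 ey ▸ hy
    exact fun a b e => (this a b e).antisymm (this b a e.symm)
  set Fam : Set (Set P) := f '' {c | c ∈ D ∧ ¬ Commute d c}
  -- its size
  have hcardF : 2 * Nat.card Fam = 2816 := by
    set A : Finset G := Finset.univ.filter fun c => c ∈ D ∧ ¬ Commute d c
    have hA : A.card = 2816 := by
      rw [← ctx.card_noncomm hd, ← Set.ncard_coe_finset]; congr 1; ext c; simp [A]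
    have hF : Fam = ↑(A.image f) := by
      rw [Finset.coe_image]
      simp [Fam, A]
    rw [hF, Nat.card_coe_set_eq, Set.ncard_coe_finset, ← hA, Finset.card_eq_sum_card_image f A,
      Finset.sum_const_nat (m := 2), mul_comm]
    intro S hS
    obtain ⟨a, ha, rfl⟩ := Finset.mem_image.1 hS
    simp only [A, Finset.mem_filter, Finset.mem_univ, true_and] at ha
    have hda : d * a * d⁻¹ ≠ a := fun e => ha.2 (eq_mul_inv_iff_mul_eq.1 e.symm).symm
    rw [Finset.card_eq_two]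
    refine ⟨a, d * a * d⁻¹, hda.symm, Finset.ext fun b => ?_⟩
    simp only [A, Finset.mem_filter, Finset.mem_univ, true_and, Finset.mem_insert, Finset.mem_singleton]
    constructor
    · rintro ⟨⟨hb, hdb⟩, e⟩
      exact (ctx.common_eq_iff hd ha.1 ha.2 hb hdb).1 (hinj _ _ e)
    · intro hb
      have hbD : b ∈ D ∧ ¬ Commute d b := by
        rcases hb with rfl | rfl
        · exact ha
        · refine ⟨ctx.hD.2.1 d a ha.1, fun hh => ha.2 ((Commute.conj_iff d).1 ?_)⟩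
          rwa [mul_inv_cancel_right]
      refine ⟨hbD, ?_⟩
      show pf π '' _ = pf π '' _
      rw [(ctx.common_eq_iff hd ha.1 ha.2 hbD.1 hbD.2).2 hb]
  -- the action
  have hmove : ∀ u : P, ∀ S ∈ Fam, (fun z => u * z * u⁻¹) '' S ∈ Fam := by
    rintro u _ ⟨a, ⟨ha, hda⟩, rfl⟩
    obtain ⟨⟨k, hkH⟩, hk⟩ := hπ.surj u
    have hk' : pf π k = u := by rw [pf_eq π hkH]; exact hk
    have hkd : k * d * k⁻¹ = d := by rw [← (HG_commute hkH).eq, mul_inv_cancel_right]
    have himg : (fun x => k * x * k⁻¹) '' (Nb D d ∩ Nb D a) = Nb D d ∩ Nb D (k * a * k⁻¹) := by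
      rw [Set.image_inter (fun a b h => mul_left_cancel (mul_right_cancel h)), nb_image ctx.hD,
        nb_image ctx.hD, hkd]
    refine ⟨k * a * k⁻¹, ⟨ctx.hD.2.1 k a ha, fun hh => hda ((Commute.conj_iff k).1 (by rwa [hkd]))⟩, ?_⟩
    show pf π '' _ = (fun z => u * z * u⁻¹) '' (pf π '' _)
    rw [← himg, Set.image_image, Set.image_image]
    refine Set.image_congr fun x hx => ?_
    rw [(ctx.pf_conj hd hπ hkH hx.1).2, hk']
  letI act : MulAction E0 Fam :=
    { smul := fun u S => ⟨(fun z => (u : P) * z * (u : P)⁻¹) '' S.1, hmove u S.1 S.2⟩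
      one_smul := fun S => Subtype.ext (by
        show (fun z => ((1 : E0) : P) * z * ((1 : E0) : P)⁻¹) '' S.1 = S.1
        simp)
      mul_smul := fun u w S => Subtype.ext (by
        show (fun z => ((u * w : E0) : P) * z * ((u * w : E0) : P)⁻¹) '' S.1 =
          (fun z => (u : P) * z * (u : P)⁻¹) '' ((fun z => (w : P) * z * (w : P)⁻¹) '' S.1)
        rw [Set.image_image]
        refine Set.image_congr fun z _ => ?_
        rw [Subgroup.coe_mul]; group) }
  have hfix : ∀ a (ha : a ∈ D) (hda : ¬ Commute d a),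
      (⟨f a, a, ⟨ha, hda⟩, rfl⟩ : Fam) ∈ MulAction.fixedPoints E0 Fam ↔ CsInv D d π a := by
    intro a ha hda
    constructor
    · intro hS d' hd' v hv
      obtain ⟨hv', x, hx, ex⟩ := hv
      obtain ⟨u, hu, hall⟩ := exists_diag hd'
      refine ⟨(hall v hv').1, ?_⟩
      have e := congrArg Subtype.val (hS ⟨u, hu⟩)
      have hm : u * tp v * u⁻¹ ∈ (fun z => u * z * u⁻¹) '' f a := ⟨tp v, ⟨x, hx, ex⟩, rfl⟩
      rw [show (fun z => u * z * u⁻¹) '' f a = f a from e, (hall v hv').2] at hm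
      exact hm
    · intro ha' u
      apply Subtype.ext
      obtain ⟨d', hd', hall⟩ := E0_spec u.2
      refine Set.eq_of_subset_of_ncard_le ?_ ?_ (Set.toFinite _)
      · rintro _ ⟨_, ⟨x, hx, rfl⟩, rfl⟩
        obtain ⟨v, hv, ev⟩ := ctx.pf_mem hd hπ hx.1
        obtain ⟨-, y, hy, ey⟩ := ha' d' hd' v ⟨hv, x, hx, ev.symm⟩
        refine ⟨y, hy, ?_⟩
        show pf π y = (u : P) * pf π x * (u : P)⁻¹
        rw [ey, ← ev, hall v hv]
      · exact (Set.ncard_image_of_injective _ fun a b h => mul_left_cancel (mul_right_cancel h)).ge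
  -- at most three fixed points
  have hcs : ∀ a, cs π (Nb D d ∩ Nb D a) = {v | v ∈ pts ∧ tp v ∈ f a} := fun a => rfl
  let g : MulAction.fixedPoints E0 Fam → Set Vec := fun S => {v | v ∈ pts ∧ tp v ∈ S.1.1}
  have hg : Function.Injective g := by
    rintro ⟨⟨_, a, ⟨ha, hda⟩, rfl⟩, h1⟩ ⟨⟨_, b, ⟨hb, hdb⟩, rfl⟩, h2⟩ e
    refine Subtype.ext (Subtype.ext (Set.ext fun z => ?_))
    have e' : ∀ v, (v ∈ pts ∧ tp v ∈ f a) ↔ (v ∈ pts ∧ tp v ∈ f b) := fun v => Set.ext_iff.1 e v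
    constructor
    · rintro ⟨x, hx, rfl⟩
      obtain ⟨v, hv, ev⟩ := ctx.pf_mem hd hπ hx.1
      show pf π x ∈ f b
      rw [← ev]
      exact ((e' v).1 ⟨hv, ev ▸ ⟨x, hx, rfl⟩⟩).2
    · rintro ⟨x, hx, rfl⟩
      obtain ⟨v, hv, ev⟩ := ctx.pf_mem hd hπ hx.1
      show pf π x ∈ f a
      rw [← ev]
      exact ((e' v).2 ⟨hv, ev ▸ ⟨x, hx, rfl⟩⟩).2
  let T : Finset (Set Vec) := ([mk6 1 1 1 1 1 1, mk6 1 1 1 1 1 om, mk6 1 1 1 1 1 (om + 1)].map
    fun r => {v | v ∈ pts ∧ (two v = true ∨ rep v = r)}).toFinset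
  have hle : Nat.card (MulAction.fixedPoints E0 Fam) ≤ 3 := by
    calc Nat.card (MulAction.fixedPoints E0 Fam)
        ≤ Nat.card (T : Set (Set Vec)) := by
          refine Nat.card_le_card_of_injective (fun S => ⟨g S, ?_⟩) fun a b e => hg (congrArg Subtype.val e)
          obtain ⟨⟨_, a, ⟨ha, hda⟩, rfl⟩, h1⟩ := S
          obtain ⟨r, hr, e⟩ := ctx.cs_shape hd hπ ha hda ((hfix a ha hda).1 h1)
          have hr' : r = mk6 1 1 1 1 1 1 ∨ r = mk6 1 1 1 1 1 om ∨ r = mk6 1 1 1 1 1 (om + 1) := by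
            simpa [veq_iff, or_assoc] using List.all_eq_true.1 fullReps_eq r hr
          show {v | v ∈ pts ∧ tp v ∈ f a} ∈ T
          rw [← hcs, e, List.mem_toFinset, List.mem_map]
          exact ⟨r, by simpa using hr', rfl⟩
      _ ≤ 3 := by
          rw [Nat.card_coe_set_eq, Set.ncard_coe_finset]
          exact (List.toFinset_card_le _).trans (by simp)
  have : Fact (Nat.Prime 3) := ⟨Nat.prime_three⟩
  have hmod := E0_pGroup.card_modEq_card_fixedPoints Fam
  have hone : Nat.card (MulAction.fixedPoints E0 Fam) = 1 := by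
    unfold Nat.ModEq at hmod
    omega
  obtain ⟨hsub, -⟩ := Nat.card_eq_one_iff_unique.1 hone
  have := hsub.elim ⟨_, (hfix c hc hdc).2 h⟩ ⟨_, (hfix c' hc' hdc').2 h'⟩
  exact hinj c' c (congrArg (fun S => S.1.1) this).symm

omit hd hπ

end Ctx

end CfsgLib.Sporadic.MTwentyTwo
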