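import Cfsg.Agent.Lib.Sporadic.MTwentyTwo.Action
import Cfsg.Agent.Lib.Sporadic.MTwentyTwo.Unique
import Cfsg.Agent.Lib.Sporadic.MTwentyTwo.ReduceData

/-!
# An element centralizing a member outside the group of its neighbours
-/

set_option autoImplicit false
set_option linter.unusedSectionVars false

namespace CfsgLib.Sporadic.MTwentyTwo

open Matrix CfsgLib.Sporadic.FischerTransitivity CfsgLib.Sporadic.FischerRankThree CfsgLib.KnownC.AutPSU
open CfsgLib.Sporadic.U62Lift (hf mat hf_mat mat_mul mat_one)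

attribute [local irreducible] pts tp orth veq comb tmv dmul sp

theorem cj0_eq (v : Vec) : cj0 v = fun i => v i * v i := by
  funext i
  simp only [cj0, mk6]
  fin_cases i <;> rfl

theorem dmul_eq (d v : Vec) : dmul d v = nz (fun i => d i * v i) := by
  unfold dmul
  congr 1
  funext i
  simp only [mk6]
  fin_cases i <;> rfl

theorem nz_mul_nz {d v : Vec} (hv : v ≠ 0) : nz (fun i => d i * nz v i) = nz (fun i => d i * v i) := by
  rw [← nz_smul (inv_ne_zero (sp_ne hv)) (fun i => d i * v i)]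
  congr 1
  funext i
  rw [nz_eq]
  simp only [Pi.smul_apply, smul_eq_mul]
  ring

theorem dmul_comm {d e v : Vec} (hd : ∀ i, d i ≠ 0) (he : ∀ i, e i ≠ 0) (hv : v ∈ pts) :
    dmul d (dmul e v) = dmul e (dmul d v) := by
  have h : ∀ a : Vec, (∀ i, a i ≠ 0) → (fun i => a i * v i) ≠ 0 := fun a ha h0 =>
    ne_zero_of_mem hv (funext fun i => (mul_eq_zero.1 (congrFun h0 i)).resolve_left (ha i))
  rw [dmul_eq d, dmul_eq e, dmul_eq e, dmul_eq d, nz_mul_nz (h e he), nz_mul_nz (h d hd)]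
  congr 1
  funext i
  ring

theorem prd_ne {d : Vec} (h : prd d = 1) (i : Fin 6) : d i ≠ 0 := fun h0 => one_ne_zero (α := K) (by
  rw [← h, prd_eq, Finset.prod_eq_zero (Finset.mem_univ i) h0])

theorem cj0_dmul {d v : Vec} (hd : prd d = 1) (hv : v ∈ pts) (hdv : dmul (fun i => d i * d i) v ∈ pts) :
    dmul d (cj0 v) = cj0 (dmul (fun i => d i * d i) v) := by
  have h := all_pts cj0_nz hdv
  simp only [Bool.and_eq_true, veq_iff] at h
  rw [← h.1, dmul_eq d, dmul_eq (fun i => d i * d i)]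
  have h4 : ∀ a b : K, (a * a * b) * (a * a * b) = a * (b * b) := by decide
  have h0 : (fun i => d i * d i * v i) ≠ 0 := fun h0 =>
    ne_zero_of_mem hv (funext fun i =>
      (mul_eq_zero.1 (congrFun h0 i)).resolve_left (mul_ne_zero (prd_ne hd i) (prd_ne hd i)))
  rw [← nz_smul (c := (sp fun i => d i * d i * v i)⁻¹ * (sp fun i => d i * d i * v i)⁻¹)
    (mul_ne_zero (inv_ne_zero (sp_ne h0)) (inv_ne_zero (sp_ne h0))) (fun i => d i * cj0 v i), cj0_eq v,
    cj0_eq (nz _)]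
  congr 1
  funext i
  rw [nz_eq]
  simp only [Pi.smul_apply, smul_eq_mul]
  linear_combination -(sp fun i => d i * d i * v i)⁻¹ * (sp fun i => d i * d i * v i)⁻¹ * h4 (d i) (v i)

variable {G : Type*} [Group G] {D : Set G}

/-- An involution acting as the field automorphism after a transvection, fixing an invariant neighbourhood. -/
structure Sig (D : Set G) (d : G) (π : HG D d →* P) (c₀ σ : G) : Prop where
  hd : d ∈ D
  hπ : IsPi D d π
  hc : c₀ ∈ D
  hdc : ¬ Commute d c₀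
  hS : cs π (Nb D d ∩ Nb D c₀) = {v | v ∈ pts ∧ inS0 v = true}
  comm : Commute σ d
  comm₀ : Commute σ c₀
  invol : σ * σ = 1
  act : Act D d π σ sg

variable [Finite G] (ctx : Ctx D)
include ctx

namespace Ctx

variable {d : G} (hd : d ∈ D) {π : HG D d →* P} (hπ : IsPi D d π)
include hd hπ

/-- The image of an invariant neighbourhood under a map commuting with the diagonal group. -/
theorem cs_image {k : G} (hk : Commute k d) {f : Vec → Vec} (hf' : Act D d π k f) {c : G}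
    {v : Vec} (hv : v ∈ cs π (Nb D d ∩ Nb D c)) : f v ∈ cs π (Nb D d ∩ Nb D (k * c * k⁻¹)) := by
  obtain ⟨hv', x, hx, e⟩ := hv
  obtain ⟨h1, h2⟩ := hf' x hx.1 v hv' e
  exact ⟨h1, _, ⟨nb_fix ctx.hD hk hx.1, nb_conj ctx.hD k hx.2⟩, h2⟩

theorem fix_invariant {k : G} (hk : Commute k d) {f : Vec → Vec} (hf' : Act D d π k f) {c : G}
    (hc : c ∈ D) (hdc : ¬ Commute d c) (hinv : CsInv D d π c)
    (hcomm : ∀ d', prd d' = 1 → ∃ d'', prd d'' = 1 ∧
      ∀ v ∈ pts, dmul d'' v ∈ pts → dmul d' (f v) = f (dmul d'' v)) :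
    k * c * k⁻¹ = c ∨ k * c * k⁻¹ = d * c * d⁻¹ := by
  have hkd : k * d * k⁻¹ = d := by rw [hk.eq, mul_inv_cancel_right]
  refine ctx.csInv_unique hd hπ hc hdc hinv (ctx.hD.2.1 k c hc) ?_ ?_
  · exact fun h => hdc ((Commute.conj_iff k).1 (by rwa [hkd]))
  · intro d' hd' w hw
    obtain ⟨hw', y, hy, ey⟩ := hw
    have hx : k⁻¹ * y * k ∈ Nb D d ∩ Nb D c := by
      have h1 := nb_fix ctx.hD hk.inv_left hy.1
      have h2 := nb_conj ctx.hD k⁻¹ hy.2
      rw [inv_inv] at h1 h2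
      exact ⟨h1, by rwa [show k⁻¹ * (k * c * k⁻¹) * k = c by group] at h2⟩
    obtain ⟨v, hv, ev⟩ := ctx.exists_point hd hπ hx.1
    obtain ⟨hfv, e2⟩ := hf' _ hx.1 v hv ev
    rw [show k * (k⁻¹ * y * k) * k⁻¹ = y by group] at e2
    have hwv : w = f v := tp_inj hw' hfv (ey.symm.trans e2)
    obtain ⟨d'', hd'', hall⟩ := hcomm d' hd'
    have hm := hinv d'' hd'' v ⟨hv, _, hx, ev⟩
    rw [hwv, hall v hv hm.1]
    exact ctx.cs_image hd hπ hk hf' hm

theorem linear_mem {g : G} (hg : Commute g d) {A : GU6} {τ : K ≃+* K} (hτ : ∀ a, τ a = a)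
    (hA : Act D d π g (phi A τ)) : g ∈ HG D d := by
  have hphi : ∀ v, phi A τ v = nz (umat A *ᵥ v) := fun v => by rw [phi, semiVec_linear A hτ]
  set δ := (umat A).det with hδ
  have hδ0 : δ ≠ 0 := umat_det_ne A
  obtain ⟨B, hB, hBdet⟩ := exists_diag_gu hδ0
  obtain ⟨s, hs⟩ := exists_su (A := B⁻¹ * A) (by
    have h1 : (umat B⁻¹).det * δ = 1 := by rw [← hBdet, ← Matrix.det_mul, umat_inv_mul, Matrix.det_one]
    rw [umat_mul, Matrix.det_mul, ← hδ, h1])
  have hs' : ∀ x, umat B *ᵥ (mat s *ᵥ x) = umat A *ᵥ x := fun x => by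
    rw [hs, Matrix.mulVec_mulVec, umat_mul, ← Matrix.mul_assoc, umat_mul_inv, Matrix.one_mul]
  obtain ⟨h, hh, hhs, hhd⟩ := ctx.exists_HG hd hπ s⁻¹
  have hk : Commute (g * h) d := hg.mul_left hhd
  have hact : Act D d π (g * h) (dmul (mk6 δ 1 1 1 1 1)) := by
    refine Act.congr ctx hd hπ (Act.comp ctx hd hπ hhd hA (ctx.act_HG hd hπ hh hhs)) fun v hv => ?_
    have h0 : mat s⁻¹ *ᵥ v ≠ 0 := fun e => ne_zero_of_mem hv (by
      have := congrArg (fun y => mat s *ᵥ y) e
      simpa only [← mat_mul, mul_inv_cancel, mat_one, mulVec_zero] using this)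
    show phi A τ (nz (mat s⁻¹ *ᵥ v)) = _
    rw [hphi, nz_eq (mat s⁻¹ *ᵥ v), mulVec_smul, nz_smul (inv_ne_zero (sp_ne h0)), ← hs', ← mat_mul,
      mul_inv_cancel, mat_one, hB, dmul_eq]
    congr 1
    funext i
    exact Matrix.mulVec_diagonal _ _ i
  by_cases hone : δ = 1
  · have hid : Act D d π (g * h) id := Act.congr ctx hd hπ hact fun v hv => by
      rw [dmul_eq, hone]
      show _ = v
      conv_rhs => rw [← nz_self hv]
      congr 1
      funext i
      fin_cases i <;> simp [mk6]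
    have hmem : g * h ∈ HG D d := by
      rcases ctx.eq_of_act_id hd hπ hid hk with e | e <;> rw [e]
      · exact one_mem _
      · exact ctx.self_mem_HG hd
    simpa using mul_mem hmem (inv_mem hh)
  · exfalso
    obtain ⟨c, hc, hdc, hinv⟩ := ctx.exists_csInv hd hπ
    obtain ⟨r, hr, hcs⟩ := ctx.cs_shape hd hπ hc hdc hinv
    have he : ∀ i, mk6 δ 1 1 1 1 1 i ≠ 0 := by intro i; fin_cases i <;> simp [mk6, hδ0]
    have hfix := ctx.fix_invariant hd hπ hk hact hc hdc hinv fun d' hd' =>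
      ⟨d', hd', fun v hv _ => dmul_comm (prd_ne hd') he hv⟩
    have heq := (ctx.common_eq_iff hd hc hdc (ctx.hD.2.1 (g * h) c hc) (fun h' => hdc
      ((Commute.conj_iff (g * h)).1 (by rwa [hk.eq, mul_inv_cancel_right])))).2 hfix
    have hr' := mem_fullReps.1 hr
    have hm := ctx.cs_image hd hπ hk hact (c := c) (v := r) (by
      rw [hcs]; exact ⟨(mem_reps.1 hr'.1).1, Or.inr (mem_reps.1 hr'.1).2⟩)
    rw [heq, hcs] at hm
    have hd1 := List.all_eq_true.1 diag_moves r hr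
    have hd2 := List.all_eq_true.1 full_moved r hr
    simp only [Bool.and_eq_true, beq_iff_eq, Bool.not_eq_true'] at hd1 hd2
    have hne : ∀ {a b : Vec}, veq a b = false → a ≠ b := fun h e => by
      rw [e, veq_self] at h; exact Bool.noConfusion h
    rcases k_cases δ with e | e | e | e
    · exact hδ0 e
    · exact hone e
    · rw [e] at hm
      rcases hm.2 with h' | h'
      · rw [hd2.1] at h'; exact Bool.noConfusion h'
      · exact hne hd1.1 h'
    · rw [e] at hm
      rcases hm.2 with h' | h'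
      · rw [hd2.2.1] at h'; exact Bool.noConfusion h'
      · exact hne hd1.2 h'

omit hπ

theorem exists_sig {g : G} (hg : Commute g d) (hn : g ∉ HG D d) :
    ∃ (π : HG D d →* P) (c σ : G), Sig D d π c σ := by
  obtain ⟨π₀, hπ₀⟩ := ctx.exists_pi hd
  obtain ⟨A, τ, hA⟩ := ctx.exists_action hd hπ₀ hg
  rcases ringAut_cases τ with hτ | hτ
  · exact absurd (ctx.linear_mem hd hπ₀ hg hτ hA) hn
  -- a picture in which the matrix has determinant one
  obtain ⟨B, -, hBdet⟩ := exists_diag_gu (umat_det_ne A)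
  let π : HG D d →* P := (semiAut B 1).toMonoidHom.comp π₀
  have hπ : IsPi D d π := by
    refine ⟨(semiAut B 1).surjective.comp hπ₀.surj, ?_⟩
    rw [← hπ₀.ker]
    ext x
    simp [π, MonoidHom.mem_ker]
  have hpf : ∀ x ∈ HG D d, pf π x = semiAut B 1 (pf π₀ x) := fun x hx => by
    rw [pf_eq π hx, pf_eq π₀ hx]; rfl
  set A' : GU6 := B * A * (gMap τ B)⁻¹
  have hdet : (umat A').det = 1 := by
    have h1 : (umat (gMap τ B)⁻¹).det * τ (umat A).det = 1 := by
      rw [← hBdet, ← det_gMap, ← Matrix.det_mul, umat_inv_mul, Matrix.det_one]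
    rw [umat_mul, umat_mul, Matrix.det_mul, Matrix.det_mul, hBdet]
    rw [hτ] at h1
    linear_combination h1
  obtain ⟨s, hs⟩ := exists_su hdet
  have hact : Act D d π g fun v => nz (mat s *ᵥ cj0 v) := by
    intro x hx v hv e
    obtain ⟨u, hu, eu⟩ := ctx.exists_point hd hπ₀ hx
    have hv' : v = phi B 1 u := by
      refine tp_inj hv (phi_mem B 1 hu) ?_
      rw [← semiAut_tp B 1 hu, ← e, hpf x (mem_HG hx), eu]
    obtain ⟨h1, h2⟩ := hA x hx u hu eu
    have key : nz (mat s *ᵥ cj0 v) = phi B 1 (phi A τ u) := by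
      have hl : ∀ w, phi B 1 w = nz (umat B *ᵥ w) := fun w => by
        rw [phi, semiVec_linear B (τ := 1) fun a => rfl]
      have hBu : umat B *ᵥ u ≠ 0 := by
        rw [← semiVec_linear B (τ := 1) (fun a => rfl) u]
        exact semiVec_ne_zero B 1 (ne_zero_of_mem hu)
      have hc : cj0 v = ((sp (umat B *ᵥ u))⁻¹ * (sp (umat B *ᵥ u))⁻¹) •
          (umat (gMap τ B) *ᵥ fun i => u i * u i) := by
        rw [hv', hl, cj0_eq, umat_gMap]
        funext i
        have hmv := RingHom.map_mulVec τ.toRingHom (umat B) u i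
        simp only [RingEquiv.toRingHom_eq_coe, RingHom.coe_coe, Function.comp_def, hτ] at hmv
        rw [nz_eq]
        simp only [Pi.smul_apply, smul_eq_mul]
        rw [show (umat B).map τ *ᵥ (fun i => u i * u i) = _ from rfl, ← hmv]
        ring
      rw [hc, mulVec_smul, nz_smul (mul_ne_zero (inv_ne_zero (sp_ne hBu)) (inv_ne_zero (sp_ne hBu))), hs,
        Matrix.mulVec_mulVec, ← umat_mul, inv_mul_cancel_right, hl, phi, semiVec_conj A hτ,
        nz_eq (umat A *ᵥ _), mulVec_smul, nz_smul (inv_ne_zero (sp_ne ?_)), Matrix.mulVec_mulVec, ← umat_mul]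
      rw [← semiVec_conj A hτ]
      exact semiVec_ne_zero A τ (ne_zero_of_mem hu)
    show nz (mat s *ᵥ cj0 v) ∈ pts ∧ pf π (g * x * g⁻¹) = tp (nz (mat s *ᵥ cj0 v))
    rw [key]
    refine ⟨phi_mem B 1 h1, ?_⟩
    rw [hpf _ (mem_HG (nb_fix ctx.hD hg hx)), h2]
    exact semiAut_tp B 1 h1
  obtain ⟨h, hh, hhs, hhd⟩ := ctx.exists_HG hd hπ s⁻¹
  have hcj : ∀ v ∈ pts, cj0 v ∈ pts ∧ nz (cj0 v) = cj0 v := fun v hv => by
    have h' := all_pts cj0_nz hv
    simp only [Bool.and_eq_true, veq_iff] at h'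
    exact ⟨mem_pts.2 h'.2, h'.1⟩
  -- the field automorphism
  have hgd : Commute (h * g) d := hhd.mul_left hg
  have hcjact : Act D d π (h * g) cj0 := by
    refine Act.congr ctx hd hπ (Act.comp ctx hd hπ hg (ctx.act_HG hd hπ hh hhs) hact) fun v hv => ?_
    have h0 : mat s *ᵥ cj0 v ≠ 0 := fun e => ne_zero_of_mem (hcj v hv).1 (by
      have := congrArg (fun y => mat s⁻¹ *ᵥ y) e
      simpa only [← mat_mul, inv_mul_cancel, mat_one, mulVec_zero] using this)
    show nz (mat s⁻¹ *ᵥ nz (mat s *ᵥ cj0 v)) = cj0 v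
    rw [nz_eq (mat s *ᵥ cj0 v), mulVec_smul, nz_smul (inv_ne_zero (sp_ne h0)), ← mat_mul, inv_mul_cancel,
      mat_one, (hcj v hv).2]
  obtain ⟨c, hc, hdc, hinv⟩ := ctx.exists_csInv hd hπ
  obtain ⟨r, hr, hcs⟩ := ctx.cs_shape hd hπ hc hdc hinv
  have hfix := ctx.fix_invariant hd hπ hgd hcjact hc hdc hinv fun d' hd' => by
    have hd'' : prd (fun i => d' i * d' i) = 1 := by
      have : prd (fun i => d' i * d' i) = prd d' * prd d' := by simp only [prd]; ring
      rw [this, hd', one_mul]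
    exact ⟨_, hd'', fun v hv hm => cj0_dmul hd' hv hm⟩
  have hr' := mem_fullReps.1 hr
  have hrpj : r = pj := by
    have hm := ctx.cs_image hd hπ hgd hcjact (c := c) (v := r) (by
      rw [hcs]; exact ⟨(mem_reps.1 hr'.1).1, Or.inr (mem_reps.1 hr'.1).2⟩)
    rw [(ctx.common_eq_iff hd hc hdc (ctx.hD.2.1 (h * g) c hc) (fun h' => hdc
      ((Commute.conj_iff (h * g)).1 (by rwa [hgd.eq, mul_inv_cancel_right])))).2 hfix, hcs] at hm
    have hd2 := List.all_eq_true.1 full_moved r hr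
    simp only [Bool.and_eq_true, Bool.not_eq_true'] at hd2
    have hcl := List.all_eq_true.1 conj_class r hr
    rcases hm.2 with h' | h'
    · rw [hd2.2.2.2] at h'; exact Bool.noConfusion h'
    · rw [h', veq_self] at hcl
      simp only [beq_iff_eq] at hcl
      exact veq_iff.1 hcl.symm
  -- fix the neighbourhood
  obtain ⟨k, hkd, hkc, hkact⟩ : ∃ k, Commute k d ∧ Commute k c ∧ Act D d π k cj0 := by
    rcases hfix with e | e
    · exact ⟨h * g, hgd, (eq_mul_inv_iff_mul_eq.1 e.symm).symm, hcjact⟩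
    · refine ⟨d * (h * g), (Commute.refl d).mul_left hgd, ?_,
        Act.congr ctx hd hπ (Act.comp ctx hd hπ hgd (ctx.act_self hd hπ) hcjact) fun v _ => rfl⟩
      have e2 : d * (h * g) * c * (d * (h * g))⁻¹ = c := by
        calc d * (h * g) * c * (d * (h * g))⁻¹ = d * ((h * g) * c * (h * g)⁻¹) * d⁻¹ := by group
          _ = d * (d * c * d⁻¹) * d⁻¹ := by rw [e]
          _ = (d * d) * c * (d * d)⁻¹ := by group
          _ = c := by rw [FischerTransitivity.sq ctx.hD hd, one_mul, inv_one, mul_one]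
      exact (eq_mul_inv_iff_mul_eq.1 e2.symm).symm
  have hS : cs π (Nb D d ∩ Nb D c) = {v | v ∈ pts ∧ inS0 v = true} := by
    rw [hcs, hrpj]
    ext v
    simp only [inS0, Set.mem_ofPred_eq, Bool.or_eq_true, veq_iff]
  have hpj : pj ∈ pts := mem_pts.2 (by decide +kernel)
  obtain ⟨x, hx, hxc, hxe⟩ : ∃ x ∈ Nb D d, x ∈ Nb D c ∧ pf π x = tp pj := by
    have hm : pj ∈ cs π (Nb D d ∩ Nb D c) := by
      rw [hS]; exact ⟨hpj, by decide +kernel⟩
    obtain ⟨-, x, hx, e⟩ := hm
    exact ⟨x, hx.1, hx.2, e⟩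
  have hact' : Act D d π (k * x) sg :=
    Act.congr ctx hd hπ (Act.comp ctx hd hπ hx.2.2.symm hkact (ctx.act_member hd hπ hx hpj hxe)) fun v _ => rfl
  have hσd : Commute (k * x) d := hkd.mul_left hx.2.2.symm
  have hσc : Commute (k * x) c := hkc.mul_left hxc.2.2.symm
  refine ⟨π, c, k * x, hd, hπ, hc, hdc, hS, hσd, hσc, ?_, hact'⟩
  have hid : Act D d π ((k * x) * (k * x)) id :=
    Act.congr ctx hd hπ (Act.comp ctx hd hπ hσd hact' hact') fun v hv =>
      veq_iff.1 (all_pts sg_sq hv)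
  rcases ctx.eq_of_act_id hd hπ hid (hσd.mul_left hσd) with e | e
  · exact e
  · exact absurd (e ▸ hσc.mul_left hσc) hdc

omit hd

end Ctx

end CfsgLib.Sporadic.MTwentyTwo
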