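import Cfsg.Agent.Lib.Sporadic.MTwentyTwo.Points
import Cfsg.Agent.Lib.KnownC.AutPSU.Outer

/-!
# Semilinear automorphisms of `PSU₆(2)` acting on the points
-/

set_option autoImplicit false
set_option linter.unusedSectionVars false

namespace CfsgLib.Sporadic.MTwentyTwo

open Matrix CfsgLib.Sporadic.U62Lift CfsgLib.KnownC.AutPSU

attribute [local irreducible] pts

instance factK : Fact (Fintype.card K = 2 ^ 2) := ⟨by rw [hK]; norm_num⟩

/-- The general unitary group. -/
abbrev GU6 : Type := ↥(Cfsg.GU 6 K 2)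

/-- The form is preserved up to the field automorphism. -/
theorem hf_semiVec (A : GU6) (τ : K ≃+* K) (v w : Vec) :
    hf (semiVec A τ v) (semiVec A τ w) = τ (hf v w) := by
  obtain ⟨θ, hθ, -⟩ := CfsgLib.Classical.exists_frob (F := K) (q := 2) factK.out
  show Cfsg.hermForm 6 K 2 _ _ = τ (Cfsg.hermForm 6 K 2 _ _)
  rw [CfsgLib.Classical.hermForm_eq_stdHerm hθ, CfsgLib.Classical.hermForm_eq_stdHerm hθ]
  exact semiVec_form hθ A τ w v

theorem semiVec_ne_zero (A : GU6) (τ : K ≃+* K) {v : Vec} (hv : v ≠ 0) : semiVec A τ v ≠ 0 := by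
  intro h
  apply hv
  refine eq_zero_of_hf fun x => ?_
  apply τ.injective
  rw [map_zero, ← hf_semiVec A τ x v, h]
  simp [hf, Cfsg.hermForm]

/-- The map on the points. -/
def phi (A : GU6) (τ : K ≃+* K) (v : Vec) : Vec := nz (semiVec A τ v)

theorem phi_mem (A : GU6) (τ : K ≃+* K) {v : Vec} (hv : v ∈ pts) : phi A τ v ∈ pts :=
  nz_mem (semiVec_ne_zero A τ (ne_zero_of_mem hv)) (by rw [hf_semiVec, iso_of_mem hv, map_zero])

theorem semiAut_tp (A : GU6) (τ : K ≃+* K) {v : Vec} (hv : v ∈ pts) :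
    semiAut A τ (tp v) = tp (phi A τ v) := by
  have hi : hf (semiVec A τ v) (semiVec A τ v) = 0 := by rw [hf_semiVec, iso_of_mem hv, map_zero]
  rw [phi, tp_nz (semiVec_ne_zero A τ (ne_zero_of_mem hv)) hi]
  show semiAut A τ (QuotientGroup.mk (tr hK v)) = _
  rw [semiAut_mk]
  refine congrArg QuotientGroup.mk (mat_ext fun x => ?_)
  obtain ⟨y, rfl⟩ := semiVec_surjective A τ x
  rw [mat_tr hK hi, hf_semiVec]
  refine (semiHom_mulVec A τ (tr hK v) y).trans ?_
  show semiVec A τ (mat (tr hK v) *ᵥ y) = _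
  rw [mat_tr hK (iso_of_mem hv), semiVec_add, semiVec_smul]

theorem om_roots : ∀ a : K, a * a + a + 1 = 0 → a = om ∨ a = om + 1 := by decide

theorem om_rel : om * om + om + 1 = 0 := by decide

theorem k_cases : ∀ a : K, a = 0 ∨ a = 1 ∨ a = om ∨ a = om + 1 := by decide

/-- There are two field automorphisms. -/
theorem ringAut_cases (τ : K ≃+* K) : (∀ a, τ a = a) ∨ ∀ a, τ a = a * a := by
  have h := congrArg τ om_rel
  simp only [map_add, map_mul, map_one, map_zero] at h
  have e : om * om = om + 1 ∧ (om + 1) * (om + 1) = om := by decide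
  have e2 : om + 1 + 1 = om := by decide
  rcases om_roots _ h with ho | ho
  · left
    intro a
    rcases k_cases a with rfl | rfl | rfl | rfl
    · exact map_zero _
    · exact map_one _
    · exact ho
    · rw [map_add, map_one, ho]
  · right
    intro a
    rcases k_cases a with rfl | rfl | rfl | rfl
    · simp
    · simp
    · rw [ho, e.1]
    · rw [map_add, map_one, ho, e2, e.2]

theorem semiVec_linear (A : GU6) {τ : K ≃+* K} (h : ∀ a, τ a = a) (v : Vec) :
    semiVec A τ v = umat A *ᵥ v := by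
  simp only [semiVec, h]

theorem semiVec_conj (A : GU6) {τ : K ≃+* K} (h : ∀ a, τ a = a * a) (v : Vec) :
    semiVec A τ v = umat A *ᵥ fun i => v i * v i := by
  simp only [semiVec, h]

/-- An element of the special group with a given matrix, over any field. -/
theorem exists_su_aux {F : Type} [Field F] {A : ↥(Cfsg.GU 6 F 2)}
    (h : (((A : GL (Fin 6) F)) : Matrix (Fin 6) (Fin 6) F).det = 1) :
    ∃ s : ↥(Cfsg.SU 6 F 2), ∀ x,
      mat s *ᵥ x = (((A : GL (Fin 6) F)) : Matrix (Fin 6) (Fin 6) F) *ᵥ x :=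
  ⟨⟨⟨_, h⟩, A.2⟩, fun _ => rfl⟩

/-- An element of the special group with a given matrix. -/
theorem exists_su {A : GU6} (h : (umat A).det = 1) : ∃ s : SU, ∀ x, mat s *ᵥ x = umat A *ᵥ x :=
  exists_su_aux h

theorem exists_diag_gu {δ : K} (hδ : δ ≠ 0) :
    ∃ A : GU6, umat A = Matrix.diagonal (mk6 δ 1 1 1 1 1) ∧ (umat A).det = δ := by
  have hd : ∀ i, mk6 δ 1 1 1 1 1 i ≠ 0 := by intro i; fin_cases i <;> simp [mk6, hδ]
  have hdet : (Matrix.diagonal (mk6 δ 1 1 1 1 1)).det = δ := by
    rw [Matrix.det_diagonal]; simp [Fin.prod_univ_six, mk6]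
  let u : GL (Fin 6) K := Matrix.GeneralLinearGroup.mkOfDetNeZero (Matrix.diagonal (mk6 δ 1 1 1 1 1))
    (by rw [hdet]; exact hδ)
  refine ⟨⟨u, ?_⟩, rfl, hdet⟩
  intro x y
  show Cfsg.hermForm 6 K 2 (Matrix.diagonal _ *ᵥ x) (Matrix.diagonal _ *ᵥ y) = Cfsg.hermForm 6 K 2 x y
  simp only [Cfsg.hermForm, Matrix.mulVec_diagonal]
  refine Finset.sum_congr rfl fun i _ => ?_
  have h3 : ∀ a : K, a ≠ 0 → ∀ b c : K, a * b * (a * c) ^ 2 = b * c ^ 2 := by decide
  exact h3 _ (hd i) _ _

/-- The points fixed by a semilinear involution and not orthogonal to a fixed point. -/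
theorem fixed_count (A : GU6) {τ : K ≃+* K} (hτ : ∀ a, τ a = a * a) {D0 C0 : Vec} (hD : D0 ∈ pts)
    (hC : C0 ∈ pts) (hDC : hf D0 C0 ≠ 0) (hfD : phi A τ D0 = D0) (hfC : phi A τ C0 = C0)
    {S : Finset Vec} (hS : S.card = 15)
    (hSmem : ∀ v ∈ S, v ∈ pts ∧ phi A τ v = v ∧ hf v D0 = 0 ∧ hf v C0 = 0) :
    {v | v ∈ pts ∧ phi A τ v = v ∧ hf v D0 ≠ 0}.ncard = 32 ∧
      ∀ v ∈ pts, phi A τ v = v → hf v D0 ≠ 0 → hf v C0 = 0 ∨ hf (tmv D0 v) C0 = 0 := by
  classical
  have h3 : ∀ a : K, a ≠ 0 → a * (a * a) = 1 := by decide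
  have hsq : ∀ a : K, a * a = a → a = 0 ∨ a = 1 := by decide
  have hpw : ∀ a : K, a ^ 2 = a * a := fun a => pow_two a
  -- the partner with form value one
  set c := hf C0 D0
  have hc : c ≠ 0 := fun e => hDC (hf_eq_zero_symm hK e)
  set C1 := c⁻¹ • C0 with hC1def
  have hCD : hf C1 D0 = 1 := by rw [hC1def, hf_smul_left, inv_mul_cancel₀ hc]
  have hDC1 : hf D0 C1 = 1 := by rw [hf_symm hK C1 D0, hCD, one_pow]
  have hCC : hf C1 C1 = 0 := by rw [hC1def, hf_smul_left, hf_smul_right, iso_of_mem hC, mul_zero, mul_zero]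
  have hDD := iso_of_mem hD
  clear_value C1
  set T := semiVec A τ
  have hTadd : ∀ x y, T (x + y) = T x + T y := semiVec_add A τ
  have hTsmul : ∀ (a : K) x, T (a • x) = (a * a) • T x := fun a x => by
    show semiVec A τ _ = _
    rw [semiVec_smul, hτ]
  have hTD : ∃ a : K, a ≠ 0 ∧ T D0 = a • D0 := by
    refine ⟨sp (T D0), sp_ne (semiVec_ne_zero A τ (ne_zero_of_mem hD)), ?_⟩
    have := hfD
    rw [phi, nz_eq] at this
    calc T D0 = sp (T D0) • ((sp (T D0))⁻¹ • T D0) :=
          (smul_inv_smul₀ (sp_ne (semiVec_ne_zero A τ (ne_zero_of_mem hD))) _).symm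
      _ = sp (T D0) • D0 := by rw [show (sp (T D0))⁻¹ • T D0 = D0 from this]
  have hTC : ∃ b : K, T C1 = b • C1 := by
    refine ⟨c⁻¹ * c⁻¹ * sp (T C0) * c, ?_⟩
    rw [hC1def, hTsmul, smul_smul, mul_assoc _ c c⁻¹, mul_inv_cancel₀ hc, mul_one]
    have := hfC
    rw [phi, nz_eq] at this
    have e : T C0 = sp (T C0) • C0 := by
      calc T C0 = sp (T C0) • ((sp (T C0))⁻¹ • T C0) :=
            (smul_inv_smul₀ (sp_ne (semiVec_ne_zero A τ (ne_zero_of_mem hC))) _).symm
        _ = sp (T C0) • C0 := by rw [show (sp (T C0))⁻¹ • T C0 = C0 from this]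
    conv_lhs => rw [e]
    rw [smul_smul]
  obtain ⟨a, ha, eD⟩ := hTD
  obtain ⟨b, eC⟩ := hTC
  have hab : a = b := by
    have h := hf_semiVec A τ C1 D0
    rw [show semiVec A τ C1 = T C1 from rfl, show semiVec A τ D0 = T D0 from rfl, eD, eC, hf_smul_left,
      hf_smul_right, hCD, map_one, mul_one, hpw] at h
    calc a = a * (b * (a * a)) := by rw [h, mul_one]
      _ = b * (a * (a * a)) := by ring
      _ = b := by rw [h3 a ha, mul_one]
  subst hab
  -- the normalised involution
  set T' : Vec → Vec := fun x => a⁻¹ • T x with hT'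
  have hT'add : ∀ x y, T' (x + y) = T' x + T' y := fun x y => by simp [hT', hTadd, smul_add]
  have hT'smul : ∀ (k : K) x, T' (k • x) = (k * k) • T' x := fun k x => by
    simp only [hT', hTsmul]; rw [smul_comm]
  have hT'D : T' D0 = D0 := by simp only [hT', eD, inv_smul_smul₀ ha]
  have hT'C : T' C1 = C1 := by simp only [hT', eC, inv_smul_smul₀ ha]
  have hT'hf : ∀ x y, hf (T' x) (T' y) = hf x y * hf x y := fun x y => by
    simp only [hT', hf_smul_left, hf_smul_right, hpw]
    rw [show hf (T x) (T y) = τ (hf x y) from hf_semiVec A τ x y, hτ]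
    linear_combination (hf x y * hf x y) * h3 a⁻¹ (inv_ne_zero ha)
  have hphi : ∀ v, phi A τ v = nz (T' v) := fun v => by
    rw [hT', nz_smul (inv_ne_zero ha)]; rfl
  clear_value T'
  -- the fixed vectors orthogonal to both
  set W : Set Vec := {w | T' w = w ∧ hf w D0 = 0 ∧ hf w C1 = 0} with hW
  have hWle : W.ncard ≤ 16 := by
    have key : Set.InjOn (fun p : (Vec × Vec) × (K × K) => p.1.1 + om • p.1.2 + p.2.1 • C1 + p.2.2 • D0)
        ((W ×ˢ W) ×ˢ (Set.univ : Set (K × K))) := by
      rintro ⟨⟨w1, w2⟩, x, y⟩ ⟨⟨h1, h2⟩, -⟩ ⟨⟨w1', w2'⟩, x', y'⟩ ⟨⟨h1', h2'⟩, -⟩ e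
      simp only at e h1 h2 h1' h2'
      have ex := congrArg (fun z => hf z D0) e
      simp only [hf_add_left, hf_smul_left, h1.2.1, h2.2.1, h1'.2.1, h2'.2.1, hCD, hDD, mul_zero, add_zero,
        zero_add, mul_one] at ex
      have ey := congrArg (fun z => hf z C1) e
      simp only [hf_add_left, hf_smul_left, h1.2.2, h2.2.2, h1'.2.2, h2'.2.2, hCC, hDC1, mul_zero, add_zero,
        zero_add, mul_one] at ey
      subst ex; subst ey
      simp only [add_left_inj] at e
      have e' := congrArg T' e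
      rw [hT'add, hT'add, hT'smul, hT'smul, h1.1, h2.1, h1'.1, h2'.1] at e'
      have hw2 : w2 = w2' := by
        have hd : (w1 + (om * om) • w2) + (w1 + om • w2) = (w1' + (om * om) • w2') + (w1' + om • w2') := by
          rw [e, e']
        have hone : om * om + om = 1 := by decide
        have hsum : ∀ u v : Vec, (u + (om * om) • v) + (u + om • v) = v := fun u v => by
          calc (u + (om * om) • v) + (u + om • v) = (u + u) + ((om * om) • v + om • v) := by abel
            _ = v := by rw [add_self_vec hK, zero_add, ← add_smul, hone, one_smul]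
        rwa [hsum, hsum] at hd
      subst hw2
      rw [add_left_inj] at e
      rw [e]
    have h := Set.ncard_le_ncard_of_injOn (t := (Set.univ : Set Vec)) _ (fun _ _ => Set.mem_univ _) key
      Set.finite_univ
    simp only [Set.ncard_prod, Set.ncard_univ, Nat.card_eq_fintype_card, hK, Fintype.card_pi,
      Fintype.card_prod, Finset.prod_const, Finset.card_univ, Fintype.card_fin] at h
    nlinarith [h]
  -- every fixed point orthogonal to both gives a fixed vector
  have hscale : ∀ v ∈ S, ∃ μ : K, μ ≠ 0 ∧ μ • v ∈ W := by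
    intro v hv
    obtain ⟨hv1, hv2, hv3, hv4⟩ := hSmem v hv
    have hne : T' v ≠ 0 := by
      simp only [hT']
      exact smul_ne_zero (inv_ne_zero ha) (semiVec_ne_zero A τ (ne_zero_of_mem hv1))
    set l := sp (T' v)
    have hl : l ≠ 0 := sp_ne hne
    have e1 : T' v = l • v := by
      conv_rhs => rw [← hv2, hphi, nz_eq, smul_inv_smul₀ hl]
    refine ⟨l⁻¹, inv_ne_zero hl, ?_, ?_, ?_⟩
    · rw [hT'smul, e1, smul_smul, mul_assoc, inv_mul_cancel₀ hl, mul_one]
    · rw [hf_smul_left, hv3, mul_zero]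
    · rw [hf_smul_left, hC1def, hf_smul_right, hv4, mul_zero, mul_zero]
  choose! μ hμ0 hμW using hscale
  have hWiso : ∀ w ∈ W, hf w w = 0 := by
    set W1 : Finset Vec := insert 0 (S.image fun v => μ v • v) with hW1
    have hnot : (0 : Vec) ∉ S.image fun v => μ v • v := by
      intro h
      obtain ⟨v, hv, e⟩ := Finset.mem_image.1 h
      exact (smul_eq_zero.1 e).elim (hμ0 v hv) (ne_zero_of_mem (hSmem v hv).1)
    have hcard : W1.card = 16 := by
      rw [hW1, Finset.card_insert_of_notMem hnot, Finset.card_image_of_injOn, hS]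
      intro u hu v hv e
      have := congrArg nz e
      rwa [nz_smul (hμ0 u hu), nz_smul (hμ0 v hv), nz_self (hSmem u hu).1, nz_self (hSmem v hv).1] at this
    have hsub : (↑W1 : Set Vec) ⊆ W := by
      rw [hW1, Finset.coe_insert, Finset.coe_image]
      rintro w (rfl | ⟨v, hv, rfl⟩)
      · refine ⟨?_, by simp [hf, Cfsg.hermForm], by simp [hf, Cfsg.hermForm]⟩
        have := hT'smul 0 0
        simpa using this
      · exact hμW v hv
    have e := Set.eq_of_subset_of_ncard_le hsub (by rw [Set.ncard_coe_finset, hcard]; exact hWle) (Set.toFinite _)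
    intro w hw
    rw [← e, hW1, Finset.coe_insert, Finset.coe_image] at hw
    rcases hw with rfl | ⟨v, hv, rfl⟩
    · simp [hf, Cfsg.hermForm]
    · rw [hf_smul_left, hf_smul_right, iso_of_mem (hSmem v hv).1, mul_zero, mul_zero]
  have hW16 : W.ncard = 16 := by
    refine le_antisymm hWle ?_
    have hs : Set.InjOn (fun v => μ v • v) ↑S := by
      intro u hu v hv e
      have := congrArg nz e
      simp only at this
      rwa [nz_smul (hμ0 u hu), nz_smul (hμ0 v hv), nz_self (hSmem u hu).1, nz_self (hSmem v hv).1] at this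
    have h0 : (0 : Vec) ∈ W := by
      refine ⟨?_, by simp [hf, Cfsg.hermForm], by simp [hf, Cfsg.hermForm]⟩
      have := hT'smul 0 0
      simpa using this
    have h1 : insert 0 ((fun v => μ v • v) '' ↑S) ⊆ W := Set.insert_subset h0 (by
      rintro w ⟨v, hv, rfl⟩; exact hμW v hv)
    have h2 := Set.ncard_le_ncard h1 (Set.toFinite _)
    have hn : (0 : Vec) ∉ (fun v => μ v • v) '' ↑S := by
      rintro ⟨v, hv, e⟩
      exact (smul_eq_zero.1 e).elim (hμ0 v hv) (ne_zero_of_mem (hSmem v hv).1)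
    rwa [Set.ncard_insert_of_notMem hn (Set.toFinite _),
      hs.ncard_image, Set.ncard_coe_finset, hS] at h2
  -- the vectors to count
  set g : K × Vec → Vec := fun p => C1 + p.1 • D0 + p.2 with hg
  have hgD : ∀ p : K × Vec, p.2 ∈ W → hf (g p) D0 = 1 := fun p hp => by
    simp only [hg, hf_add_left, hf_smul_left, hCD, hDD, hp.2.1, mul_zero, add_zero]
  have hgC : ∀ p : K × Vec, p.2 ∈ W → hf (g p) C1 = p.1 := fun p hp => by
    simp only [hg, hf_add_left, hf_smul_left, hCC, hDC1, hp.2.2, mul_one, zero_add, add_zero]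
  have hchar : ∀ v ∈ pts, phi A τ v = v → hf v D0 ≠ 0 →
      ∃ y w, (y = 0 ∨ y = 1) ∧ w ∈ W ∧ v = nz (g (y, w)) := by
    intro v hv hfv hvD
    set u := (hf v D0)⁻¹ • v with hu
    have huD : hf u D0 = 1 := by rw [hu, hf_smul_left, inv_mul_cancel₀ hvD]
    have hu0 : u ≠ 0 := smul_ne_zero (inv_ne_zero hvD) (ne_zero_of_mem hv)
    clear_value u
    obtain ⟨l, hl⟩ : ∃ l : K, T' u = l • u := by
      have hne : T' v ≠ 0 := by
        simp only [hT']
        exact smul_ne_zero (inv_ne_zero ha) (semiVec_ne_zero A τ (ne_zero_of_mem hv))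
      refine ⟨(hf v D0)⁻¹ * (hf v D0)⁻¹ * sp (T' v) * hf v D0, ?_⟩
      have := hfv
      rw [hphi, nz_eq] at this
      have e : T' v = sp (T' v) • v := by
        calc T' v = sp (T' v) • ((sp (T' v))⁻¹ • T' v) := (smul_inv_smul₀ (sp_ne hne) _).symm
          _ = sp (T' v) • v := by rw [this]
      rw [hu, hT'smul, smul_smul, mul_assoc _ (hf v D0), mul_inv_cancel₀ hvD, mul_one]
      conv_lhs => rw [e]
      rw [smul_smul]
    have hl1 : l = 1 := by
      have h := hT'hf u D0
      rw [hl, hT'D, hf_smul_left, huD, one_mul, mul_one] at h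
      exact h
    rw [hl1, one_smul] at hl
    have hy : hf u C1 * hf u C1 = hf u C1 := by
      have h := hT'hf u C1
      rw [hl, hT'C] at h
      exact h.symm
    set y := hf u C1
    have hyy : y * y = y := hy
    set w := u + C1 + y • D0 with hw
    clear_value w
    have hwW : w ∈ W := by
      refine ⟨?_, ?_, ?_⟩
      · rw [hw, hT'add, hT'add, hT'smul, hl, hT'C, hT'D, hyy]
      · rw [hw, hf_add_left, hf_add_left, hf_smul_left, huD, hCD, hDD, mul_zero, add_zero]
        exact (by decide : (1 : K) + 1 = 0)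
      · rw [hw, hf_add_left, hf_add_left, hf_smul_left, hCC, hDC1, mul_one, add_zero]
        have h2 : ∀ k : K, k + k = 0 := by decide
        exact h2 y
    refine ⟨y, w, hsq y hyy, hwW, ?_⟩
    have e : g (y, w) = u := by
      simp only [hg, hw]
      calc C1 + y • D0 + (u + C1 + y • D0) = u + ((C1 + y • D0) + (C1 + y • D0)) := by abel
        _ = u := by rw [add_self_vec hK, add_zero]
    rw [e, hu, nz_smul (inv_ne_zero hvD), nz_self hv]
  refine ⟨?_, fun v hv hfv hvD => ?_⟩
  · have hset : {v | v ∈ pts ∧ phi A τ v = v ∧ hf v D0 ≠ 0} = (fun p => nz (g p)) '' (({0, 1} : Set K) ×ˢ W) := by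
      ext v
      constructor
      · rintro ⟨hv, hfv, hvD⟩
        obtain ⟨y, w, hy, hw, e⟩ := hchar v hv hfv hvD
        exact ⟨(y, w), ⟨hy, hw⟩, e.symm⟩
      · rintro ⟨⟨y, w⟩, ⟨hy, hw⟩, rfl⟩
        have hD1 := hgD (y, w) hw
        have h0 : g (y, w) ≠ 0 := fun e => by rw [e] at hD1; simp [hf, Cfsg.hermForm] at hD1
        have hyy : y * y = y := by rcases hy with rfl | rfl <;> simp
        have hiso : hf (g (y, w)) (g (y, w)) = 0 := by
          simp only [hg]
          rw [hf_add_left, hf_add_left, hf_smul_left, hf_add_right hK, hf_add_right hK, hf_add_right hK,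
            hf_add_right hK, hf_add_right hK, hf_add_right hK, hf_smul_right, hf_smul_right, hf_smul_right,
            hCC, hCD, hDC1, hDD, hf_eq_zero_symm hK hw.2.2, hf_eq_zero_symm hK hw.2.1, hw.2.1, hw.2.2,
            hWiso w hw, hpw, hyy]
          have h2 : ∀ k : K, k + k = 0 := by decide
          simp [h2]
        refine ⟨nz_mem h0 hiso, ?_, ?_⟩
        · show phi A τ (nz (g (y, w))) = nz (g (y, w))
          have hfix : T' (g (y, w)) = g (y, w) := by
            simp only [hg]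
            rw [hT'add, hT'add, hT'smul, hT'C, hT'D, hw.1, hyy]
          rw [hphi, nz_eq (g (y, w)), hT'smul, hfix, nz_smul (mul_ne_zero (inv_ne_zero (sp_ne h0))
            (inv_ne_zero (sp_ne h0))), ← nz_eq]
        · show hf (nz (g (y, w))) D0 ≠ 0
          rw [nz_eq, hf_smul_left, hD1, mul_one]
          exact inv_ne_zero (sp_ne h0)
    rw [hset, Set.InjOn.ncard_image, Set.ncard_prod, hW16, Set.ncard_pair zero_ne_one]
    rintro ⟨y, w⟩ ⟨hy, hw⟩ ⟨y', w'⟩ ⟨hy', hw'⟩ e
    simp only at e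
    have h1 := hgD (y, w) hw
    have h2 := hgD (y', w') hw'
    have hk : g (y, w) = g (y', w') := by
      have hg0 : g (y, w) ≠ 0 := fun e => by rw [e] at h1; simp [hf, Cfsg.hermForm] at h1
      have hg0' : g (y', w') ≠ 0 := fun e => by rw [e] at h2; simp [hf, Cfsg.hermForm] at h2
      rw [nz_eq, nz_eq] at e
      have e1 := congrArg (fun z => hf z D0) e
      simp only [hf_smul_left, h1, h2, mul_one] at e1
      rw [e1] at e
      exact smul_right_injective Vec (inv_ne_zero (sp_ne hg0')) e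
    have hyy' := congrArg (fun z => hf z C1) hk
    simp only [hgC (y, w) hw, hgC (y', w') hw'] at hyy'
    subst hyy'
    simp only [hg, add_right_inj] at hk
    rw [hk]
  · obtain ⟨y, w, hy, hw, rfl⟩ := hchar v hv hfv hvD
    have hC' : ∀ z : Vec, hf z C1 = 0 → hf z C0 = 0 := fun z hz => by
      rw [hC1def, hf_smul_right] at hz
      exact (mul_eq_zero.1 hz).resolve_left (pow_ne_zero _ (inv_ne_zero hc))
    rcases hy with rfl | rfl
    · left
      refine hC' _ ?_
      rw [nz_eq, hf_smul_left, hgC (0, w) hw, mul_zero]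
    · right
      have hD1 := hgD (1, w) hw
      have h0 : g (1, w) ≠ 0 := fun e => by rw [e] at hD1; simp [hf, Cfsg.hermForm] at hD1
      refine hC' _ ?_
      rw [tmv_eq, nz_eq (g (1, w)), hf_smul_left, hD1, mul_one, nz_eq, hf_smul_left,
        ← smul_add, hf_smul_left, hf_add_left, hgC (1, w) hw, hDC1, (by decide : (1 : K) + 1 = 0), mul_zero,
        mul_zero]

end CfsgLib.Sporadic.MTwentyTwo
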