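import Cfsg.Agent.Lib.Sporadic.MTwentyTwo.Order
import Cfsg.Agent.Lib.Sporadic.MTwentyTwo.Semi
import Cfsg.Agent.Lib.KnownC.AutPSU.Main

/-!
# The action of the centralizer of a member on the points of its picture
-/

set_option autoImplicit false
set_option linter.unusedSectionVars false

namespace CfsgLib.Sporadic.MTwentyTwo

open Matrix CfsgLib.Sporadic.FischerTransitivity CfsgLib.Sporadic.FischerRankThree CfsgLib.KnownC.AutPSU
open CfsgLib.Sporadic.U62Lift (hf mat hf_mat mat_mul mat_one)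

attribute [local irreducible] pts tp orth veq comb tmv dmul

variable {G : Type*} [Group G] {D : Set G}

/-- Conjugation by `g` acts as `f` on the points of the picture at `d`. -/
def Act (D : Set G) (d : G) (π : HG D d →* P) (g : G) (f : Vec → Vec) : Prop :=
  ∀ x ∈ Nb D d, ∀ v ∈ pts, pf π x = tp v → f v ∈ pts ∧ pf π (g * x * g⁻¹) = tp (f v)

theorem nb_fix (hD : Cfsg.IsThreeTranspositionGroup D) {d g x : G} (hg : Commute g d) (hx : x ∈ Nb D d) :
    g * x * g⁻¹ ∈ Nb D d := by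
  have := nb_conj hD g hx
  rwa [hg.eq, mul_inv_cancel_right] at this

variable [Finite G] (ctx : Ctx D)
include ctx

namespace Ctx

variable {d : G} (hd : d ∈ D) {π : HG D d →* P} (hπ : IsPi D d π)
include hd hπ

theorem exists_member {v : Vec} (hv : v ∈ pts) : ∃ x ∈ Nb D d, pf π x = tp v :=
  ctx.pf_surj hd hπ (mem_TP hv)

theorem exists_point {x : G} (hx : x ∈ Nb D d) : ∃ v ∈ pts, pf π x = tp v := by
  obtain ⟨v, hv, e⟩ := ctx.pf_mem hd hπ hx
  exact ⟨v, hv, e.symm⟩

theorem Act.comp {g g' : G} {f f' : Vec → Vec} (hg' : Commute g' d) (h : Act D d π g f)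
    (h' : Act D d π g' f') : Act D d π (g * g') (f ∘ f') := by
  intro x hx v hv e
  obtain ⟨h1, h2⟩ := h' x hx v hv e
  obtain ⟨h3, h4⟩ := h _ (nb_fix ctx.hD hg' hx) _ h1 h2
  refine ⟨h3, ?_⟩
  rw [show g * g' * x * (g * g')⁻¹ = g * (g' * x * g'⁻¹) * g⁻¹ by group]
  exact h4

theorem Act.congr {g : G} {f f' : Vec → Vec} (h : Act D d π g f) (he : ∀ v ∈ pts, f v = f' v) :
    Act D d π g f' := fun x hx v hv e => he v hv ▸ h x hx v hv e

theorem act_HG {h : G} (hh : h ∈ HG D d) {s : SU} (hs : pf π h = QuotientGroup.mk s) :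
    Act D d π h fun v => nz (mat s *ᵥ v) := by
  intro x hx v hv e
  refine ⟨(mk_conj s hv).1, ?_⟩
  rw [(ctx.pf_conj hd hπ hh hx).2, hs, e]
  exact (mk_conj s hv).2

theorem act_self : Act D d π d id := fun x hx v hv e =>
  ⟨hv, by rw [hx.2.2.eq, mul_inv_cancel_right]; exact e⟩

theorem act_member {y : G} (hy : y ∈ Nb D d) {w : Vec} (hw : w ∈ pts) (e : pf π y = tp w) :
    Act D d π y (tmv w) := by
  intro x hx v hv hev
  refine ⟨tmv_mem hw hv, ?_⟩
  rw [(ctx.pf_conj hd hπ (mem_HG hy) hx).2, e, hev]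
  exact tp_conj hw hv

theorem exists_HG (s : SU) : ∃ h ∈ HG D d, pf π h = QuotientGroup.mk s ∧ Commute h d := by
  obtain ⟨h, hh⟩ := hπ.surj (QuotientGroup.mk s)
  exact ⟨h, h.2, by rw [pf_eq π h.2]; exact hh, (HG_commute h.2).symm⟩

theorem eq_of_act_id {g : G} (h : Act D d π g id) (hg : Commute g d) : g = 1 ∨ g = d := by
  refine ctx.centralizer_nb hd fun x hx => ?_
  obtain ⟨v, hv, e⟩ := ctx.exists_point hd hπ hx
  have := ctx.pf_inj hd hπ (nb_fix ctx.hD hg hx) hx ((h x hx v hv e).2.trans e.symm)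
  exact (eq_mul_inv_iff_mul_eq.1 this.symm).symm

/-- The centralizer acts semilinearly. -/
theorem exists_action {g : G} (hg : Commute g d) :
    ∃ (A : GU6) (τ : K ≃+* K), Act D d π g (phi A τ) := by
  have key : ∀ k : G, Commute k d → ∀ x ∈ HG D d, k * x * k⁻¹ ∈ HG D d := fun k hk x hx => by
    have := conj_mem_HG ctx.hD k hx
    rwa [hk.eq, mul_inv_cancel_right] at this
  let c : HG D d ≃* HG D d :=
    { toFun := fun x => ⟨g * x * g⁻¹, key g hg x x.2⟩
      invFun := fun x => ⟨g⁻¹ * x * g, by simpa using key g⁻¹ hg.inv_left x x.2⟩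
      left_inv := fun x => Subtype.ext (by simp [mul_assoc])
      right_inv := fun x => Subtype.ext (by simp [mul_assoc])
      map_mul' := fun x y => Subtype.ext (by simp [mul_assoc]) }
  have hker : π.ker.map c.toMonoidHom = π.ker := by
    rw [hπ.ker]
    exact Subgroup.characteristic_iff_map_eq.1 inferInstance c
  let e := QuotientGroup.quotientKerEquivOfSurjective π hπ.surj
  let α : MulAut P := (e.symm.trans (QuotientGroup.congr _ _ c hker)).trans e
  have hα : ∀ x : HG D d, α (π x) = π (c x) := by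
    intro x
    have h1 : e.symm (π x) = QuotientGroup.mk x := by rw [MulEquiv.symm_apply_eq]; rfl
    simp only [α, MulEquiv.trans_apply, h1]
    rfl
  obtain ⟨A, τ, hA⟩ := exists_semi (F := K) (q := 2) (n := 6) (by norm_num) (by norm_num) α
  refine ⟨A, τ, fun x hx v hv e' => ⟨phi_mem A τ hv, ?_⟩⟩
  rw [pf_eq π (mem_HG (nb_fix ctx.hD hg hx)), ← semiAut_tp A τ hv, ← hA, ← e', pf_eq π (mem_HG hx), hα]
  rfl

omit hd hπ

end Ctx

end CfsgLib.Sporadic.MTwentyTwo
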