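import Cfsg.Agent.Lib.Sporadic.MTwentyTwo.Sets
import Cfsg.Agent.Lib.Sporadic.U62Lift.Invol
import Cfsg.Agent.Lib.ThreeTransp.UnitarySix.Base

/-!
# Transvections of `PSU₆(2)` as points
-/

set_option autoImplicit false

namespace CfsgLib.Sporadic.MTwentyTwo

open Matrix CfsgLib.Sporadic.U62Lift
open CfsgLib.Classical (stdHerm exists_frob suEquiv suEquiv_apply sIsom scalar_of_commute suToGU
  suToGU_range guDet_eq_one_iff stdHerm_isHermitian stdHerm_sepRight)
open CfsgLib.ThreeTransp.UnitarySix (Setting Rep tv tv_apply LineFacts lineFacts_of_iso sIsom_ext)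

/-- The projective group. -/
abbrev P : Type := Cfsg.PSU 6 K 2

/-- The special unitary group. -/
abbrev SU : Type := ↥(Cfsg.SU 6 K 2)

theorem hK : Fintype.card K = 4 := FieldFour.card_eq

/-- The image of a transvection. -/
noncomputable def tp (v : Vec) : P := tq hK v

theorem fb_eq (u v : Vec) : fb u v = hf u v := by
  simp [fb, hf, Cfsg.hermForm, Fin.sum_univ_six, sq]

theorem orth_iff {u v : Vec} : orth u v = true ↔ hf u v = 0 := by simp [orth, keq, fb_eq]

theorem orth_false {u v : Vec} : orth u v = false ↔ hf u v ≠ 0 := by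
  rw [← Bool.not_eq_true, orth_iff]

theorem orth_symm {u v : Vec} (h : orth u v = true) : orth v u = true :=
  orth_iff.2 (hf_eq_zero_symm hK (orth_iff.1 h))

theorem orth_self {v : Vec} (hv : v ∈ pts) : orth v v = true := by
  have h := mem_pts.1 hv
  simp only [isPt, Bool.and_eq_true, keq, decide_eq_true_eq] at h
  simp [orth, keq, h.2]

theorem iso_of_mem {v : Vec} (hv : v ∈ pts) : hf v v = 0 := orth_iff.1 (orth_self hv)

theorem sp_smul {c : K} (hc : c ≠ 0) (v : Vec) : sp (c • v) = c * sp v := by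
  simp only [sp, Pi.smul_apply, smul_eq_mul, ne_eq, mul_eq_zero, hc, false_or]
  split_ifs <;> rfl

theorem sp_ne {v : Vec} (hv : v ≠ 0) : sp v ≠ 0 := by
  unfold sp
  split_ifs with h0 h1 h2 h3 h4
  all_goals first
    | assumption
    | (intro h5
       apply hv
       funext i
       push Not at *
       fin_cases i <;> simp_all)

theorem ne_zero_of_mem {v : Vec} (hv : v ∈ pts) : v ≠ 0 := by
  rintro rfl
  have h := mem_pts.1 hv
  simp [isPt, keq, sp] at h

theorem nz_eq (v : Vec) : nz v = (sp v)⁻¹ • v := by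
  funext i
  simp only [nz, mk6, Pi.smul_apply, smul_eq_mul]
  fin_cases i <;> rfl

theorem sp_one {v : Vec} (hv : v ∈ pts) : sp v = 1 := by
  have h := mem_pts.1 hv
  simp only [isPt, Bool.and_eq_true, keq, decide_eq_true_eq] at h
  exact h.1

theorem nz_mem {v : Vec} (hv : v ≠ 0) (h : hf v v = 0) : nz v ∈ pts := by
  have hs := sp_ne hv
  rw [mem_pts, isPt, Bool.and_eq_true]
  simp only [keq, decide_eq_true_eq, nz_eq, fb_eq]
  refine ⟨by rw [sp_smul (inv_ne_zero hs), inv_mul_cancel₀ hs], ?_⟩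
  rw [hf_smul_left, hf_smul_right, h, mul_zero, mul_zero]

theorem nz_smul {c : K} (hc : c ≠ 0) (v : Vec) : nz (c • v) = nz v := by
  rw [nz_eq, nz_eq, sp_smul hc, smul_smul]
  congr 1
  rw [mul_inv, mul_comm c⁻¹, mul_assoc, inv_mul_cancel₀ hc, mul_one]

theorem nz_self {v : Vec} (hv : v ∈ pts) : nz v = v := by rw [nz_eq, sp_one hv, inv_one, one_smul]

theorem tp_smul {v : Vec} {c : K} (hc : c ≠ 0) (hv : hf v v = 0) : tp (c • v) = tp v :=
  congrArg QuotientGroup.mk (tr_smul hK hc hv)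

theorem tp_nz {v : Vec} (hv0 : v ≠ 0) (hv : hf v v = 0) : tp (nz v) = tp v := by
  rw [nz_eq, tp_smul (inv_ne_zero (sp_ne hv0)) hv]

theorem center_scalar {z : SU} (hz : z ∈ Subgroup.center SU) : ∃ c : K, ∀ x, mat z *ᵥ x = c • x := by
  have hF : Fintype.card K = 2 ^ 2 := by rw [hK]; norm_num
  obtain ⟨σ, hσ, hc⟩ := exists_frob hF
  have hcomm : ∀ x ∈ Cfsg.GU 6 K 2, Matrix.GeneralLinearGroup.det x = 1 →
      (z.1 : Matrix (Fin 6) (Fin 6) K) * (x : Matrix (Fin 6) (Fin 6) K)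
        = (x : Matrix (Fin 6) (Fin 6) K) * (z.1 : Matrix (Fin 6) (Fin 6) K) := by
    intro x hx hdet
    obtain ⟨C, hC⟩ : (⟨x, hx⟩ : Cfsg.GU 6 K 2) ∈ (suToGU 6 K 2).range := by
      rw [suToGU_range hσ, MonoidHom.mem_ker, guDet_eq_one_iff]
      exact hdet
    have e0 := congrArg (fun y : Cfsg.GU 6 K 2 => (y.1 : Matrix (Fin 6) (Fin 6) K))
      (congrArg (suToGU 6 K 2) (Subgroup.mem_center_iff.1 hz C).symm)
    simp only [map_mul, hC] at e0
    exact e0
  obtain ⟨c, hc'⟩ := scalar_of_commute hF (by norm_num) _ hcomm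
  exact ⟨c, fun x => by rw [show mat z = _ from hc', Matrix.smul_mulVec, Matrix.one_mulVec]⟩

theorem mat_eq_of_mk {g g' : SU} (h : (QuotientGroup.mk g : P) = QuotientGroup.mk g') :
    ∃ c : K, ∀ x, mat g' *ᵥ x = c • (mat g *ᵥ x) := by
  obtain ⟨c, hc⟩ := center_scalar (QuotientGroup.eq.1 h)
  refine ⟨c, fun x => ?_⟩
  rw [← mulVec_smul, ← hc, ← mat_mul, mul_inv_cancel_left]

theorem tp_inj {v w : Vec} (hv : v ∈ pts) (hw : w ∈ pts) (h : tp v = tp w) : v = w := by
  obtain ⟨c, hc⟩ := mat_eq_of_mk h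
  obtain ⟨x, hx, hxv, hxw, -⟩ := U62Lift.exists_perp v w w ⊥ (by simp)
  have h1 := hc x
  rw [mat_tr hK (iso_of_mem hv), mat_tr hK (iso_of_mem hw), hxv, hxw, zero_smul, zero_smul, add_zero] at h1
  have hc1 : c = 1 := by
    have : (c - 1) • x = 0 := by rw [sub_smul, one_smul, ← h1, sub_self]
    exact sub_eq_zero.1 ((smul_eq_zero.1 this).resolve_right fun e => hx (by simp [e]))
  have hall : ∀ y, hf y w • w = hf y v • v := fun y => by
    have := hc y
    rw [mat_tr hK (iso_of_mem hv), mat_tr hK (iso_of_mem hw), hc1, one_smul, add_right_inj] at this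
    exact this
  obtain ⟨y, hy⟩ : ∃ y, hf y w ≠ 0 := by
    by_contra hno
    push Not at hno
    exact ne_zero_of_mem hw (eq_zero_of_hf hno)
  have hwv : w = ((hf y w)⁻¹ * hf y v) • v := by rw [mul_smul, ← hall, inv_smul_smul₀ hy]
  have hc0 : (hf y w)⁻¹ * hf y v ≠ 0 := fun e => ne_zero_of_mem hw (by rw [hwv, e, zero_smul])
  rw [← nz_self hv, ← nz_self hw, hwv, nz_smul hc0]

theorem tmv_eq (v x : Vec) : tmv v x = nz (x + hf x v • v) := by
  unfold tmv
  congr 1
  funext i
  simp only [mk6, Pi.add_apply, Pi.smul_apply, smul_eq_mul, fb_eq]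
  fin_cases i <;> rfl

theorem tmv_mem {v x : Vec} (hv : v ∈ pts) (hx : x ∈ pts) : tmv v x ∈ pts := by
  rw [tmv_eq, ← mat_tr hK (iso_of_mem hv)]
  refine nz_mem (fun h => ne_zero_of_mem hx ?_) (by rw [hf_mat, iso_of_mem hx])
  have := congrArg (fun y => mat (tr hK v)⁻¹ *ᵥ y) h
  simpa only [← mat_mul, inv_mul_cancel, mat_one, mulVec_zero] using this

theorem tp_conj {v x : Vec} (hv : v ∈ pts) (hx : x ∈ pts) : tp v * tp x * (tp v)⁻¹ = tp (tmv v x) := by
  have hi : hf (x + hf x v • v) (x + hf x v • v) = 0 := by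
    rw [← mat_tr hK (iso_of_mem hv), hf_mat, iso_of_mem hx]
  have h0 : x + hf x v • v ≠ 0 := by
    rw [← mat_tr hK (iso_of_mem hv)]
    intro h
    refine ne_zero_of_mem hx ?_
    have := congrArg (fun y => mat (tr hK v)⁻¹ *ᵥ y) h
    simpa only [← mat_mul, inv_mul_cancel, mat_one, mulVec_zero] using this
  rw [tmv_eq, tp_nz h0 hi, ← mat_tr hK (iso_of_mem hv)]
  exact congrArg QuotientGroup.mk (tr_conj hK (tr hK v) (iso_of_mem hx))

theorem tmv_ne {v x : Vec} (hv : v ∈ pts) (hx : x ∈ pts) (h : hf x v ≠ 0) : tmv v x ≠ x := by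
  intro e
  have he := congrArg (fun y => hf y v) e
  rw [tmv_eq, nz_eq] at e
  set c := (sp (x + hf x v • v))⁻¹
  have h1 : (c - 1) * hf x v = 0 := by
    have := congrArg (fun y => hf y v) e
    simp only [hf_smul_left, hf_add_left, iso_of_mem hv, mul_zero, add_zero] at this
    linear_combination this
  have hc : c = 1 := sub_eq_zero.1 ((mul_eq_zero.1 h1).resolve_right h)
  rw [hc, one_smul, add_eq_left, smul_eq_zero] at e
  exact ne_zero_of_mem hv (e.resolve_left h)

theorem tp_commute_iff {v w : Vec} (hv : v ∈ pts) (hw : w ∈ pts) :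
    Commute (tp v) (tp w) ↔ orth v w = true := by
  rw [orth_iff]
  refine ⟨fun h => ?_, fun h => (tr_comm hK (iso_of_mem hv) (iso_of_mem hw) h).map (QuotientGroup.mk' _)⟩
  by_contra hn
  have h1 := tp_conj hw hv
  rw [h.symm.eq, mul_inv_cancel_right] at h1
  exact tmv_ne hw hv hn (tp_inj (tmv_mem hw hv) hv h1.symm)

theorem tp_sq {v : Vec} (hv : v ∈ pts) : tp v * tp v = 1 :=
  ((QuotientGroup.mk_mul _ _ _).symm.trans (congrArg QuotientGroup.mk (tr_sq hK (iso_of_mem hv))))

/-- A conjugation-invariant set of three-transpositions consists of all the transvections. -/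
theorem exists_tp {E : Set P} (hinv : ∀ e ∈ E, e ≠ 1 ∧ e * e = 1)
    (hconj : ∀ g : P, ∀ e ∈ E, g * e * g⁻¹ ∈ E)
    (htt : ∀ a ∈ E, ∀ b ∈ E, (a * b) ^ 2 = 1 ∨ (a * b) ^ 3 = 1) {e : P} (he : e ∈ E) :
    ∃ v ∈ pts, e = tp v := by
  classical
  have hF : Fintype.card K = 2 ^ 2 := by rw [hK]; norm_num
  obtain ⟨σ, hσ, hc⟩ := exists_frob hF
  have h2 : (2 : K) = 0 := two_zero hK
  have hS : Setting (stdHerm σ 6) := {
    herm := stdHerm_isHermitian hc 6
    sep := stdHerm_sepRight 6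
    dim := by rw [Module.finrank_fin_fun]; norm_num
    two := fun x => by rw [← two_mul, h2, zero_mul]
    norm := fun x hx => by
      rw [hσ]
      exact mul_left_cancel₀ hx (by rw [mul_one]; linear_combination pow_four hK x)
    fixed := fun x hx => by rw [hσ] at hx; exact sq_eq_self_cases hx
    trace := by
      obtain ⟨w, hw⟩ := exists_omega hK
      exact ⟨w, by rw [hσ]; linear_combination hw - h2⟩ }
  let π : ↥(sIsom (stdHerm σ 6)) →* P :=
    (QuotientGroup.mk' _).comp (suEquiv hσ).symm.toMonoidHom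
  have hπ : ∀ A : SU, π (suEquiv hσ A) = QuotientGroup.mk A := fun A => by simp [π]
  have hker : ∀ g, π g = 1 → ∃ c : K, ∀ x, g.1.1 x = c • x := fun g hg => by
    obtain ⟨A, rfl⟩ := (suEquiv hσ).surjective g
    rw [hπ, QuotientGroup.eq_one_iff] at hg
    obtain ⟨c, hc'⟩ := center_scalar hg
    exact ⟨c, fun x => by rw [suEquiv_apply]; exact hc' x⟩
  have hiter : ∀ (g : ↥(sIsom (stdHerm σ 6))) (n : ℕ) x, (g ^ n).1.1 x = (fun y => g.1.1 y)^[n] x := by
    intro g n
    induction n with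
    | zero => intro x; rfl
    | succ n ih =>
      intro x
      rw [pow_succ', Function.iterate_succ_apply', ← ih]
      rfl
  -- an involutory preimage
  obtain ⟨A₁, hA₁⟩ := QuotientGroup.mk_surjective e
  obtain ⟨g, hge, hg2⟩ : ∃ g, π g = e ∧ ∀ x, g.1.1 (g.1.1 x) = x := by
    set g₁ := suEquiv hσ A₁
    have hg₁ : π g₁ = e := by rw [hπ, hA₁]
    obtain ⟨c, hc'⟩ := hker (g₁ ^ 2) (by rw [map_pow, hg₁, pow_two, (hinv e he).2])
    obtain ⟨z, hz, -⟩ := hS.exists_perp (0 : Vec) 0 0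
    have hc0 : c ≠ 0 := fun h0 => hz ((g₁ ^ 2).1.1.injective (by rw [hc', h0, zero_smul, map_zero]))
    have hc3 : c * (c * c) = 1 :=
      mul_left_cancel₀ hc0 (by rw [mul_one]; linear_combination pow_four hK c)
    refine ⟨g₁ ^ 3, ?_, fun x => ?_⟩
    · rw [map_pow, hg₁, pow_succ, pow_two, (hinv e he).2, one_mul]
    · have h6 : (g₁ ^ 3).1.1 ((g₁ ^ 3).1.1 x) = ((g₁ ^ 2) ^ 3).1.1 x := by
        rw [← pow_mul, show 2 * 3 = 3 + 3 by norm_num, pow_add]
        rfl
      rw [h6, hiter, Function.iterate_succ_apply, Function.iterate_succ_apply,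
        Function.iterate_succ_apply, Function.iterate_zero_apply]
      simp only [hc', smul_smul]
      rw [hc3, one_smul]
  rcases hS.involution_cases g.1.1.toLinearMap (fun x y => g.1.2 x y) hg2 with
    h | ⟨v, hv0, hv, h⟩ | ⟨z, w, hz, hw, hzw, hbad⟩
  · exact absurd (by rw [← hge, show g = 1 from sIsom_ext h, map_one]) (hinv _ he).1
  · have hvv : hf v v = 0 := by
      show Cfsg.hermForm 6 K 2 v v = 0
      rw [CfsgLib.Classical.hermForm_eq_stdHerm hσ]
      exact hv
    refine ⟨nz v, nz_mem hv0 hvv, ?_⟩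
    rw [tp_nz hv0 hvv, ← hge, show g = suEquiv hσ (tr hK v) from sIsom_ext fun x => ?_, hπ]
    · rfl
    · rw [suEquiv_apply, show (g.1.1 x) = tv (stdHerm σ 6) v x from h x, tv_apply,
        ← CfsgLib.Classical.hermForm_eq_stdHerm hσ]
      exact (mat_tr hK hvv x).symm
  · exfalso
    obtain ⟨tz, htz⟩ := hS.exists_tvEl hz
    obtain ⟨tw, htw⟩ := hS.exists_tvEl hw
    have hkinv : (tz * tw)⁻¹ = tz * tw := by
      refine inv_eq_of_mul_eq_one_right (sIsom_ext fun x => ?_)
      change tz.1.1 (tw.1.1 (tz.1.1 (tw.1.1 x))) = x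
      rw [htz, htw, htz, htw, hS.commute_of_orth hzw x, hS.tv_tv hw, hS.tv_tv hz]
    have hprod : π g * (π (tz * tw) * π g * (π (tz * tw))⁻¹) = π ((g * (tz * tw)) ^ 2) := by
      rw [← map_inv, hkinv, ← map_mul, ← map_mul, ← map_mul, pow_two]
      congr 1
    have happly : ∀ x, (g * (tz * tw)).1.1 x = g.1.1 (tv _ z (tv _ w x)) := fun x => by
      change g.1.1 (tz.1.1 (tw.1.1 x)) = _
      rw [htz, htw]
    have hno : ∀ n, (n = 4 ∨ n = 6) → π ((g * (tz * tw)) ^ n) ≠ 1 := by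
      intro n hn h1
      obtain ⟨c, hc'⟩ := hker _ h1
      rcases hn with rfl | rfl
      · obtain ⟨x, hx⟩ := (hbad c).1
        refine hx ?_
        rw [← hc', hiter]
        simp only [happly]
        rfl
      · obtain ⟨x, hx⟩ := (hbad c).2
        refine hx ?_
        rw [← hc', hiter]
        simp only [happly]
        rfl
    rw [← hge] at he
    rcases htt _ he _ (hconj (π (tz * tw)) _ he) with h | h <;>
      rw [hprod, ← map_pow, ← pow_mul] at h
    · exact hno _ (Or.inl rfl) h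
    · exact hno _ (Or.inr rfl) h

end CfsgLib.Sporadic.MTwentyTwo
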