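import Cfsg.Agent.Lib.Sporadic.MTwentyTwo.Points

/-!
# Counting in the class of transvections of `PSU₆(2)`
-/

set_option autoImplicit false

namespace CfsgLib.Sporadic.MTwentyTwo

open Matrix CfsgLib.Sporadic.U62Lift
open CfsgLib.Sporadic.FischerTransitivity CfsgLib.Sporadic.FischerRankThree

attribute [local irreducible] pts tp orth veq comb tmv

theorem ncard_TP_filter (p : P → Prop) (q : Vec → Bool) (h : ∀ v ∈ pts, p (tp v) ↔ q v = true) :
    {z | z ∈ TP ∧ p z}.ncard = pts.countP q := by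
  rw [← ncard_pts]
  have e : {z | z ∈ TP ∧ p z} = tp '' {v | v ∈ pts ∧ q v = true} := by
    ext z
    constructor
    · rintro ⟨⟨v, hv, rfl⟩, hp⟩
      exact ⟨v, ⟨hv, (h v hv).1 hp⟩, rfl⟩
    · rintro ⟨v, ⟨hv, hq⟩, rfl⟩
      exact ⟨mem_TP hv, (h v hv).2 hq⟩
  rw [e, Set.InjOn.ncard_image fun a ha b hb => tp_inj ha.1 hb.1]

theorem card_TP : TP.ncard = 693 := by
  rw [show TP = {z | z ∈ TP ∧ True} by simp, ncard_TP_filter (fun _ => True) (fun _ => true) (by simp),
    ← pts_length, List.countP_true]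

theorem conj_count (g : P) (p : P → Prop) :
    {z | z ∈ TP ∧ p (g * z * g⁻¹)}.ncard = {z | z ∈ TP ∧ p z}.ncard := by
  rw [← Set.ncard_image_of_injective {z | z ∈ TP ∧ p (g * z * g⁻¹)}
    (fun a b (h : g * a * g⁻¹ = g * b * g⁻¹) => mul_left_cancel (mul_right_cancel h))]
  congr 1
  ext z
  constructor
  · rintro ⟨y, ⟨hy, hp⟩, rfl⟩
    exact ⟨TP_conj g hy, hp⟩
  · rintro ⟨hz, hp⟩
    refine ⟨g⁻¹ * z * g, ⟨by simpa using TP_conj g⁻¹ hz, ?_⟩, by group⟩
    rwa [show g * (g⁻¹ * z * g) * g⁻¹ = z by group]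

theorem card_perp {a : P} (ha : a ∈ TP) : {z | z ∈ TP ∧ Commute a z}.ncard = 181 := by
  obtain ⟨g, hg⟩ := TP_class a ha _ (mem_TP p12_mem)
  rw [← count_orth, ← ncard_TP_filter (fun z => Commute (tp p12) z) (orth p12)
    fun v hv => tp_commute_iff p12_mem hv, ← conj_count g fun z => Commute (tp p12) z]
  simp only [← hg, Commute.conj_iff]

theorem exists_pair {a b : P} (ha : a ∈ TP) (hb : b ∈ TP) (hab : ¬ Commute a b) :
    ∃ g : P, g * a * g⁻¹ = tp p12 ∧ g * b * g⁻¹ = tp p13 := by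
  obtain ⟨g, hg⟩ := TP_class a ha _ (mem_TP p12_mem)
  have h1 : ¬ Commute (tp p12) (g * b * g⁻¹) := by rw [← hg]; exact fun h => hab ((Commute.conj_iff g).1 h)
  have h2 : ¬ Commute (tp p12) (tp p13) := fun h =>
    absurd ((tp_commute_iff p12_mem p13_mem).1 h) (by decide +kernel)
  obtain ⟨k, hk1, hk2⟩ := adj_transitive TP_group TP_class P_perf P_sol (mem_TP p12_mem)
    (TP_conj g hb) (mem_TP p13_mem) h1 h2
  refine ⟨k * g, ?_, ?_⟩
  · rw [show k * g * a * (k * g)⁻¹ = k * (g * a * g⁻¹) * k⁻¹ by group, hg, hk1]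
  · rw [show k * g * b * (k * g)⁻¹ = k * (g * b * g⁻¹) * k⁻¹ by group, hk2]

theorem card_pair_perp {a b : P} (ha : a ∈ TP) (hb : b ∈ TP) (hab : ¬ Commute a b) :
    {z | z ∈ TP ∧ (Commute a z ∧ Commute b z)}.ncard = 45 := by
  obtain ⟨g, hg1, hg2⟩ := exists_pair ha hb hab
  rw [← count_nonorth, ← ncard_TP_filter (fun z => Commute (tp p12) z ∧ Commute (tp p13) z)
    (fun v => orth p12 v && orth p13 v)
    (fun v hv => by rw [Bool.and_eq_true, tp_commute_iff p12_mem hv, tp_commute_iff p13_mem hv]),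
    ← conj_count g fun z => Commute (tp p12) z ∧ Commute (tp p13) z]
  simp only [← hg1, ← hg2, Commute.conj_iff]

theorem eq_of_pair_perp {a b c : P} (ha : a ∈ TP) (hb : b ∈ TP) (hc : c ∈ TP) (hab : ¬ Commute a b)
    (h : ∀ z ∈ TP, Commute a z → Commute b z → Commute c z) : c = a ∨ c = b ∨ c = a * b * a⁻¹ := by
  obtain ⟨g, hg1, hg2⟩ := exists_pair ha hb hab
  obtain ⟨w, hw, hcw⟩ := TP_conj g hc
  have hd := all_pts perp_pair hw
  have hall : (pts.all fun Q => !(orth p12 Q && orth p13 Q) || orth w Q) = true := by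
    rw [List.all_eq_true]
    intro q hq
    by_cases hh : (orth p12 q && orth p13 q) = true
    · rw [hh, Bool.not_true, Bool.false_or]
      simp only [Bool.and_eq_true, ← tp_commute_iff p12_mem hq, ← tp_commute_iff p13_mem hq] at hh
      rw [← tp_commute_iff hw hq, hcw]
      have hz : g⁻¹ * tp q * g ∈ TP := by simpa using TP_conj g⁻¹ (mem_TP hq)
      have := h _ hz ((Commute.conj_iff g).1 (by
        rw [hg1, show g * (g⁻¹ * tp q * g) * g⁻¹ = tp q by group]; exact hh.1))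
        ((Commute.conj_iff g).1 (by
        rw [hg2, show g * (g⁻¹ * tp q * g) * g⁻¹ = tp q by group]; exact hh.2))
      have := (Commute.conj_iff g).2 this
      rwa [show g * (g⁻¹ * tp q * g) * g⁻¹ = tp q by group] at this
    · simp only [Bool.not_eq_true] at hh
      rw [hh, Bool.not_false, Bool.true_or]
  simp only [hall, Bool.not_true, Bool.false_or, Bool.or_eq_true, veq_iff] at hd
  have hinj : ∀ x y : P, g * x * g⁻¹ = g * y * g⁻¹ → x = y := fun x y e =>
    mul_left_cancel (mul_right_cancel e)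
  rcases hd with (e | e) | e
  · exact Or.inl (hinj _ _ (by rw [← hcw, e, hg1]))
  · exact Or.inr (Or.inl (hinj _ _ (by rw [← hcw, e, hg2])))
  · refine Or.inr (Or.inr (hinj _ _ ?_))
    rw [← hcw, e, ← tp_conj p12_mem p13_mem, ← hg1, ← hg2]
    group

theorem sep_ok : pts.all (fun P => !(pts.all fun Q => !orth p12 Q || orth P Q) || veq P p12) = true := by
  decide +kernel

theorem eq_of_perp {a c : P} (ha : a ∈ TP) (hc : c ∈ TP)
    (h : ∀ z ∈ TP, Commute a z → Commute c z) : c = a := by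
  obtain ⟨g, hg⟩ := TP_class a ha _ (mem_TP p12_mem)
  obtain ⟨w, hw, hcw⟩ := TP_conj g hc
  have hd := all_pts sep_ok hw
  have hall : (pts.all fun Q => !orth p12 Q || orth w Q) = true := by
    rw [List.all_eq_true]
    intro q hq
    by_cases hh : orth p12 q = true
    · rw [hh, Bool.not_true, Bool.false_or, ← tp_commute_iff hw hq, hcw]
      rw [← tp_commute_iff p12_mem hq] at hh
      have hz : g⁻¹ * tp q * g ∈ TP := by simpa using TP_conj g⁻¹ (mem_TP hq)
      have := h _ hz ((Commute.conj_iff g).1 (by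
        rw [hg, show g * (g⁻¹ * tp q * g) * g⁻¹ = tp q by group]; exact hh))
      have := (Commute.conj_iff g).2 this
      rwa [show g * (g⁻¹ * tp q * g) * g⁻¹ = tp q by group] at this
    · simp only [Bool.not_eq_true] at hh
      rw [hh, Bool.not_false, Bool.true_or]
  simp only [hall, Bool.not_true, Bool.false_or, veq_iff] at hd
  exact mul_left_cancel (mul_right_cancel (show g * c * g⁻¹ = g * a * g⁻¹ by rw [← hcw, hd, hg]))

/-- The third point of three on a line lies in the span of the other two. -/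
theorem span_of_perp {u v w : Vec} (hu : u ∈ pts) (hv : v ∈ pts) (hw : w ∈ pts) (huv : u ≠ v)
    (h0 : orth u v = true)
    (h : ∀ z ∈ TP, Commute (tp u) z → Commute (tp v) z → Commute (tp w) z) :
    ∃ a b : K, w = a • u + b • v := by
  obtain ⟨g, hg⟩ := TP_class _ (mem_TP hu) _ (mem_TP p12_mem)
  have hn1 : g * tp v * g⁻¹ ∈ Nb TP (tp p12) := by
    rw [← hg]
    exact nb_conj TP_group g ⟨mem_TP hv, fun e => huv (tp_inj hv hu e).symm, (tp_commute_iff hu hv).2 h0⟩
  have hn2 : tp p34 ∈ Nb TP (tp p12) :=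
    ⟨mem_TP p34_mem, fun e => absurd (tp_inj p34_mem p12_mem e) (by decide +kernel),
      (tp_commute_iff p12_mem p34_mem).2 (by decide +kernel)⟩
  obtain ⟨k, hk, hk2⟩ := exists_conj TP_group TP_class P_perf P_sol (mem_TP p12_mem) hn1 hn2
  have hk1 : k * tp p12 * k⁻¹ = tp p12 := by
    have hc : k ∈ Subgroup.centralizer ({tp p12} : Set P) := (Subgroup.closure_le _).2 (fun z hz =>
      Subgroup.mem_centralizer_singleton_iff.2 hz.2.2.symm.eq) hk
    rw [Subgroup.mem_centralizer_singleton_iff] at hc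
    rw [hc, mul_inv_cancel_right]
  obtain ⟨s, hs⟩ := QuotientGroup.mk_surjective (k * g)⁻¹
  have e : ∀ x y : P, k * g * x * (k * g)⁻¹ = y →
      (QuotientGroup.mk s : P) * y * (QuotientGroup.mk s : P)⁻¹ = x := by
    rintro x y rfl
    rw [hs]; group
  have eu := e _ _ (show k * g * tp u * (k * g)⁻¹ = tp p12 by
    rw [show k * g * tp u * (k * g)⁻¹ = k * (g * tp u * g⁻¹) * k⁻¹ by group, hg, hk1])
  have ev := e _ _ (show k * g * tp v * (k * g)⁻¹ = tp p34 by
    rw [show k * g * tp v * (k * g)⁻¹ = k * (g * tp v * g⁻¹) * k⁻¹ by group, hk2])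
  obtain ⟨w', hw', hww⟩ := TP_conj (k * g) (mem_TP hw)
  have ew := e _ _ hww.symm
  have hd := all_pts perp_line hw'
  have hall : (pts.all fun Q => !(orth p12 Q && orth p34 Q) || orth w' Q) = true := by
    rw [List.all_eq_true]
    intro q hq
    by_cases hh : (orth p12 q && orth p34 q) = true
    · rw [hh, Bool.not_true, Bool.false_or]
      simp only [Bool.and_eq_true, ← tp_commute_iff p12_mem hq, ← tp_commute_iff p34_mem hq] at hh
      rw [← tp_commute_iff hw' hq]
      have hc : ∀ x y : Vec, Commute (tp x) (tp q) →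
          (QuotientGroup.mk s : P) * tp x * (QuotientGroup.mk s : P)⁻¹ = tp y →
          Commute (tp y) ((QuotientGroup.mk s : P) * tp q * (QuotientGroup.mk s : P)⁻¹) :=
        fun x y hxq he => he ▸ (Commute.conj_iff _).2 hxq
      have := h _ (TP_conj _ (mem_TP hq)) (hc _ _ hh.1 eu) (hc _ _ hh.2 ev)
      rw [← ew] at this
      exact (Commute.conj_iff _).1 this
    · simp only [Bool.not_eq_true] at hh
      rw [hh, Bool.not_false, Bool.true_or]
  simp only [hall, Bool.not_true, Bool.false_or, Bool.or_eq_true, veq_iff] at hd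
  -- pull the span back
  have hpt : ∀ x y : Vec, x ∈ pts → y ∈ pts →
      (QuotientGroup.mk s : P) * tp x * (QuotientGroup.mk s : P)⁻¹ = tp y →
      ∃ c : K, c ≠ 0 ∧ mat s *ᵥ x = c • y := by
    intro x y hx hy he
    have h1 := tp_inj (mk_conj s hx).1 hy ((mk_conj s hx).2.symm.trans he)
    have h0' : mat s *ᵥ x ≠ 0 := fun e0 => ne_zero_of_mem hy (by rw [← h1, e0, nz_eq, smul_zero])
    exact ⟨sp (mat s *ᵥ x), sp_ne h0', by rw [← h1, nz_eq, smul_inv_smul₀ (sp_ne h0')]⟩
  obtain ⟨c1, -, hc1⟩ := hpt _ _ p12_mem hu eu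
  obtain ⟨c2, -, hc2⟩ := hpt _ _ p34_mem hv ev
  obtain ⟨c3, hc3n, hc3⟩ := hpt _ _ hw' hw ew
  obtain ⟨a, b, hab⟩ : ∃ a b : K, w' = a • p12 + b • p34 := by
    rcases hd with (((e | e) | e) | e) | e
    · exact ⟨1, 0, by simp [e]⟩
    · exact ⟨0, 1, by simp [e]⟩
    all_goals
      refine ⟨1, ?_, ?_⟩
      rotate_left
      · rw [e]; funext i; fin_cases i <;> simp [comb, nz, sp, mk6, p12, p34] <;> rfl
  refine ⟨c3⁻¹ * a * c1, c3⁻¹ * b * c2, ?_⟩
  have := hc3
  rw [hab, mulVec_add, mulVec_smul, mulVec_smul, hc1, hc2] at this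
  calc w = c3⁻¹ • (c3 • w) := (inv_smul_smul₀ hc3n w).symm
    _ = _ := by rw [← this, smul_add, smul_smul, smul_smul, smul_smul, smul_smul, mul_assoc, mul_assoc]

end CfsgLib.Sporadic.MTwentyTwo
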