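import Cfsg.Agent.Lib.Sporadic.MTwentyTwo.Points

/-!
# The diagonal subgroup of `PSU₆(2)`
-/

set_option autoImplicit false

namespace CfsgLib.Sporadic.MTwentyTwo

open Matrix CfsgLib.Sporadic.U62Lift

attribute [local irreducible] pts

/-- Diagonal elements. -/
def dgSU : Subgroup SU where
  carrier := {g | ∃ d : Vec, ∀ x, mat g *ᵥ x = fun i => d i * x i}
  one_mem' := ⟨1, fun x => by rw [mat_one]; funext i; simp⟩
  mul_mem' := by
    rintro a b ⟨d, hd⟩ ⟨e, he⟩
    exact ⟨d * e, fun x => by rw [mat_mul, he, hd]; funext i; simp [mul_assoc]⟩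
  inv_mem' := by
    rintro a ⟨d, hd⟩
    refine ⟨fun i => (d i)⁻¹, fun x => ?_⟩
    have hd0 : ∀ i, d i ≠ 0 := by
      intro i h0
      have h1 : mat a *ᵥ (Pi.single i (1 : K)) = 0 := by
        rw [hd]
        funext j
        rcases eq_or_ne j i with rfl | hj
        · simp [h0]
        · simp [Pi.single_eq_of_ne hj]
      have := congrArg (fun y => mat a⁻¹ *ᵥ y) h1
      simp only [← mat_mul, inv_mul_cancel, mat_one, mulVec_zero] at this
      simpa using congrFun this i
    have h := congrArg (fun y => mat a⁻¹ *ᵥ y) (show mat a *ᵥ (fun i => (d i)⁻¹ * x i) = x by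
      rw [hd]; funext i; rw [← mul_assoc, mul_inv_cancel₀ (hd0 i), one_mul])
    simp only [← mat_mul, inv_mul_cancel, mat_one] at h
    exact h.symm

/-- The diagonal subgroup of the projective group. -/
def E0 : Subgroup P := dgSU.map (QuotientGroup.mk' _)

theorem E0_pGroup : IsPGroup 3 E0 := by
  rintro ⟨_, g, ⟨d, hd⟩, rfl⟩
  refine ⟨1, Subtype.ext ?_⟩
  have hg : g ^ 3 = 1 := by
    refine mat_ext fun x => ?_
    have hd0 : ∀ i, d i ≠ 0 := by
      intro i h0
      have h1 : mat g *ᵥ (Pi.single i (1 : K)) = 0 := by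
        rw [hd]
        funext j
        rcases eq_or_ne j i with rfl | hj
        · simp [h0]
        · simp [Pi.single_eq_of_ne hj]
      have := congrArg (fun y => mat g⁻¹ *ᵥ y) h1
      simp only [← mat_mul, inv_mul_cancel, mat_one, mulVec_zero] at this
      simpa using congrFun this i
    rw [pow_succ, pow_two, mat_mul, mat_mul, hd, hd, hd, mat_one]
    funext i
    have h3 : ∀ a : K, a ≠ 0 → ∀ b : K, a * (a * (a * b)) = b := by decide
    exact h3 _ (hd0 i) _
  show QuotientGroup.mk' _ g ^ (3 ^ 1) = 1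
  rw [pow_one, ← map_pow, hg, map_one]

theorem prd_eq (d : Vec) : prd d = ∏ i, d i := by
  simp [prd, Fin.prod_univ_six, mul_assoc]

/-- The action of a diagonal element on the transvections. -/
theorem exists_diag {d : Vec} (h : prd d = 1) :
    ∃ u ∈ E0, ∀ v ∈ pts, dmul d v ∈ pts ∧ u * tp v * u⁻¹ = tp (dmul d v) := by
  have hdet : (Matrix.diagonal d).det = 1 := by rw [Matrix.det_diagonal, ← prd_eq, h]
  have hd0 : ∀ i, d i ≠ 0 := fun i h0 => one_ne_zero (α := K) (by
    rw [← h, prd_eq, Finset.prod_eq_zero (Finset.mem_univ i) h0])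
  have hp : ∀ x y : Vec, Cfsg.hermForm 6 K 2 (Matrix.diagonal d *ᵥ x) (Matrix.diagonal d *ᵥ y) =
      Cfsg.hermForm 6 K 2 x y := by
    intro x y
    simp only [Cfsg.hermForm, Matrix.mulVec_diagonal]
    refine Finset.sum_congr rfl fun i _ => ?_
    have h3 : ∀ a : K, a ≠ 0 → ∀ b c : K, a * b * (a * c) ^ 2 = b * c ^ 2 := by decide
    exact h3 _ (hd0 i) _ _
  let g : SU := ⟨⟨Matrix.diagonal d, hdet⟩, hp⟩
  have hg : ∀ x, mat g *ᵥ x = fun i => d i * x i := fun x => funext fun i => Matrix.mulVec_diagonal _ _ i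
  refine ⟨QuotientGroup.mk g, ⟨g, ⟨d, hg⟩, rfl⟩, fun v hv => ?_⟩
  have e : dmul d v = nz (mat g *ᵥ v) := by
    rw [hg, dmul]
    congr 1
    funext i
    simp only [mk6]
    fin_cases i <;> rfl
  rw [e]
  exact mk_conj g hv

end CfsgLib.Sporadic.MTwentyTwo
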