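import Cfsg.Agent.Lib.Sporadic.MTwentyTwo.Reduce

/-!
# The members fixed by an outer involution
-/

set_option autoImplicit false
set_option linter.unusedSectionVars false

namespace CfsgLib.Sporadic.MTwentyTwo

open Matrix CfsgLib.Sporadic.FischerTransitivity CfsgLib.Sporadic.FischerRankThree CfsgLib.KnownC.AutPSU
open CfsgLib.Sporadic.U62Lift (hf mat hf_mat mat_mul mat_one)

attribute [local irreducible] pts tp orth veq comb tmv dmul sp

variable {G : Type*} [Group G] {D : Set G}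

/-- The fixed members. -/
def Fx (D : Set G) (σ : G) : Set G := {e | e ∈ D ∧ Commute σ e}

theorem mem_Fx {σ e : G} : e ∈ Fx D σ ↔ e ∈ D ∧ Commute σ e := Iff.rfl

theorem conj_fix {k x : G} (h : Commute k x) : k * x * k⁻¹ = x := by rw [h.eq, mul_inv_cancel_right]

theorem commute_of_conj {k x : G} (h : k * x * k⁻¹ = x) : Commute k x :=
  (eq_mul_inv_iff_mul_eq.1 h.symm).symm

theorem Fx_conj (hD : Cfsg.IsThreeTranspositionGroup D) {σ k e : G} (hk : Commute σ k) (he : e ∈ Fx D σ) :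
    k * e * k⁻¹ ∈ Fx D σ :=
  ⟨hD.2.1 k e he.1, (hk.mul_right he.2).mul_right hk.inv_right⟩

theorem pair_step (hD : Cfsg.IsThreeTranspositionGroup D) {a b : G} (ha : a ∈ D) (hb : b ∈ D)
    (h : ¬ Commute a b) : a * b * a * (a * b)⁻¹ = b := by
  have e := cj_comm hD ha hb h
  simp only [cj] at e
  calc a * b * a * (a * b)⁻¹ = a * (b * a * b⁻¹) * a⁻¹ := by group
    _ = a * (b * a * b) * a := by rw [inv_eq hD ha, inv_eq hD hb]
    _ = (a * a) * b * (a * a) := by rw [← e]; group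
    _ = b := by rw [FischerTransitivity.sq hD ha, one_mul, mul_one]

theorem cj_swap (hD : Cfsg.IsThreeTranspositionGroup D) {a b : G} (ha : a ∈ D) (hb : b ∈ D)
    (h : ¬ Commute a b) : cj (cj a b) a = b := by
  have e := cj_comm hD ha hb h
  simp only [cj] at e ⊢
  calc a * b * a * a * (a * b * a) = a * b * (a * a) * (a * b * a) := by group
    _ = a * b * (b * a * b) := by rw [FischerTransitivity.sq hD ha, mul_one, e]
    _ = a * (b * b) * a * b := by group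
    _ = b := by rw [FischerTransitivity.sq hD hb, mul_one, FischerTransitivity.sq hD ha, one_mul]

variable [Finite G] (ctx : Ctx D)
include ctx

namespace Ctx

theorem act_fix {d : G} (hd : d ∈ D) {π : HG D d →* P} (hπ : IsPi D d π) {g : G} (hg : Commute g d)
    {f : Vec → Vec} (h : Act D d π g f) {x : G} (hx : x ∈ Nb D d) {v : Vec} (hv : v ∈ pts)
    (e : pf π x = tp v) : Commute g x ↔ f v = v := by
  obtain ⟨h1, h2⟩ := h x hx v hv e
  constructor
  · intro hc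
    rw [conj_fix hc, e] at h2
    exact (tp_inj hv h1 h2).symm
  · intro hfix
    rw [hfix, ← e] at h2
    exact commute_of_conj (ctx.pf_inj hd hπ (nb_fix ctx.hD hg hx) hx h2)

theorem count_set {d : G} (hd : d ∈ D) {π : HG D d →* P} (hπ : IsPi D d π) {S : Set G} (q : Vec → Bool)
    (hS : S ⊆ Nb D d) (h : ∀ x ∈ Nb D d, ∀ v ∈ pts, pf π x = tp v → (x ∈ S ↔ q v = true)) :
    S.ncard = pts.countP q := by
  rw [← ctx.ncard_cs hd hπ hS, ← ncard_pts]
  congr 1
  ext v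
  constructor
  · rintro ⟨hv, x, hx, e⟩
    exact ⟨hv, (h x (hS hx) v hv e).1 hx⟩
  · rintro ⟨hv, hq⟩
    obtain ⟨x, hx, e⟩ := ctx.exists_member hd hπ hv
    exact ⟨hv, x, (h x hx v hv e).2 hq, e⟩

variable {d c₀ σ : G} {π : HG D d →* P} (S : Sig D d π c₀ σ)
include S

theorem d_mem : d ∈ Fx D σ := ⟨S.hd, S.comm⟩

theorem c_mem : c₀ ∈ Fx D σ := ⟨S.hc, S.comm₀⟩

theorem fix_iff {x : G} (hx : x ∈ Nb D d) {v : Vec} (hv : v ∈ pts) (e : pf π x = tp v) :
    x ∈ Fx D σ ↔ fixd v = true := by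
  rw [mem_Fx, and_iff_right hx.1, ctx.act_fix S.hd S.hπ S.comm S.act hx hv e, fixd, veq_iff]

theorem inS_iff {x : G} (hx : x ∈ Nb D d) {v : Vec} (hv : v ∈ pts) (e : pf π x = tp v) :
    x ∈ Nb D c₀ ↔ inS0 v = true := by
  constructor
  · intro h
    have : v ∈ cs π (Nb D d ∩ Nb D c₀) := ⟨hv, x, ⟨hx, h⟩, e⟩
    rw [S.hS] at this
    exact this.2
  · intro h
    have : v ∈ cs π (Nb D d ∩ Nb D c₀) := by rw [S.hS]; exact ⟨hv, h⟩
    obtain ⟨-, y, hy, ey⟩ := this
    exact ctx.pf_inj S.hd S.hπ hy.1 hx (ey.trans e.symm) ▸ hy.2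

theorem card_fix_nb : (Fx D σ ∩ Nb D d).ncard = 63 := by
  rw [← fix_count]
  exact ctx.count_set S.hd S.hπ _ Set.inter_subset_right fun x hx v hv e =>
    ⟨fun h => (ctx.fix_iff S hx hv e).1 h.1, fun h => ⟨(ctx.fix_iff S hx hv e).2 h, hx⟩⟩

theorem card_fix_common : (Fx D σ ∩ (Nb D d ∩ Nb D c₀)).ncard = 36 := by
  rw [← fix_S_count]
  exact ctx.count_set S.hd S.hπ _ (fun x h => h.2.1) fun x hx v hv e => by
    rw [Set.mem_inter_iff, Set.mem_inter_iff, ctx.fix_iff S hx hv e, ctx.inS_iff S hx hv e, Bool.and_eq_true]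
    exact ⟨fun h => ⟨h.2.2, h.1⟩, fun h => ⟨h.2, hx, h.1⟩⟩

theorem exists_xj : ∃ x, x ∈ Fx D σ ∩ (Nb D d ∩ Nb D c₀) ∧ pf π x = tp pj := by
  have hpj : pj ∈ pts := mem_pts.2 (by decide +kernel)
  obtain ⟨x, hx, e⟩ := ctx.exists_member S.hd S.hπ hpj
  exact ⟨x, ⟨(ctx.fix_iff S hx hpj e).2 (by decide +kernel), hx, (ctx.inS_iff S hx hpj e).2 (by decide +kernel)⟩,
    e⟩

variable {xj : G} (hxj : xj ∈ Fx D σ ∩ (Nb D d ∩ Nb D c₀)) (exj : pf π xj = tp pj)
include hxj exj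

theorem commute_xj {x : G} (hx : x ∈ Nb D d) {v : Vec} (hv : v ∈ pts) (e : pf π x = tp v) :
    Commute xj x ↔ orth v pj = true := by
  have hpj : pj ∈ pts := mem_pts.2 (by decide +kernel)
  rw [← ctx.commute_iff S.hd S.hπ hxj.2.1 hx, exj, e, tp_commute_iff hpj hv]
  exact ⟨orth_symm, orth_symm⟩

theorem trans_R {x : G} (hx : x ∈ Fx D σ ∩ Nb D d) :
    ∃ k, Commute σ k ∧ Commute k d ∧ k * xj * k⁻¹ = x := by
  obtain ⟨v, hv, e⟩ := ctx.exists_point S.hd S.hπ hx.2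
  by_cases hne : x = xj
  · exact ⟨1, Commute.one_right _, Commute.one_left _, by rw [hne, one_mul, inv_one, mul_one]⟩
  by_cases hc : Commute xj x
  · have hfd := (ctx.fix_iff S hx.2 hv e).1 hx.1
    have h := all_pts fix_connected hv
    simp only [hfd, Bool.not_true, Bool.false_or, Bool.or_eq_true, Bool.not_eq_true', List.any_eq_true,
      Bool.and_eq_true, veq_iff] at h
    rcases h with h | h | ⟨q, hq, hqf, hvq, hqj⟩
    · exact absurd (ctx.pf_inj S.hd S.hπ hx.2 hxj.2.1 (by rw [e, h, exj])) hne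
    · rw [(ctx.commute_xj S hxj exj hx.2 hv e).1 hc] at h
      exact Bool.noConfusion h
    · obtain ⟨y, hy, ey⟩ := ctx.exists_member S.hd S.hπ hq
      have hyF := (ctx.fix_iff S hy hq ey).2 hqf
      have h1 : ¬ Commute xj y := fun hh => by
        rw [(ctx.commute_xj S hxj exj hy hq ey).1 hh] at hqj
        exact Bool.noConfusion hqj
      have h2 : ¬ Commute y x := fun hh => by
        rw [← ctx.commute_iff S.hd S.hπ hy hx.2, ey, e, tp_commute_iff hq hv] at hh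
        rw [orth_symm hh] at hvq
        exact Bool.noConfusion hvq
      refine ⟨y * x * (xj * y), (hyF.2.mul_right hx.1.2).mul_right (hxj.1.2.mul_right hyF.2),
        (hy.2.2.symm.mul_left hx.2.2.2.symm).mul_left (hxj.2.1.2.2.symm.mul_left hy.2.2.symm), ?_⟩
      calc y * x * (xj * y) * xj * (y * x * (xj * y))⁻¹
          = y * x * (xj * y * xj * (xj * y)⁻¹) * (y * x)⁻¹ := by group
        _ = x := by rw [pair_step ctx.hD hxj.1.1 hy.1 h1, pair_step ctx.hD hy.1 hx.1.1 h2]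
  · exact ⟨xj * x, hxj.1.2.mul_right hx.1.2, hxj.2.1.2.2.symm.mul_left hx.2.2.2.symm,
      pair_step ctx.hD hxj.1.1 hx.1.1 hc⟩

/-- The fixed members adjacent to `xj` and not commuting with `d`. -/
theorem at_xj : {c | c ∈ Fx D σ ∧ c ∈ Nb D xj ∧ ¬ Commute d c}.ncard = 32 ∧
    ∀ c ∈ Fx D σ, c ∈ Nb D xj → ¬ Commute d c → Commute c c₀ ∨ Commute (d * c * d⁻¹) c₀ := by
  classical
  have hpj : pj ∈ pts := mem_pts.2 (by decide +kernel)
  have hxD : xj ∈ D := hxj.1.1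
  have hσx : Commute σ xj := hxj.1.2
  have hdN : d ∈ Nb D xj := ⟨S.hd, Ne.symm hxj.2.1.2.1, hxj.2.1.2.2.symm⟩
  have hcN : c₀ ∈ Nb D xj := ⟨S.hc, Ne.symm hxj.2.2.2.1, hxj.2.2.2.2.symm⟩
  obtain ⟨ρ, hρ⟩ := ctx.exists_pi hxD
  obtain ⟨A, τ, hA⟩ := ctx.exists_action hxD hρ hσx
  have key : ∀ x ∈ Nb D xj, ∀ v ∈ pts, pf ρ x = tp v → (Commute σ x ↔ phi A τ v = v) := fun x hx v hv e =>
    ctx.act_fix hxD hρ hσx hA hx hv e
  obtain ⟨D0, hD0, eD⟩ := ctx.exists_point hxD hρ hdN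
  obtain ⟨C0, hC0, eC⟩ := ctx.exists_point hxD hρ hcN
  have hfD : phi A τ D0 = D0 := (key d hdN D0 hD0 eD).1 S.comm
  have hfC : phi A τ C0 = C0 := (key c₀ hcN C0 hC0 eC).1 S.comm₀
  have hcom : ∀ x ∈ Nb D xj, ∀ y ∈ Nb D xj, ∀ v ∈ pts, ∀ w ∈ pts, pf ρ x = tp v → pf ρ y = tp w →
      (Commute x y ↔ hf v w = 0) := fun x hx y hy v hv w hw e e' => by
    rw [← ctx.commute_iff hxD hρ hx hy, e, e', tp_commute_iff hv hw, orth_iff]
  have hDC : hf D0 C0 ≠ 0 := fun h => S.hdc ((hcom d hdN c₀ hcN D0 hD0 C0 hC0 eD eC).2 h)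
  -- the automorphism is not linear
  have hτ : ∀ a, τ a = a * a := by
    refine (ringAut_cases τ).resolve_left fun hlin => ?_
    have h12 : p12 ∈ pts := mem_pts.2 (by decide +kernel)
    have hne : pj ≠ p12 := by decide +kernel
    have ho : orth pj p12 = true := by decide +kernel
    obtain ⟨m1, u1, v1, perp1⟩ := comb_spec hpj h12 hne ho (one_ne_zero (α := K))
    have hom : om ≠ 0 := by decide
    obtain ⟨m2, u2, v2, perp2⟩ := comb_spec hpj h12 hne ho hom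
    have lift : ∀ v ∈ pts, orth pj v = true → v ≠ pj →
        ∃ x ∈ Nb D d, x ∈ Nb D xj ∧ pf π x = tp v := by
      intro v hv hov hvne
      obtain ⟨x, hx, e⟩ := ctx.exists_member S.hd S.hπ hv
      exact ⟨x, hx, ⟨hx.1, fun h => hvne (tp_inj hv hpj (by rw [← e, h, exj])),
        (ctx.commute_xj S hxj exj hx hv e).2 (orth_symm hov)⟩, e⟩
    obtain ⟨w, hwd, hwx, ew⟩ := lift p12 h12 ho hne.symm
    obtain ⟨w', hw'd, hw'x, ew'⟩ :=
      lift _ m1 (orth_symm (perp1 pj (orth_self hpj) (orth_symm ho))) u1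
    obtain ⟨q', hq'd, hq'x, eq'⟩ :=
      lift _ m2 (orth_symm (perp2 pj (orth_self hpj) (orth_symm ho))) u2
    obtain ⟨W0, hW0, eW⟩ := ctx.exists_point hxD hρ hwx
    obtain ⟨W1, hW1, eW'⟩ := ctx.exists_point hxD hρ hw'x
    obtain ⟨Q1, hQ1, eQ'⟩ := ctx.exists_point hxD hρ hq'x
    have hDW : D0 ≠ W0 := fun h =>
      hwd.2.1 (ctx.pf_inj hxD hρ hwx hdN (by rw [eW, eD, h]))
    have hoDW : orth D0 W0 = true := orth_iff.2 ((hcom d hdN w hwx D0 hD0 W0 hW0 eD eW).1 hwd.2.2)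
    have span : ∀ a : K, a ≠ 0 → ∀ y ∈ Nb D d, y ∈ Nb D xj → pf π y = tp (comb pj a p12) →
        ∀ Y ∈ pts, pf ρ y = tp Y → ∃ α β : K, Y = α • D0 + β • W0 := by
      intro a ha y hyd hyx ey Y hY eY
      obtain ⟨m, -, -, perp⟩ := comb_spec hpj h12 hne ho ha
      refine span_of_perp hD0 hW0 hY hDW hoDW fun z hz h1 h2 => ?_
      obtain ⟨e, he, rfl⟩ := ctx.pf_surj hxD hρ hz
      rw [← eD, ctx.commute_iff hxD hρ hdN he] at h1
      rw [← eW, ctx.commute_iff hxD hρ hwx he] at h2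
      rw [← eY, ctx.commute_iff hxD hρ hyx he]
      rcases eq_or_ne e d with rfl | hed
      · exact hyd.2.2.symm
      have hed' : e ∈ Nb D d := ⟨he.1, hed, h1⟩
      obtain ⟨P, hP, eP⟩ := ctx.exists_point S.hd S.hπ hed'
      have hP1 : orth pj P = true := orth_symm ((ctx.commute_xj S hxj exj hed' hP eP).1 he.2.2)
      have hP2 : orth p12 P = true := by
        rw [← tp_commute_iff h12 hP, ← ew, ← eP, ctx.commute_iff S.hd S.hπ hwd hed']
        exact h2
      rw [← ctx.commute_iff S.hd S.hπ hyd hed', ey, eP, tp_commute_iff m hP]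
      exact perp P hP1 hP2
    obtain ⟨α, β, hW1eq⟩ := span 1 one_ne_zero w' hw'd hw'x ew' W1 hW1 eW'
    obtain ⟨α', β', hQ1eq⟩ := span om hom q' hq'd hq'x eq' Q1 hQ1 eQ'
    have hwF : Commute σ w := ((ctx.fix_iff S hwd h12 ew).2 (by decide +kernel)).2
    have hw'F : Commute σ w' := ((ctx.fix_iff S hw'd m1 ew').2 (by decide +kernel)).2
    have hT : ∀ v ∈ pts, phi A τ v = v → ∃ c : K, umat A *ᵥ v = c • v := by
      intro v hv h
      rw [phi, semiVec_linear A hlin, nz_eq] at h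
      have h0 : umat A *ᵥ v ≠ 0 := fun e => ne_zero_of_mem hv (by rw [← h, e, smul_zero])
      exact ⟨sp (umat A *ᵥ v), by
        calc umat A *ᵥ v = sp (umat A *ᵥ v) • ((sp (umat A *ᵥ v))⁻¹ • (umat A *ᵥ v)) :=
              (smul_inv_smul₀ (sp_ne h0) _).symm
          _ = _ := by rw [h]⟩
    obtain ⟨a, ha⟩ := hT D0 hD0 hfD
    obtain ⟨b, hb⟩ := hT W0 hW0 ((key w hwx W0 hW0 eW).1 hwF)
    obtain ⟨c, hc⟩ := hT W1 hW1 ((key w' hw'x W1 hW1 eW').1 hw'F)
    have indep : ∀ s t : K, s • D0 = t • W0 → s = 0 ∧ t = 0 := by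
      intro s t h
      by_cases hs : s = 0
      · rw [hs, zero_smul] at h
        exact ⟨hs, (smul_eq_zero.1 h.symm).resolve_right (ne_zero_of_mem hW0)⟩
      · exfalso
        have ht : t ≠ 0 := fun ht => by
          rw [ht, zero_smul] at h
          exact (smul_eq_zero.1 h).elim hs (ne_zero_of_mem hD0)
        exact hDW (by rw [← nz_self hD0, ← nz_self hW0, ← nz_smul hs D0, h, nz_smul ht])
    have hα : α ≠ 0 := fun h0 => by
      rw [h0, zero_smul, zero_add] at hW1eq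
      have hβ : β ≠ 0 := fun hb0 => ne_zero_of_mem hW1 (by rw [hW1eq, hb0, zero_smul])
      have hWW : W1 = W0 := by rw [← nz_self hW1, hW1eq, nz_smul hβ, nz_self hW0]
      exact v1 (tp_inj m1 h12 (by rw [← ew', ← ew, ctx.pf_inj hxD hρ hw'x hwx (by rw [eW', eW, hWW])]))
    have hβ : β ≠ 0 := fun h0 => by
      rw [h0, zero_smul, add_zero] at hW1eq
      have hWD : W1 = D0 := by rw [← nz_self hW1, hW1eq, nz_smul hα, nz_self hD0]
      exact hw'd.2.1 (ctx.pf_inj hxD hρ hw'x hdN (by rw [eW', eD, hWD]))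
    have hab : a = b := by
      have h1 := hc
      rw [hW1eq, mulVec_add, mulVec_smul, mulVec_smul, ha, hb, smul_smul, smul_smul, smul_add, smul_smul,
        smul_smul] at h1
      have h2 : (α * a - c * α) • D0 = (c * β - β * b) • W0 := by
        rw [sub_smul, sub_smul, sub_eq_sub_iff_add_eq_add, h1]
        exact add_comm _ _
      obtain ⟨e1, e2⟩ := indep _ _ h2
      have h3 : a = c := mul_left_cancel₀ hα (by linear_combination e1)
      have h4 : c = b := mul_left_cancel₀ hβ (by linear_combination e2)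
      exact h3.trans h4
    have hqfix : phi A τ Q1 = Q1 := by
      have ha0 : a ≠ 0 := fun h0 => by
        have := hfD
        rw [phi, semiVec_linear A hlin, ha, h0, zero_smul, nz_eq, smul_zero] at this
        exact ne_zero_of_mem hD0 this.symm
      rw [phi, semiVec_linear A hlin, hQ1eq, mulVec_add, mulVec_smul, mulVec_smul, ha, hb, ← hab,
        smul_comm α' a, smul_comm β' a, ← smul_add, ← hQ1eq, nz_smul ha0, nz_self hQ1]
    have hσq : Commute σ q' := (key q' hq'x Q1 hQ1 eQ').2 hqfix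
    exact absurd ((ctx.fix_iff S hq'd m2 eq').1 ⟨hq'd.1, hσq⟩) (by decide +kernel)
  -- the fifteen
  set T : Set G := {x | x ∈ Nb D d ∧ x ∈ Fx D σ ∧ x ∈ Nb D c₀ ∧ x ∈ Nb D xj}
  have hT15 : T.ncard = 15 := by
    rw [← fix_S_perp]
    refine ctx.count_set S.hd S.hπ _ (fun x h => h.1) fun x hx v hv e => ?_
    have hxx : x ∈ Nb D xj ↔ (orth v pj = true ∧ veq v pj = false) := by
      constructor
      · intro h
        refine ⟨(ctx.commute_xj S hxj exj hx hv e).1 h.2.2, ?_⟩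
        rw [← Bool.not_eq_true, veq_iff]
        exact fun h' => h.2.1 (ctx.pf_inj S.hd S.hπ hx hxj.2.1 (by rw [e, h', exj]))
      · rintro ⟨h1, h2⟩
        refine ⟨hx.1, fun h' => ?_, (ctx.commute_xj S hxj exj hx hv e).2 h1⟩
        rw [tp_inj hv hpj (by rw [← e, h', exj]), veq_self] at h2
        exact Bool.noConfusion h2
    simp only [T, Set.mem_ofPred_eq, ctx.fix_iff S hx hv e, ctx.inS_iff S hx hv e, hxx, Bool.and_eq_true,
      Bool.not_eq_true', hx, true_and]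
    tauto
  have hTsub : T ⊆ Nb D xj := fun x hx => hx.2.2.2
  have hfin : (cs ρ T).Finite := Set.toFinite _
  obtain ⟨hcount, hdich⟩ := fixed_count A hτ hD0 hC0 hDC hfD hfC (S := hfin.toFinset)
    (by rw [← Set.ncard_eq_toFinset_card _ hfin, ctx.ncard_cs hxD hρ hTsub, hT15]) (by
      intro v hv
      obtain ⟨hv', x, ⟨hxd, hxF, hxc, hxx⟩, e⟩ := hfin.mem_toFinset.1 hv
      exact ⟨hv', (key x hxx v hv' e).1 hxF.2,
        (hcom x hxx d hdN v hv' D0 hD0 e eD).1 hxd.2.2.symm,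
        (hcom x hxx c₀ hcN v hv' C0 hC0 e eC).1 hxc.2.2.symm⟩)
  constructor
  · have hcs : cs ρ {c | c ∈ Fx D σ ∧ c ∈ Nb D xj ∧ ¬ Commute d c} =
        {v | v ∈ pts ∧ phi A τ v = v ∧ hf v D0 ≠ 0} := by
      ext v
      constructor
      · rintro ⟨hv, x, ⟨hxF, hxx, hxd⟩, e⟩
        exact ⟨hv, (key x hxx v hv e).1 hxF.2, fun h => hxd ((hcom x hxx d hdN v hv D0 hD0 e eD).2 h).symm⟩
      · rintro ⟨hv, hfix, hne⟩
        obtain ⟨x, hx, e⟩ := ctx.exists_member hxD hρ hv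
        exact ⟨hv, x, ⟨⟨hx.1, (key x hx v hv e).2 hfix⟩, hx,
          fun h => hne ((hcom x hx d hdN v hv D0 hD0 e eD).1 h.symm)⟩, e⟩
    rw [← hcount, ← hcs, ctx.ncard_cs hxD hρ fun c hc => hc.2.1]
  · intro c hcF hcx hcd
    obtain ⟨v, hv, e⟩ := ctx.exists_point hxD hρ hcx
    rcases hdich v hv ((key c hcx v hv e).1 hcF.2)
      (fun h => hcd ((hcom c hcx d hdN v hv D0 hD0 e eD).2 h).symm) with h | h
    · exact Or.inl ((hcom c hcx c₀ hcN v hv C0 hC0 e eC).2 h)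
    · right
      obtain ⟨hcj, hcj'⟩ := ctx.pf_conj hxD hρ (mem_HG hdN) hcx
      refine (hcom _ hcj c₀ hcN _ (tmv_mem hD0 hv) C0 hC0 ?_ eC).2 h
      rw [hcj', eD, e]
      exact tp_conj hD0 hv

end Ctx

end CfsgLib.Sporadic.MTwentyTwo
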