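import Cfsg.Agent.Lib.Sporadic.FieldFour

/-!
# The points of the six-dimensional unitary space over the field with four elements

Normalised isotropic vectors in coordinates, with a computable form; decidable facts on them.
-/

set_option autoImplicit false

namespace CfsgLib.Sporadic.MTwentyTwo

/-- The field. -/
abbrev K := FieldFour

/-- The space. -/
abbrev Vec := Fin 6 → K

/-- The primitive element. -/
def om : K := ⟨0, 1⟩

/-- The form, linear in the first and semilinear in the second variable. -/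
def fb (u v : Vec) : K :=
  u 0 * (v 0 * v 0) + u 1 * (v 1 * v 1) + u 2 * (v 2 * v 2) + u 3 * (v 3 * v 3) + u 4 * (v 4 * v 4) +
    u 5 * (v 5 * v 5)

/-- Comparison of field elements. -/
def keq (a b : K) : Bool := decide (a = b)

/-- Comparison of vectors. -/
def veq (u v : Vec) : Bool :=
  keq (u 0) (v 0) && keq (u 1) (v 1) && keq (u 2) (v 2) && keq (u 3) (v 3) && keq (u 4) (v 4) &&
    keq (u 5) (v 5)

theorem veq_iff {u v : Vec} : veq u v = true ↔ u = v := by
  simp only [veq, keq, Bool.and_eq_true, decide_eq_true_eq]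
  refine ⟨fun h => funext fun i => ?_, fun h => by simp [h]⟩
  obtain ⟨⟨⟨⟨⟨h0, h1⟩, h2⟩, h3⟩, h4⟩, h5⟩ := h
  fin_cases i <;> assumption

theorem veq_self (u : Vec) : veq u u = true := veq_iff.2 rfl

/-- The vector with given coordinates. -/
def mk6 (a b c d e f : K) : Vec := ![a, b, c, d, e, f]

/-- The element with a given code. -/
def kc (n : ℕ) : K := if n % 4 = 0 then 0 else if n % 4 = 1 then 1 else if n % 4 = 2 then om else om + 1

/-- The code of an element. -/
def kd (a : K) : ℕ := if a = 0 then 0 else if a = 1 then 1 else if a = om then 2 else 3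

/-- The vector with a given code. -/
def cv (n : ℕ) : Vec := mk6 (kc n) (kc (n / 4)) (kc (n / 16)) (kc (n / 64)) (kc (n / 256)) (kc (n / 1024))

/-- The code of a vector. -/
def vd (v : Vec) : ℕ :=
  kd (v 0) + 4 * (kd (v 1) + 4 * (kd (v 2) + 4 * (kd (v 3) + 4 * (kd (v 4) + 4 * kd (v 5)))))

theorem kc_kd : ∀ a : K, kc (kd a) = a ∧ kd a < 4 := by decide

theorem kc_mod (n : ℕ) : kc (n % 4) = kc n := by unfold kc; rw [Nat.mod_mod]

theorem kd_kc (n : ℕ) : kd (kc n) = n % 4 := by
  have h : ∀ r : Fin 4, kd (kc (r : ℕ)) = (r : ℕ) := by decide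
  rw [← kc_mod]
  exact h ⟨n % 4, Nat.mod_lt _ (by norm_num)⟩

theorem vd_cv {n : ℕ} (hn : n < 4096) : vd (cv n) = n := by
  simp [vd, cv, mk6, kd_kc]
  omega

theorem cv_vd (v : Vec) : cv (vd v) = v ∧ vd v < 4096 := by
  have h := fun i => kc_kd (v i)
  have b0 := (h 0).2
  have b1 := (h 1).2
  have b2 := (h 2).2
  have b3 := (h 3).2
  have b4 := (h 4).2
  have b5 := (h 5).2
  refine ⟨funext fun i => ?_, by unfold vd; omega⟩
  conv_rhs => rw [← (h i).1]
  simp only [cv, mk6]
  fin_cases i <;> simp only [Matrix.cons_val, Fin.zero_eta, Fin.mk_one, Fin.reduceFinMk] <;>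
    rw [← kc_mod] <;> congr 1 <;> unfold vd <;> omega

/-- The first non-zero coordinate. -/
def sp (v : Vec) : K :=
  if v 0 ≠ 0 then v 0 else if v 1 ≠ 0 then v 1 else if v 2 ≠ 0 then v 2 else if v 3 ≠ 0 then v 3
    else if v 4 ≠ 0 then v 4 else v 5

/-- The normalised multiple. -/
def nz (v : Vec) : Vec :=
  mk6 ((sp v)⁻¹ * v 0) ((sp v)⁻¹ * v 1) ((sp v)⁻¹ * v 2) ((sp v)⁻¹ * v 3) ((sp v)⁻¹ * v 4) ((sp v)⁻¹ * v 5)

/-- Normalised isotropic vectors. -/
def isPt (v : Vec) : Bool := keq (sp v) 1 && keq (fb v v) 0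

/-- The points. -/
def pts : List Vec := ((List.range 4096).filter fun n => isPt (cv n)).map cv

theorem mem_pts {v : Vec} : v ∈ pts ↔ isPt v = true := by
  simp only [pts, List.mem_map, List.mem_filter, List.mem_range]
  refine ⟨fun ⟨n, ⟨_, h⟩, e⟩ => e ▸ h, fun h => ⟨vd v, ⟨(cv_vd v).2, ?_⟩, (cv_vd v).1⟩⟩
  rw [(cv_vd v).1]; exact h

theorem pts_nodup : pts.Nodup := by
  refine List.Nodup.map_on ?_ (List.nodup_range.filter _)
  intro a ha b hb h
  simp only [List.mem_filter, List.mem_range] at ha hb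
  rw [← vd_cv ha.1, h, vd_cv hb.1]

theorem pts_length : pts.length = 693 := by decide +kernel

/-- Orthogonality. -/
def orth (u v : Vec) : Bool := keq (fb u v) 0

/-- The image of `x` under the transvection of `v`. -/
def tmv (v x : Vec) : Vec :=
  nz (mk6 (x 0 + fb x v * v 0) (x 1 + fb x v * v 1) (x 2 + fb x v * v 2) (x 3 + fb x v * v 3)
    (x 4 + fb x v * v 4) (x 5 + fb x v * v 5))

/-- The point `u + a w`. -/
def comb (u : Vec) (a : K) (w : Vec) : Vec :=
  nz (mk6 (u 0 + a * w 0) (u 1 + a * w 1) (u 2 + a * w 2) (u 3 + a * w 3) (u 4 + a * w 4) (u 5 + a * w 5))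

/-- Three reference points. -/
def p12 : Vec := mk6 1 1 0 0 0 0
@[inherit_doc p12] def p34 : Vec := mk6 0 0 1 1 0 0
@[inherit_doc p12] def p13 : Vec := mk6 1 0 1 0 0 0
/-- The all-one point. -/
def pj : Vec := mk6 1 1 1 1 1 1

theorem count_orth : pts.countP (orth p12) = 181 := by decide +kernel

theorem count_nonorth : pts.countP (fun v => orth p12 v && orth p13 v) = 45 := by decide +kernel

theorem perp_pair : pts.all (fun P =>
    !(pts.all fun Q => !(orth p12 Q && orth p13 Q) || orth P Q) ||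
      (veq P p12 || veq P p13 || veq P (tmv p12 p13))) = true := by decide +kernel

theorem perp_line : pts.all (fun P =>
    !(pts.all fun Q => !(orth p12 Q && orth p34 Q) || orth P Q) ||
      (veq P p12 || veq P p34 || veq P (comb p12 1 p34) || veq P (comb p12 om p34) ||
        veq P (comb p12 (om + 1) p34))) = true := by decide +kernel

end CfsgLib.Sporadic.MTwentyTwo
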