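import Cfsg.Agent.Lib.Sporadic.MTwentyTwo.Picture
import Cfsg.Agent.Lib.Sporadic.MTwentyTwo.Diag

/-!
# The number of transpositions of a group of type M(22)
-/

set_option autoImplicit false
set_option linter.unusedSectionVars false

namespace CfsgLib.Sporadic.MTwentyTwo

open CfsgLib.Sporadic.FischerTransitivity CfsgLib.Sporadic.FischerRankThree
open CfsgLib.Sporadic.U62Lift (hf hf_add_left hf_smul_left hf_eq_zero_symm hf_smul_right hf_add_right)

attribute [local irreducible] pts tp orth veq comb tmv dmul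

variable {G : Type*} [Group G] {D : Set G}

/-- The coordinates of a set of neighbours. -/
def cs {d : G} (π : HG D d →* P) (S : Set G) : Set Vec :=
  {v | v ∈ pts ∧ ∃ x ∈ S, pf π x = tp v}

theorem mem_cs {d : G} {π : HG D d →* P} {S : Set G} {v : Vec} :
    v ∈ cs π S ↔ v ∈ pts ∧ ∃ x ∈ S, pf π x = tp v := Iff.rfl

theorem comb_spec {u w : Vec} (hu : u ∈ pts) (hw : w ∈ pts) (hne : u ≠ w) (h : orth u w = true)
    {a : K} (ha : a ≠ 0) :
    comb u a w ∈ pts ∧ comb u a w ≠ u ∧ comb u a w ≠ w ∧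
      ∀ z, orth u z = true → orth w z = true → orth (comb u a w) z = true := by
  have e : comb u a w = nz (u + a • w) := by
    unfold comb
    congr 1
    funext i
    simp only [mk6, Pi.add_apply, Pi.smul_apply, smul_eq_mul]
    fin_cases i <;> rfl
  have h0 : u + a • w ≠ 0 := by
    intro h0
    apply hne
    rw [← nz_self hu, ← nz_self hw, ← nz_smul ha w]
    congr 1
    calc u = u + (a • w + a • w) := by rw [U62Lift.add_self_vec hK, add_zero]
      _ = a • w := by rw [← add_assoc, h0, zero_add]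
  have huw := orth_iff.1 h
  have hi : hf (u + a • w) (u + a • w) = 0 := by
    rw [hf_add_left, hf_add_right hK, hf_add_right hK, hf_smul_left, hf_smul_left, hf_smul_right, hf_smul_right,
      iso_of_mem hu, iso_of_mem hw, huw, hf_eq_zero_symm hK huw]
    ring
  have hcases : ∀ c : K, c • (u + a • w) = u → False := by
    intro c hc
    by_cases hc1 : c = 1
    · rw [hc1, one_smul, add_eq_left, smul_eq_zero] at hc
      exact hc.elim ha (ne_zero_of_mem hw)
    · have h1 : (c - 1) • u + (c * a) • w = 0 := by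
        rw [sub_smul, one_smul, sub_add_eq_add_sub, mul_smul, ← smul_add, hc, sub_self]
      apply hne
      rw [← nz_self hu, ← nz_self hw, ← nz_smul (sub_ne_zero.2 hc1) u]
      have h2 : (c - 1) • u = (c * a) • w := by
        calc (c - 1) • u = (c - 1) • u + ((c * a) • w + (c * a) • w) := by
              rw [U62Lift.add_self_vec hK, add_zero]
          _ = (c * a) • w := by rw [← add_assoc, h1, zero_add]
      rw [h2, nz_smul (mul_ne_zero (by
        rintro rfl
        rw [zero_smul] at hc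
        exact ne_zero_of_mem hu hc.symm) ha)]
  refine ⟨e ▸ nz_mem h0 hi, ?_, ?_, fun z h1 h2 => ?_⟩
  · rw [e, nz_eq]; exact hcases _
  · rw [e, nz_eq]
    intro hc
    set c := (sp (u + a • w))⁻¹
    have hc0 : c ≠ 0 := inv_ne_zero (sp_ne h0)
    apply hne
    have h1 : c • u = (1 + c * a) • w := by
      calc c • u = c • u + ((c * a) • w + (c * a) • w) := by rw [U62Lift.add_self_vec hK, add_zero]
        _ = c • (u + a • w) + (c * a) • w := by rw [smul_add, mul_smul, add_assoc]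
        _ = _ := by rw [hc, add_smul, one_smul]
    have h3 : 1 + c * a ≠ 0 := fun h3 => by
      rw [h3, zero_smul, smul_eq_zero] at h1
      exact h1.elim hc0 (ne_zero_of_mem hu)
    rw [← nz_self hu, ← nz_self hw, ← nz_smul hc0 u, h1, nz_smul h3]
  · rw [e, orth_iff, nz_eq, hf_smul_left, hf_add_left, hf_smul_left, orth_iff.1 h1, orth_iff.1 h2,
      mul_zero, add_zero, mul_zero]

variable [Finite G] (ctx : Ctx D)
include ctx

namespace Ctx

theorem ncard_cs {d : G} (hd : d ∈ D) {π : HG D d →* P} (hπ : IsPi D d π) {S : Set G}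
    (hS : S ⊆ Nb D d) : (cs π S).ncard = S.ncard := by
  rw [← Set.InjOn.ncard_image fun a ha b hb => tp_inj ha.1 hb.1,
    ← Set.InjOn.ncard_image fun a ha b hb => ctx.pf_inj hd hπ (hS ha) (hS hb)]
  congr 1
  ext z
  constructor
  · rintro ⟨v, ⟨hv, x, hx, e⟩, rfl⟩
    exact ⟨x, hx, e⟩
  · rintro ⟨x, hx, rfl⟩
    obtain ⟨v, hv, e⟩ := ctx.pf_mem hd hπ (hS hx)
    exact ⟨v, ⟨hv, x, hx, e.symm⟩, e⟩

theorem pf_conj {d : G} (hd : d ∈ D) {π : HG D d →* P} (hπ : IsPi D d π) {h x : G} (hh : h ∈ HG D d)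
    (hx : x ∈ Nb D d) : h * x * h⁻¹ ∈ Nb D d ∧ pf π (h * x * h⁻¹) = pf π h * pf π x * (pf π h)⁻¹ := by
  refine ⟨?_, by rw [pf_mul π (mul_mem hh (mem_HG hx)) (inv_mem hh), pf_mul π hh (mem_HG hx), pf_inv π hh]⟩
  have := nb_conj ctx.hD h hx
  rwa [show h * d * h⁻¹ = d by rw [← (HG_commute hh).eq, mul_inv_cancel_right]] at this

/-- No three common neighbours lie on a line. -/
theorem no_three {d c : G} (hd : d ∈ D) (hc : c ∈ D) (hdc : ¬ Commute d c) {π : HG D d →* P}
    (hπ : IsPi D d π) {p q : Vec} {a : K} (ha : a ≠ 0) (hpq : p ≠ q) (ho : orth p q = true)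
    (hp : p ∈ cs π (Nb D d ∩ Nb D c)) (hq : q ∈ cs π (Nb D d ∩ Nb D c)) :
    comb p a q ∉ cs π (Nb D d ∩ Nb D c) := by
  classical
  intro hr
  obtain ⟨hp', x, hx, hxp⟩ := hp
  obtain ⟨hq', y, hy, hyq⟩ := hq
  obtain ⟨hr', z, hz, hzr⟩ := hr
  obtain ⟨-, hrp, hrq, hrperp⟩ := comb_spec hp' hq' hpq ho ha
  have hcxy : Commute x y := (ctx.commute_iff hd hπ hx.1 hy.1).1 (by
    rw [hxp, hyq]; exact (tp_commute_iff hp' hq').2 ho)
  obtain ⟨Y, hnd, hlen, hY, hYc, hprod, -⟩ := lineFacts_TP.five _ (mem_TP hp') _ (mem_TP hq')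
    (fun h => hpq (tp_inj hp' hq' h)) ((tp_commute_iff hp' hq').2 ho)
  have hzY : tp (comb p a q) ∈ Y := by
    refine (hY _).2 ⟨mem_TP hr', fun h => hrp (tp_inj hr' hp' h), fun h => hrq (tp_inj hr' hq' h),
      (tp_commute_iff hp' hr').2 (orth_symm (hrperp p (orth_self hp') (orth_symm ho))),
      (tp_commute_iff hq' hr').2 (orth_symm (hrperp q ho (orth_self hq'))), ?_⟩
    rintro _ ⟨v, hv, rfl⟩ h1 h2
    exact (tp_commute_iff hr' hv).2 (hrperp v ((tp_commute_iff hp' hv).1 h1) ((tp_commute_iff hq' hv).1 h2))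
  obtain ⟨s, t, hY'⟩ : ∃ s t, Y.Perm [tp (comb p a q), s, t] := by
    have h2 := (List.perm_cons_erase hzY)
    have hl : (Y.erase (tp (comb p a q))).length = 2 := by rw [List.length_erase_of_mem hzY, hlen]
    obtain ⟨s, t, hst⟩ := List.length_eq_two.1 hl
    exact ⟨s, t, hst ▸ h2⟩
  have hprod' : pf π x * pf π y * (pf π z * s * t) = 1 := by
    have hp3 : Y.prod = tp (comb p a q) * s * t := by
      have := hY'.prod_eq' (List.pairwise_of_forall_mem_list fun u hu v hv => hYc u hu v hv)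
      rw [this]
      simp [mul_assoc]
    rw [hxp, hyq, hzr, ← hp3]
    exact hprod
  have hmem : ∀ u ∈ [tp (comb p a q), s, t], u ∈ Y := fun u hu => hY'.mem_iff.2 hu
  have hnd' : [tp (comb p a q), s, t].Nodup := hY'.nodup_iff.1 hnd
  have hlift : ∀ u ∈ [tp (comb p a q), s, t], ∃ w ∈ Nb D d, pf π w = u ∧ Commute x w ∧ Commute y w ∧ w ≠ x ∧ w ≠ y := by
    intro u hu
    obtain ⟨huT, hu1, hu2, hu3, hu4, -⟩ := (hY u).1 (hmem u hu)
    obtain ⟨w, hw, rfl⟩ := ctx.pf_surj hd hπ huT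
    rw [← hxp] at hu1 hu3
    rw [← hyq] at hu2 hu4
    exact ⟨w, hw, rfl, (ctx.commute_iff hd hπ hx.1 hw).1 hu3, (ctx.commute_iff hd hπ hy.1 hw).1 hu4,
      fun e => hu1 (by rw [e]), fun e => hu2 (by rw [e])⟩
  obtain ⟨z', hz', ez', hxz, hyz, hzx, hzy⟩ := hlift (tp (comb p a q)) (by simp)
  obtain rfl : z' = z := ctx.pf_inj hd hπ hz' hz.1 (ez'.trans hzr.symm)
  obtain ⟨S, hS, eS, hxS, hyS, hSx, hSy⟩ := hlift s (by simp)
  obtain ⟨T, hT, eT, hxT, hyT, hTx, hTy⟩ := hlift t (by simp)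
  have hzS : Commute z' S := (ctx.commute_iff hd hπ hz' hS).1 (by
    rw [ez', eS]; exact hYc _ (hmem _ (by simp)) _ (hmem _ (by simp)))
  have hzT : Commute z' T := (ctx.commute_iff hd hπ hz' hT).1 (by
    rw [ez', eT]; exact hYc _ (hmem _ (by simp)) _ (hmem _ (by simp)))
  have hST : Commute S T := (ctx.commute_iff hd hπ hS hT).1 (by
    rw [eS, eT]; exact hYc _ (hmem _ (by simp)) _ (hmem _ (by simp)))
  simp only [List.nodup_cons, List.mem_cons, List.not_mem_nil, or_false, not_or, List.nodup_nil,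
    and_true, not_false_eq_true] at hnd'
  obtain ⟨⟨nzs, nzt⟩, nst⟩ := hnd'
  have nzS : z' ≠ S := fun e => nzs (by rw [← ez', e, eS])
  have nzT : z' ≠ T := fun e => nzt (by rw [← ez', e, eT])
  have nST : S ≠ T := fun e => nst (by rw [← eS, e, eT])
  have nxy : x ≠ y := fun e => hpq (tp_inj hp' hq' (by rw [← hxp, e, hyq]))
  have m3 := mul_mem (mul_mem (mem_HG hz') (mem_HG hS)) (mem_HG hT)
  have m5 : x * y * (z' * S * T) ∈ HG D d := mul_mem (mul_mem (mem_HG hx.1) (mem_HG hy.1)) m3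
  have hk := ctx.center_mem hd hπ m5 (by
    rw [pf_mul π (mul_mem (mem_HG hx.1) (mem_HG hy.1)) m3, pf_mul π (mem_HG hx.1) (mem_HG hy.1),
      pf_mul π (mul_mem (mem_HG hz') (mem_HG hS)) (mem_HG hT), pf_mul π (mem_HG hz') (mem_HG hS), eS, eT]
    exact hprod')
  obtain ⟨ρ, hρ⟩ := ctx.exists_pi hx.1.1
  have hxd : d ∈ Nb D x := ⟨hd, Ne.symm hx.1.2.1, hx.1.2.2.symm⟩
  have hxc : c ∈ Nb D x := ⟨hc, Ne.symm hx.2.2.1, hx.2.2.2.symm⟩
  have nyx : y ∈ Nb D x := ⟨hy.1.1, nxy.symm, hcxy⟩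
  have nzx : z' ∈ Nb D x := ⟨hz'.1, hzx, hxz⟩
  have nSx : S ∈ Nb D x := ⟨hS.1, hSx, hxS⟩
  have nTx : T ∈ Nb D x := ⟨hT.1, hTx, hxT⟩
  have hx1 : pf ρ x = 1 := by
    rw [pf_eq ρ (ctx.self_mem_HG hx.1.1), ← MonoidHom.mem_ker, hρ.ker, Subgroup.mem_center_iff]
    exact fun w => Subtype.ext (HG_commute w.2).eq.symm
  have inj := fun {u w : G} (hu : u ∈ Nb D x) (hw : w ∈ Nb D x) (hne : u ≠ w) (e : pf ρ u = pf ρ w) =>
    hne (ctx.pf_inj hx.1.1 hρ hu hw e)
  have com := fun {u w : G} (hu : u ∈ Nb D x) (hw : w ∈ Nb D x) (hc : Commute u w) =>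
    (ctx.commute_iff hx.1.1 hρ hu hw).2 hc
  rcases hk with hk | hk
  · -- four commuting transvections
    refine lineFacts_TP.prod_ne [pf ρ y, pf ρ z', pf ρ S, pf ρ T] ?_ ?_ ?_ (by simp) (by simp) ?_
    · simp only [List.nodup_cons, List.mem_cons, List.not_mem_nil, or_false, not_or, List.nodup_nil,
        and_true, not_false_eq_true]
      exact ⟨⟨inj nyx nzx hzy.symm, inj nyx nSx hSy.symm, inj nyx nTx hTy.symm⟩,
        ⟨inj nzx nSx nzS, inj nzx nTx nzT⟩, inj nSx nTx nST⟩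
    · simp only [List.mem_cons, List.not_mem_nil, or_false]
      rintro u (rfl | rfl | rfl | rfl) <;> exact ctx.pf_mem hx.1.1 hρ (by assumption)
    · have hl : ∀ u ∈ [pf ρ y, pf ρ z', pf ρ S, pf ρ T], ∃ w ∈ [y, z', S, T], pf ρ w = u := by simp
      intro u hu v hv
      obtain ⟨u', hu', rfl⟩ := hl u hu
      obtain ⟨v', hv', rfl⟩ := hl v hv
      have hN : ∀ w ∈ [y, z', S, T], w ∈ Nb D x := by simp [nyx, nzx, nSx, nTx]
      refine com (hN _ hu') (hN _ hv') ?_
      simp only [List.mem_cons, List.not_mem_nil, or_false] at hu' hv'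
      rcases hu' with rfl | rfl | rfl | rfl <;> rcases hv' with rfl | rfl | rfl | rfl <;>
        first
        | exact Commute.refl _
        | assumption
        | exact hyz.symm | exact hyS.symm | exact hyT.symm | exact hzS.symm | exact hzT.symm | exact hST.symm
    · have e : y * (z' * (S * T)) = x := by
        have h' : x * (y * (z' * (S * T))) = 1 := by simpa only [mul_assoc] using hk
        rw [eq_inv_of_mul_eq_one_right h', inv_eq ctx.hD hx.1.1]
      simp only [List.prod_cons, List.prod_nil, mul_one]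
      rw [← pf_mul ρ (mem_HG nSx) (mem_HG nTx), ← pf_mul ρ (mem_HG nzx) (mul_mem (mem_HG nSx) (mem_HG nTx)),
        ← pf_mul ρ (mem_HG nyx) (mul_mem (mem_HG nzx) (mul_mem (mem_HG nSx) (mem_HG nTx))), e, hx1]
  · -- five of them, so `d` is on the line of `y` and `z'`
    obtain ⟨Y', -, -, hY2, -, -, huniq⟩ := lineFacts_TP.five _ (ctx.pf_mem hx.1.1 hρ nyx) _
      (ctx.pf_mem hx.1.1 hρ nzx) (inj nyx nzx hzy.symm) (com nyx nzx hyz)
    have hcy : Commute c y := hy.2.2.2
    have hcz : Commute c z' := hz.2.2.2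
    have hd' : ∀ w ∈ [y, z', S, T], w ≠ d ∧ Commute d w := by
      simp [hy.1.2.1, hy.1.2.2, hz'.2.1, hz'.2.2, hS.2.1, hS.2.2, hT.2.1, hT.2.2]
    have hdY : pf ρ d ∈ Y' := by
      refine huniq (pf ρ d) (pf ρ S) (pf ρ T) (ctx.pf_mem hx.1.1 hρ hxd) (ctx.pf_mem hx.1.1 hρ nSx)
        (ctx.pf_mem hx.1.1 hρ nTx) ?_ ?_ ?_
      · simp only [List.nodup_cons, List.mem_cons, List.not_mem_nil, or_false, not_or, List.nodup_nil,
          and_true, not_false_eq_true]
        exact ⟨⟨inj nyx nzx hzy.symm, inj nyx hxd hy.1.2.1, inj nyx nSx hSy.symm, inj nyx nTx hTy.symm⟩,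
          ⟨inj nzx hxd hz'.2.1, inj nzx nSx nzS, inj nzx nTx nzT⟩,
          ⟨inj hxd nSx hS.2.1.symm, inj hxd nTx hT.2.1.symm⟩, inj nSx nTx nST⟩
      · have hl : ∀ u ∈ [pf ρ y, pf ρ z', pf ρ d, pf ρ S, pf ρ T], ∃ w ∈ [y, z', d, S, T], pf ρ w = u := by simp
        intro u hu v hv
        obtain ⟨u', hu', rfl⟩ := hl u hu
        obtain ⟨v', hv', rfl⟩ := hl v hv
        have hN : ∀ w ∈ [y, z', d, S, T], w ∈ Nb D x := by simp [nyx, nzx, nSx, nTx, hxd]
        refine com (hN _ hu') (hN _ hv') ?_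
        simp only [List.mem_cons, List.not_mem_nil, or_false] at hu' hv'
        rcases hu' with rfl | rfl | rfl | rfl | rfl <;> rcases hv' with rfl | rfl | rfl | rfl | rfl <;>
          first
          | exact Commute.refl _
          | assumption
          | exact (hd' _ (by simp)).2 | exact (hd' _ (by simp)).2.symm
          | exact hyz.symm | exact hyS.symm | exact hyT.symm | exact hzS.symm | exact hzT.symm | exact hST.symm
      · have e : y * z' * (d * S * T) = x := by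
          have h' : x * (y * (z' * (S * T))) = d := by simpa only [mul_assoc] using hk
          calc y * z' * (d * S * T) = d * (y * (z' * (S * T))) := by
                rw [show y * z' * (d * S * T) = (y * z' * d) * (S * T) by group,
                  show y * z' * d = d * (y * z') by
                    rw [((hd' y (by simp)).2.mul_right (hd' z' (by simp)).2).eq]]
                group
            _ = x := by
              calc d * (y * (z' * (S * T))) = d * (x * x * (y * (z' * (S * T)))) := by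
                    rw [FischerTransitivity.sq ctx.hD hx.1.1, one_mul]
                _ = d * (x * d) := by rw [mul_assoc x x, h']
                _ = d * d * x := by rw [← hx.1.2.2.eq, mul_assoc]
                _ = x := by rw [FischerTransitivity.sq ctx.hD hd, one_mul]
        rw [← pf_mul ρ (mem_HG hxd) (mem_HG nSx),
          ← pf_mul ρ (mul_mem (mem_HG hxd) (mem_HG nSx)) (mem_HG nTx), ← pf_mul ρ (mem_HG nyx) (mem_HG nzx),
          ← pf_mul ρ (mul_mem (mem_HG nyx) (mem_HG nzx)) (mul_mem (mul_mem (mem_HG hxd) (mem_HG nSx)) (mem_HG nTx)),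
          e, hx1]
    exact hdc ((ctx.commute_iff hx.1.1 hρ hxd hxc).1 (((hY2 _).1 hdY).2.2.2.2.2 _
      (ctx.pf_mem hx.1.1 hρ hxc) (com nyx hxc hcy.symm) (com nzx hxc hcz.symm)))

/-- An invariant common neighbourhood in coordinates. -/
theorem invSet {d c : G} (hd : d ∈ D) (hc : c ∈ D) (hdc : ¬ Commute d c) {π : HG D d →* P}
    (hπ : IsPi D d π)
    (hinv : ∀ u ∈ E0, ∃ h ∈ HG D d, pf π h = u ∧ ∀ x ∈ Nb D d ∩ Nb D c, h * x * h⁻¹ ∈ Nb D c) :
    InvSet (cs π (Nb D d ∩ Nb D c)) where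
  sub v hv := hv.1
  inv d' hd' v hv := by
    rintro ⟨-, x, hx, e⟩
    obtain ⟨u, hu, hall⟩ := exists_diag hd'
    obtain ⟨h, hh, rfl, hst⟩ := hinv u hu
    obtain ⟨h1, h2⟩ := ctx.pf_conj hd hπ hh hx.1
    exact ⟨(hall v hv).1, _, ⟨h1, hst x hx⟩, by rw [h2, e]; exact (hall v hv).2⟩
  closed := by
    rintro p ⟨hp, x, hx, ep⟩ q ⟨hq, y, hy, eq⟩ -
    obtain ⟨h1, h2⟩ := ctx.pf_conj hd hπ (mem_HG hx.1) hy.1
    refine ⟨tmv_mem hp hq, _, ⟨h1, ?_⟩, by rw [h2, ep, eq]; exact tp_conj hp hq⟩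
    have := nb_conj ctx.hD x hy.2
    rwa [show x * c * x⁻¹ = c by rw [← hx.2.2.2.eq, mul_inv_cancel_right]] at this
  nocol p hp q hq hne ho a ha := ctx.no_three hd hc hdc hπ ha hne ho hp hq
  big := by
    rw [ctx.ncard_cs hd hπ Set.inter_subset_left]
    obtain ⟨e, he, -⟩ := ctx.common_noncomm hd hc hdc
    have h := ctx.card_nb_three hd hdc he hc
    have : Nb D e ∩ (Nb D d ∩ Nb D c) ⊂ Nb D d ∩ Nb D c :=
      ⟨Set.inter_subset_right, fun h' => (h' he).1.2.1 rfl⟩
    have := Set.ncard_lt_ncard this (Set.toFinite _)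
    omega

theorem dvd_common {d : G} (hd : d ∈ D) :
    ∃ c ∈ D, ¬ Commute d c ∧ 3 ^ 6 ∣ Nat.card (Subgroup.closure (Nb D d ∩ Nb D c)) := by
  obtain ⟨d₀, hd₀, c₀, hc₀, hn₀, -, c₃, hc₃, hrefl⟩ := ctx.ht.2
  obtain ⟨g, hg⟩ := ctx.hclass d₀ hd₀ d hd
  refine ⟨g * c₀ * g⁻¹, ctx.hD.2.1 g c₀ hc₀, hg ▸ fun h => hn₀ ((Commute.conj_iff g).1 h), ?_⟩
  have h := (proj_refl_dvd hc₃ hrefl).trans (Subgroup.card_quotient_dvd_card _)
  have e : Subgroup.closure (Nb D d ∩ Nb D (g * c₀ * g⁻¹)) =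
      (Subgroup.closure (Nb D d₀ ∩ Nb D c₀)).map (MulAut.conj g).toMonoidHom := by
    rw [MonoidHom.map_closure, ← hg, ← nb_image ctx.hD, ← nb_image ctx.hD,
      ← Set.image_inter (fun a b h => mul_left_cancel (mul_right_cancel h))]
    rfl
  rw [e, Subgroup.card_map_of_injective (MulAut.conj g).injective]
  exact h

theorem exists_invariant {d : G} (hd : d ∈ D) {π : HG D d →* P} (hπ : IsPi D d π) :
    ∃ c ∈ D, ¬ Commute d c ∧
      ∀ u ∈ E0, ∃ h ∈ HG D d, pf π h = u ∧ ∀ x ∈ Nb D d ∩ Nb D c, h * x * h⁻¹ ∈ Nb D c := by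
  obtain ⟨c, hc, hdc, hdvd⟩ := ctx.dvd_common hd
  set L := Subgroup.closure (Nb D d ∩ Nb D c) with hLdef
  have hLH : L ≤ HG D d := Subgroup.closure_mono Set.inter_subset_left
  have hLc : ∀ l ∈ L, Commute c l := fun l hl =>
    HG_commute (Subgroup.closure_mono (Set.inter_subset_right (s := Nb D d)) hl)
  let φ : L →* P := π.comp (Subgroup.inclusion hLH)
  have hφ : Function.Injective φ := by
    rw [← MonoidHom.ker_eq_bot_iff, eq_bot_iff]
    intro l hl
    rw [Subgroup.mem_bot]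
    rw [MonoidHom.mem_ker] at hl
    rcases ctx.center_mem hd hπ (hLH l.2) (by rw [pf_eq π (hLH l.2)]; exact hl) with e | e
    · exact Subtype.ext e
    · exact absurd (e ▸ hLc _ l.2).symm hdc
  have : Fact (Nat.Prime 3) := ⟨Nat.prime_three⟩
  have hcard : 3 ^ 6 ∣ Nat.card φ.range := by
    rwa [← Nat.card_congr (MonoidHom.ofInjective hφ).toEquiv]
  obtain ⟨Q, hQ⟩ := Sylow.exists_subgroup_card_pow_prime 3 hcard
  have hQP : Nat.card (Q.map φ.range.subtype) = 3 ^ (Nat.card P).factorization 3 := by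
    rw [Subgroup.card_map_of_injective φ.range.subtype_injective, hQ, CosetCert.FiP.card_PSU6,
      show (9196830720 : ℕ) = 3 ^ 6 * 12615680 by norm_num,
      Nat.factorization_mul (by norm_num) (by norm_num), Finsupp.add_apply, Nat.factorization_pow,
      Finsupp.smul_apply, Nat.prime_three.factorization_self,
      Nat.factorization_eq_zero_of_not_dvd (by norm_num : ¬ 3 ∣ 12615680)]
    norm_num
  let S₁ : Sylow 3 P := Sylow.ofCard (Q.map φ.range.subtype) hQP
  obtain ⟨S₀, hS₀⟩ := E0_pGroup.exists_le_sylow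
  obtain ⟨k, hk⟩ := MulAction.exists_smul_eq P S₀ S₁
  obtain ⟨k', hk'⟩ := hπ.surj k
  have hmove : ∀ u ∈ E0, k * u * k⁻¹ ∈ φ.range := by
    intro u hu
    have h1 : k * u * k⁻¹ ∈ (k • S₀ : Sylow 3 P) := by
      show k * u * k⁻¹ ∈ ((k • S₀ : Sylow 3 P) : Subgroup P)
      rw [Sylow.coe_subgroup_smul]
      exact ⟨u, hS₀ hu, rfl⟩
    rw [hk] at h1
    exact Subgroup.map_subtype_le Q h1
  refine ⟨(k' : G)⁻¹ * c * k', by simpa using ctx.hD.2.1 (k' : G)⁻¹ c hc, ?_, fun u hu => ?_⟩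
  · intro h
    apply hdc
    have := (Commute.conj_iff (k' : G)).2 h
    rwa [show (k' : G) * d * (k' : G)⁻¹ = d by rw [← (HG_commute k'.2).eq, mul_inv_cancel_right],
      show (k' : G) * ((k' : G)⁻¹ * c * k') * (k' : G)⁻¹ = c by group] at this
  · obtain ⟨l, hl⟩ := hmove u hu
    refine ⟨(k' : G)⁻¹ * l * k', mul_mem (mul_mem (inv_mem k'.2) (hLH l.2)) k'.2, ?_, fun x hx => ?_⟩
    · rw [pf_mul π (mul_mem (inv_mem k'.2) (hLH l.2)) k'.2, pf_mul π (inv_mem k'.2) (hLH l.2),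
        pf_inv π k'.2, pf_eq π k'.2, pf_eq π (hLH l.2)]
      rw [show (⟨(k' : G), k'.2⟩ : HG D d) = k' from rfl, hk',
        show π ⟨(l : G), hLH l.2⟩ = k * u * k⁻¹ from hl]
      group
    · have := nb_conj ctx.hD ((k' : G)⁻¹ * l * k') hx.2
      rwa [show (k' : G)⁻¹ * l * k' * ((k' : G)⁻¹ * c * k') * ((k' : G)⁻¹ * l * k')⁻¹ = (k' : G)⁻¹ * c * k' by
        calc _ = (k' : G)⁻¹ * ((l : G) * c * (l : G)⁻¹) * k' := by group
          _ = _ := by rw [← (hLc _ l.2).eq, mul_inv_cancel_right]] at this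

theorem card_common {d c : G} (hd : d ∈ D) (hc : c ∈ D) (hdc : ¬ Commute d c) :
    (Nb D d ∩ Nb D c).ncard = 126 := by
  obtain ⟨π, hπ⟩ := ctx.exists_pi hd
  obtain ⟨c₁, hc₁, hdc₁, hinv⟩ := ctx.exists_invariant hd hπ
  have h := (ctx.invSet hd hc₁ hdc₁ hπ hinv).ncard_eq
  rw [ctx.ncard_cs hd hπ Set.inter_subset_left] at h
  obtain ⟨g, hg1, hg2⟩ := adj_transitive ctx.hD ctx.hclass ctx.hperf ctx.hsol hd hc₁ hc hdc₁ hdc
  rw [← hg1, ← hg2, ← nb_image ctx.hD, ← nb_image ctx.hD,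
    ← Set.image_inter (fun a b h => mul_left_cancel (mul_right_cancel h)),
    Set.ncard_image_of_injective _ (fun a b h => mul_left_cancel (mul_right_cancel h)), h]

theorem card_adj_nb {d e : G} (hd : d ∈ D) (he : e ∈ Nb D d) :
    {y | y ∈ Nb D e ∧ ¬ Commute d y}.ncard = 512 := by
  have h1 : Nb D e = insert d ((Nb D d ∩ Nb D e) ∪ {y | y ∈ Nb D e ∧ ¬ Commute d y}) := by
    ext y
    constructor
    · intro hy
      by_cases hyd : y = d
      · exact Or.inl hyd
      by_cases hc : Commute d y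
      · exact Or.inr (Or.inl ⟨⟨hy.1, hyd, hc⟩, hy⟩)
      · exact Or.inr (Or.inr ⟨hy, hc⟩)
    · rintro (rfl | h | h)
      · exact ⟨hd, Ne.symm he.2.1, he.2.2.symm⟩
      · exact h.2
      · exact h.1
  have hdisj : Disjoint (Nb D d ∩ Nb D e) {y | y ∈ Nb D e ∧ ¬ Commute d y} :=
    Set.disjoint_left.2 fun y h h' => h'.2 h.1.2.2
  have hnm : d ∉ (Nb D d ∩ Nb D e) ∪ {y | y ∈ Nb D e ∧ ¬ Commute d y} := by
    rintro (h | h)
    · exact h.1.2.1 rfl
    · exact h.2 (Commute.refl d)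
  have := congrArg Set.ncard h1
  rw [ctx.card_nb he.1, Set.ncard_insert_of_notMem hnm (Set.toFinite _),
    Set.ncard_union_eq hdisj (Set.toFinite _) (Set.toFinite _), ctx.card_nb_nb hd he] at this
  omega

theorem card_noncomm {d : G} (hd : d ∈ D) : {c | c ∈ D ∧ ¬ Commute d c}.ncard = 2816 := by
  classical
  have := Fintype.ofFinite G
  set A : Finset G := Finset.univ.filter (fun c => c ∈ D ∧ ¬ Commute d c)
  set X : Finset G := Finset.univ.filter (fun e => e ∈ Nb D d)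
  have hA : {c | c ∈ D ∧ ¬ Commute d c}.ncard = A.card := by
    rw [← Set.ncard_coe_finset]; congr 1; ext c; simp [A]
  have hX : X.card = 693 := by
    rw [← ctx.card_nb hd, ← Set.ncard_coe_finset]; congr 1; ext c; simp [X]
  have h := Finset.sum_card_bipartiteAbove_eq_sum_card_bipartiteBelow (s := A) (t := X)
    (fun c e => e ∈ Nb D c)
  rw [Finset.sum_congr rfl (fun c hc => show (X.bipartiteAbove (fun c e => e ∈ Nb D c) c).card = 126 by
      simp only [A, Finset.mem_filter, Finset.mem_univ, true_and] at hc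
      rw [← ctx.card_common hd hc.1 hc.2, ← Set.ncard_coe_finset]
      congr 1; ext e; simp [X, Finset.bipartiteAbove]),
    Finset.sum_congr rfl (fun e he => show (A.bipartiteBelow (fun c e => e ∈ Nb D c) e).card = 512 by
      simp only [X, Finset.mem_filter, Finset.mem_univ, true_and] at he
      rw [← ctx.card_adj_nb hd he, ← Set.ncard_coe_finset]
      congr 1; ext c
      simp only [Finset.bipartiteBelow, A, Finset.coe_filter, Finset.mem_filter, Finset.mem_univ, true_and]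
      constructor
      · rintro ⟨⟨hc, hn⟩, hec⟩
        exact ⟨⟨hc, fun e' => hn (e'.symm ▸ he.2.2), hec.2.2.symm⟩, hn⟩
      · rintro ⟨hce, hn⟩
        exact ⟨⟨hce.1, hn⟩, he.1, Ne.symm hce.2.1, hce.2.2.symm⟩),
    Finset.sum_const, Finset.sum_const, hX, smul_eq_mul, smul_eq_mul] at h
  omega

theorem card_D : D.ncard = 3510 := by
  obtain ⟨d, hd, -⟩ := ctx.hprim.2.1
  have h1 : D = insert d (Nb D d ∪ {c | c ∈ D ∧ ¬ Commute d c}) := by
    ext y
    constructor
    · intro hy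
      by_cases hyd : y = d
      · exact Or.inl hyd
      by_cases hc : Commute d y
      · exact Or.inr (Or.inl ⟨hy, hyd, hc⟩)
      · exact Or.inr (Or.inr ⟨hy, hc⟩)
    · rintro (rfl | h | h)
      · exact hd
      · exact h.1
      · exact h.1
  have hdisj : Disjoint (Nb D d) {c | c ∈ D ∧ ¬ Commute d c} :=
    Set.disjoint_left.2 fun y h h' => h'.2 h.2.2
  have hnm : d ∉ Nb D d ∪ {c | c ∈ D ∧ ¬ Commute d c} := by
    rintro (h | h)
    · exact h.2.1 rfl
    · exact h.2 (Commute.refl d)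
  have := congrArg Set.ncard h1
  rw [Set.ncard_insert_of_notMem hnm (Set.toFinite _),
    Set.ncard_union_eq hdisj (Set.toFinite _) (Set.toFinite _), ctx.card_nb hd, ctx.card_noncomm hd] at this
  exact this

end Ctx

end CfsgLib.Sporadic.MTwentyTwo
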