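import Cfsg.Agent.Lib.Sporadic.MTwentyTwo.Fixed
import Mathlib.GroupTheory.Perm.Cycle.Type

/-!
# No outer involution centralizes a member
-/

set_option autoImplicit false
set_option linter.unusedSectionVars false

namespace CfsgLib.Sporadic.MTwentyTwo

open Matrix CfsgLib.Sporadic.FischerTransitivity CfsgLib.Sporadic.FischerRankThree
open CfsgLib.Sporadic.U62Lift (hf mat hf_mat mat_mul mat_one)

attribute [local irreducible] pts tp orth veq comb tmv dmul sp

variable {G : Type*} [Group G] {D : Set G}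

/-- Two fixed members have a fixed common commuting member. -/
def Rel (D : Set G) (σ a b : G) : Prop := ∃ w ∈ Fx D σ, Commute a w ∧ Commute w b

theorem Rel.conj (hD : Cfsg.IsThreeTranspositionGroup D) {σ k a b : G} (hk : Commute σ k)
    (h : Rel D σ a b) : Rel D σ (k * a * k⁻¹) (k * b * k⁻¹) := by
  obtain ⟨w, hw, h1, h2⟩ := h
  exact ⟨_, Fx_conj hD hk hw, (Commute.conj_iff k).2 h1, (Commute.conj_iff k).2 h2⟩

theorem Rel.symm {σ a b : G} (h : Rel D σ a b) : Rel D σ b a := by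
  obtain ⟨w, hw, h1, h2⟩ := h
  exact ⟨w, hw, h2.symm, h1.symm⟩

/-- Conjugation on the members. -/
def conjPerm (hD : Cfsg.IsThreeTranspositionGroup D) : G →* Equiv.Perm D where
  toFun g :=
    { toFun := fun x => ⟨g * x * g⁻¹, hD.2.1 g x x.2⟩
      invFun := fun x => ⟨g⁻¹ * x * g, by simpa using hD.2.1 g⁻¹ x x.2⟩
      left_inv := fun x => Subtype.ext (by simp [mul_assoc])
      right_inv := fun x => Subtype.ext (by simp [mul_assoc]) }
  map_one' := Equiv.ext fun x => Subtype.ext (by simp)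
  map_mul' g h := Equiv.ext fun x => Subtype.ext (by simp [mul_assoc])

theorem sign_conjPerm [Finite G] (hD : Cfsg.IsThreeTranspositionGroup D) [Fintype D] [DecidableEq D] {g : G}
    (hg : g * g = 1) :
    Equiv.Perm.sign (conjPerm hD g) = (-1) ^ ((D.ncard - {y | y ∈ D ∧ Commute g y}.ncard) / 2) := by
  rw [Equiv.Perm.sign_of_pow_two_eq_one (by rw [pow_two, ← map_mul, hg, map_one])]
  congr 3
  · rw [← Nat.card_eq_fintype_card, Nat.card_coe_set_eq]
  · rw [← Nat.card_eq_fintype_card]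
    calc Nat.card (Function.fixedPoints (conjPerm hD g))
        = Nat.card ({y | y ∈ D ∧ Commute g y} : Set G) := Nat.card_congr
          { toFun := fun x => ⟨x.1.1, x.1.2, commute_of_conj (congrArg Subtype.val x.2)⟩
            invFun := fun y => ⟨⟨y.1, y.2.1⟩, Subtype.ext (conj_fix y.2.2)⟩
            left_inv := fun _ => rfl
            right_inv := fun _ => rfl }
      _ = _ := Nat.card_coe_set_eq _

variable [Finite G] (ctx : Ctx D)
include ctx

namespace Ctx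

variable {d c₀ σ : G} {π : HG D d →* P} (S : Sig D d π c₀ σ)
include S

theorem rule {xj : G} (hxj : xj ∈ Fx D σ ∩ (Nb D d ∩ Nb D c₀)) (exj : pf π xj = tp pj) {c : G}
    (hc : c ∈ Fx D σ) (hcx : c ∈ Nb D xj) (hcd : ¬ Commute d c) :
    ∃ k, Commute σ k ∧ Commute k d ∧ (k * c₀ * k⁻¹ = c ∨ k * c₀ * k⁻¹ = d * c * d⁻¹) := by
  have hd := S.hd
  have key : ∀ c' ∈ D, Commute σ c' → ¬ Commute d c' → Commute c' c₀ →
      ∃ k, Commute σ k ∧ Commute k d ∧ k * c₀ * k⁻¹ = c' := by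
    intro c' hc' hσ hdc hcc
    have hcd' : ¬ Commute c' d := fun h => hdc h.symm
    have hbd : ¬ Commute c₀ d := fun h => S.hdc h.symm
    set e := cj c₀ (cj d c') with he
    have heD : e ∈ D := cj_mem ctx.hD S.hc (cj_mem ctx.hD hd hc')
    have hed : Commute e d := by
      have h1 : Commute (cj d c') (cj c₀ d) := by
        rw [cj_comm ctx.hD S.hc hd hbd]
        exact (commute_cj ctx.hD hd _ _).2 hcc
      have h2 := (commute_cj ctx.hD S.hc _ _).2 h1
      rwa [cj_cj ctx.hD S.hc] at h2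
    have hσe : Commute σ e := by
      simp only [he, cj]
      exact (S.comm₀.mul_right ((S.comm.mul_right hσ).mul_right S.comm)).mul_right S.comm₀
    refine ⟨e * d, hσe.mul_right S.comm, hed.mul_left (Commute.refl d), ?_⟩
    calc e * d * c₀ * (e * d)⁻¹ = e * (d * c₀ * d⁻¹) * e⁻¹ := by group
      _ = cj e (cj d c₀) := by rw [cj_conj ctx.hD heD, cj_conj ctx.hD hd]
      _ = cj c₀ (cj (cj d c') (cj c₀ (cj d c₀))) := by
          simp only [he, cj, mul_assoc]
      _ = cj c₀ (cj (cj d c') d) := by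
          rw [cj_comm ctx.hD hd S.hc S.hdc, cj_cj ctx.hD S.hc]
      _ = cj c₀ c' := by rw [cj_swap ctx.hD hd hc' hdc]
      _ = c' := cj_fix ctx.hD S.hc hcc.symm
  rcases (ctx.at_xj S hxj exj).2 c hc hcx hcd with h | h
  · obtain ⟨k, h1, h2, h3⟩ := key c hc.1 hc.2 hcd h
    exact ⟨k, h1, h2, Or.inl h3⟩
  · obtain ⟨k, h1, h2, h3⟩ := key _ (ctx.hD.2.1 d c hc.1) ((S.comm.mul_right hc.2).mul_right S.comm.inv_right)
      (fun h' => hcd ((Commute.conj_iff d).1 (by rwa [mul_inv_cancel_right]))) h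
    exact ⟨k, h1, h2, Or.inr h3⟩

theorem second_conj {c : G} (hc : c ∈ Fx D σ) (hcd : ¬ Commute d c)
    (hx : ∃ x ∈ Fx D σ ∩ Nb D d, Commute x c) :
    ∃ k, Commute σ k ∧ Commute k d ∧
      Fx D σ ∩ (Nb D d ∩ Nb D c) = (fun z => k * z * k⁻¹) '' (Fx D σ ∩ (Nb D d ∩ Nb D c₀)) := by
  obtain ⟨xj, hxj, exj⟩ := ctx.exists_xj S
  obtain ⟨x, hx, hxc⟩ := hx
  obtain ⟨r, hr1, hr2, hr3⟩ := ctx.trans_R S hxj exj hx
  have hrd : r⁻¹ * d * r = d := by simpa using conj_fix hr2.inv_left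
  obtain ⟨k, hk1, hk2, hk3⟩ := ctx.rule S hxj exj (c := r⁻¹ * c * r)
    (by simpa using Fx_conj ctx.hD hr1.inv_right hc) (by
      refine ⟨by simpa using ctx.hD.2.1 r⁻¹ c hc.1, ?_, ?_⟩
      · intro h
        apply hcd
        have : c = x := by rw [← hr3, ← h]; group
        rw [this]; exact hx.2.2.2
      · rw [← Commute.conj_iff r, hr3, show r * (r⁻¹ * c * r) * r⁻¹ = c by group]
        exact hxc)
    (fun h => hcd (by
      rw [← Commute.conj_iff r, conj_fix hr2, show r * (r⁻¹ * c * r) * r⁻¹ = c by group] at h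
      exact h))
  have hkd : Commute (r * k) d := hr2.mul_left hk2
  refine ⟨r * k, hr1.mul_right hk1, hkd, ?_⟩
  have hnc : ¬ Commute d (r * k * c₀ * (r * k)⁻¹) := fun h =>
    S.hdc ((Commute.conj_iff (r * k)).1 (by rwa [conj_fix hkd]))
  have hN : Nb D d ∩ Nb D (r * k * c₀ * (r * k)⁻¹) = Nb D d ∩ Nb D c := by
    refine (ctx.common_eq_iff S.hd hc.1 hcd (ctx.hD.2.1 _ c₀ S.hc) hnc).2 ?_
    rcases hk3 with h | h
    · left
      rw [show r * k * c₀ * (r * k)⁻¹ = r * (k * c₀ * k⁻¹) * r⁻¹ by group, h]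
      group
    · right
      rw [show r * k * c₀ * (r * k)⁻¹ = r * (k * c₀ * k⁻¹) * r⁻¹ by group, h]
      calc r * (d * (r⁻¹ * c * r) * d⁻¹) * r⁻¹ = (r * d * r⁻¹) * c * (r * d * r⁻¹)⁻¹ := by group
        _ = d * c * d⁻¹ := by rw [conj_fix hr2]
  have hinj : Function.Injective fun z => r * k * z * (r * k)⁻¹ :=
    fun a b h => mul_left_cancel (mul_right_cancel h)
  rw [Set.image_inter hinj, Set.image_inter hinj, nb_image ctx.hD, nb_image ctx.hD, conj_fix hkd, hN]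
  congr 1
  ext z
  constructor
  · intro hz
    refine ⟨(r * k)⁻¹ * z * (r * k), ?_, ?_⟩
    · simpa using Fx_conj ctx.hD (hr1.mul_right hk1).inv_right hz
    · group
  · rintro ⟨y, hy, rfl⟩
    exact Fx_conj ctx.hD (hr1.mul_right hk1) hy

theorem card_second_common {c : G} (hc : c ∈ Fx D σ) (hcd : ¬ Commute d c)
    (hx : ∃ x ∈ Fx D σ ∩ Nb D d, Commute x c) : (Fx D σ ∩ (Nb D d ∩ Nb D c)).ncard = 36 := by
  obtain ⟨k, -, -, hk⟩ := ctx.second_conj S hc hcd hx
  rw [hk, Set.ncard_image_of_injective _ fun a b h => mul_left_cancel (mul_right_cancel h), ctx.card_fix_common S]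

theorem touch {c : G} (hc : c ∈ Fx D σ) (hcd : ¬ Commute d c)
    (hx : ∃ x ∈ Fx D σ ∩ Nb D d, Commute x c) {x : G} (hxF : x ∈ Fx D σ ∩ Nb D d) :
    ∃ z ∈ Fx D σ ∩ (Nb D d ∩ Nb D c), Commute x z := by
  obtain ⟨k, hk1, hk2, hk⟩ := ctx.second_conj S hc hcd hx
  have hy : k⁻¹ * x * k ∈ Nb D d := by simpa using nb_fix ctx.hD hk2.inv_left hxF.2
  have hyF : k⁻¹ * x * k ∈ Fx D σ := by simpa using Fx_conj ctx.hD hk1.inv_right hxF.1
  obtain ⟨v, hv, e⟩ := ctx.exists_point S.hd S.hπ hy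
  have h := all_pts fix_S_touch hv
  simp only [(ctx.fix_iff S hy hv e).1 hyF, Bool.not_true, Bool.false_or, List.any_eq_true,
    Bool.and_eq_true] at h
  obtain ⟨q, hq, hqf, hqS, hvq⟩ := h
  obtain ⟨z, hz, ez⟩ := ctx.exists_member S.hd S.hπ hq
  have hzm : z ∈ Fx D σ ∩ (Nb D d ∩ Nb D c₀) :=
    ⟨(ctx.fix_iff S hz hq ez).2 hqf, hz, (ctx.inS_iff S hz hq ez).2 hqS⟩
  have hyz : Commute (k⁻¹ * x * k) z := by
    rw [← ctx.commute_iff S.hd S.hπ hy hz, e, ez, tp_commute_iff hv hq]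
    exact hvq
  refine ⟨k * z * k⁻¹, hk ▸ ⟨z, hzm, rfl⟩, ?_⟩
  have h' := (Commute.conj_iff k).2 hyz
  rwa [show k * (k⁻¹ * x * k) * k⁻¹ = x by group] at h'

theorem card_adj {x : G} (hx : x ∈ Fx D σ ∩ Nb D d) :
    {c | c ∈ Fx D σ ∧ c ∈ Nb D x ∧ ¬ Commute d c}.ncard = 32 := by
  obtain ⟨xj, hxj, exj⟩ := ctx.exists_xj S
  obtain ⟨r, hr1, hr2, hr3⟩ := ctx.trans_R S hxj exj hx
  rw [← (ctx.at_xj S hxj exj).1, ← Set.ncard_image_of_injective
    {c | c ∈ Fx D σ ∧ c ∈ Nb D xj ∧ ¬ Commute d c}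
    (f := fun z => r * z * r⁻¹) fun a b h => mul_left_cancel (mul_right_cancel h)]
  congr 1
  ext c
  constructor
  · rintro ⟨h1, h2, h3⟩
    refine ⟨r⁻¹ * c * r, ⟨by simpa using Fx_conj ctx.hD hr1.inv_right h1, ?_, ?_⟩, by group⟩
    · have := nb_conj ctx.hD r⁻¹ h2
      rw [inv_inv] at this
      rwa [show r⁻¹ * x * r = xj by rw [← hr3]; group] at this
    · intro h
      apply h3
      rw [← Commute.conj_iff r, conj_fix hr2, show r * (r⁻¹ * c * r) * r⁻¹ = c by group] at h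
      exact h
  · rintro ⟨z, ⟨h1, h2, h3⟩, rfl⟩
    refine ⟨Fx_conj ctx.hD hr1 h1, hr3 ▸ nb_conj ctx.hD r h2, fun h => h3 ?_⟩
    exact (Commute.conj_iff r).1 (by rwa [conj_fix hr2])

/-- The second layer. -/
theorem card_second : {c | c ∈ Fx D σ ∧ ¬ Commute d c ∧ ∃ x ∈ Fx D σ ∩ Nb D d, Commute x c}.ncard = 56 := by
  classical
  have := Fintype.ofFinite G
  set A : Finset G := Finset.univ.filter
    (fun c => c ∈ Fx D σ ∧ ¬ Commute d c ∧ ∃ x ∈ Fx D σ ∩ Nb D d, Commute x c) with hAdef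
  set X : Finset G := Finset.univ.filter (fun e => e ∈ Fx D σ ∩ Nb D d) with hXdef
  have hA : {c | c ∈ Fx D σ ∧ ¬ Commute d c ∧ ∃ x ∈ Fx D σ ∩ Nb D d, Commute x c}.ncard = A.card := by
    rw [← Set.ncard_coe_finset]; congr 1; ext c; simp [A]
  have hX : X.card = 63 := by
    rw [← ctx.card_fix_nb S, ← Set.ncard_coe_finset]; congr 1; ext c; simp [X]
  have h := Finset.sum_card_bipartiteAbove_eq_sum_card_bipartiteBelow (s := A) (t := X)
    (fun c e => e ∈ Nb D c)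
  rw [Finset.sum_congr rfl (fun c hc => show (X.bipartiteAbove (fun c e => e ∈ Nb D c) c).card = 36 by
      simp only [A, Finset.mem_filter, Finset.mem_univ, true_and] at hc
      rw [← ctx.card_second_common S hc.1 hc.2.1 hc.2.2, ← Set.ncard_coe_finset]
      congr 1; ext e
      simp only [X, Finset.bipartiteAbove, Finset.coe_filter, Finset.mem_filter, Finset.mem_univ, true_and,
        Set.mem_ofPred_eq, Set.mem_inter_iff]
      tauto),
    Finset.sum_congr rfl (fun e he => show (A.bipartiteBelow (fun c e => e ∈ Nb D c) e).card = 32 by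
      simp only [X, Finset.mem_filter, Finset.mem_univ, true_and] at he
      rw [← ctx.card_adj S he, ← Set.ncard_coe_finset]
      congr 1; ext c
      simp only [Finset.bipartiteBelow, A, Finset.coe_filter, Finset.mem_filter, Finset.mem_univ, true_and,
        Set.mem_ofPred_eq]
      constructor
      · rintro ⟨⟨hc, hn, -⟩, hec⟩
        exact ⟨hc, ⟨hc.1, Ne.symm hec.2.1, hec.2.2.symm⟩, hn⟩
      · rintro ⟨hc, hce, hn⟩
        exact ⟨⟨hc, hn, e, he, hce.2.2⟩, he.1.1, Ne.symm hce.2.1, hce.2.2.symm⟩),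
    Finset.sum_const, Finset.sum_const, hX, smul_eq_mul, smul_eq_mul] at h
  omega

theorem card_class : {y | y ∈ Fx D σ ∧ Rel D σ d y}.ncard = 120 := by
  have h1 : {y | y ∈ Fx D σ ∧ Rel D σ d y} = insert d ((Fx D σ ∩ Nb D d) ∪
      {c | c ∈ Fx D σ ∧ ¬ Commute d c ∧ ∃ x ∈ Fx D σ ∩ Nb D d, Commute x c}) := by
    ext y
    constructor
    · rintro ⟨hy, w, hw, h1, h2⟩
      by_cases hyd : y = d
      · exact Or.inl hyd
      by_cases hc : Commute d y
      · exact Or.inr (Or.inl ⟨hy, hy.1, hyd, hc⟩)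
      · refine Or.inr (Or.inr ⟨hy, hc, w, ⟨hw, hw.1, ?_, h1⟩, h2⟩)
        rintro rfl
        exact hc h2
    · rintro (rfl | ⟨hy, hyd⟩ | ⟨hy, -, x, hx, hxy⟩)
      · exact ⟨ctx.d_mem S, _, ctx.d_mem S, Commute.refl _, Commute.refl _⟩
      · exact ⟨hy, y, hy, hyd.2.2, Commute.refl _⟩
      · exact ⟨hy, x, hx.1, hx.2.2.2, hxy⟩
  have hnm : d ∉ (Fx D σ ∩ Nb D d) ∪
      {c | c ∈ Fx D σ ∧ ¬ Commute d c ∧ ∃ x ∈ Fx D σ ∩ Nb D d, Commute x c} := by
    rintro (h | h)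
    · exact h.2.2.1 rfl
    · exact h.2.1 (Commute.refl d)
  have hdisj : Disjoint (Fx D σ ∩ Nb D d)
      {c | c ∈ Fx D σ ∧ ¬ Commute d c ∧ ∃ x ∈ Fx D σ ∩ Nb D d, Commute x c} :=
    Set.disjoint_left.2 fun y h h' => h'.2.1 h.2.2.2
  rw [h1, Set.ncard_insert_of_notMem hnm (Set.toFinite _),
    Set.ncard_union_eq hdisj (Set.toFinite _) (Set.toFinite _), ctx.card_fix_nb S, ctx.card_second S]

theorem closed {y z : G} (hy : y ∈ Fx D σ) (hr : Rel D σ d y) (hz : z ∈ Fx D σ) (hyz : Commute y z) :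
    Rel D σ d z := by
  by_cases hdy : Commute d y
  · exact ⟨y, hy, hdy, hyz⟩
  by_cases hdz : Commute d z
  · exact ⟨z, hz, hdz, Commute.refl _⟩
  rcases eq_or_ne z y with rfl | hne
  · exact hr
  obtain ⟨w, hw, hw1, hw2⟩ := hr
  have hwy : ∃ x ∈ Fx D σ ∩ Nb D d, Commute x y :=
    ⟨w, ⟨hw, hw.1, fun h => hdy (h ▸ hw2), hw1⟩, hw2⟩
  set t := cj d y with ht
  have htD : t ∈ D := cj_mem ctx.hD S.hd hy.1
  have htσ : Commute σ t := by
    simp only [ht, cj]; exact (S.comm.mul_right hy.2).mul_right S.comm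
  have h1 : cj t d = y := cj_swap ctx.hD S.hd hy.1 hdy
  have h2 : cj t y = d := by
    rw [ht, cj_comm ctx.hD S.hd hy.1 hdy]
    exact cj_swap ctx.hD hy.1 S.hd fun h => hdy h.symm
  have hcj : ∀ u ∈ Fx D σ, cj t u ∈ Fx D σ := fun u hu =>
    ⟨cj_mem ctx.hD htD hu.1, by simp only [cj]; exact (htσ.mul_right hu.2).mul_right htσ⟩
  have hxd : Commute d (cj t z) := by
    rw [← h2]; exact (commute_cj ctx.hD htD y z).2 hyz
  have hxne : cj t z ≠ d := fun h => hne (by rw [← cj_cj ctx.hD htD z, h, h1])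
  obtain ⟨q, hq, hxq⟩ := ctx.touch S hy hdy hwy (x := cj t z) ⟨hcj z hz, cj_mem ctx.hD htD hz.1, hxne, hxd⟩
  refine ⟨cj t q, hcj q hq.1, ?_, ?_⟩
  · rw [← h2]; exact (commute_cj ctx.hD htD y q).2 hq.2.2.2.2
  · rw [← cj_cj ctx.hD htD z]; exact (commute_cj ctx.hD htD _ _).2 hxq.symm

theorem trans_d {f : G} (hf' : f ∈ Fx D σ) : ∃ k, Commute σ k ∧ k * d * k⁻¹ = f := by
  obtain ⟨xj, hxj, exj⟩ := ctx.exists_xj S
  by_cases hdf : Commute d f
  swap
  · exact ⟨d * f, S.comm.mul_right hf'.2, pair_step ctx.hD S.hd hf'.1 hdf⟩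
  rcases eq_or_ne f d with rfl | hne
  · exact ⟨1, Commute.one_right _, by group⟩
  obtain ⟨r, hr1, hr2, hr3⟩ := ctx.trans_R S hxj exj (x := f) ⟨hf', hf'.1, hne, hdf⟩
  obtain ⟨c, hc, hcd, hcx⟩ : ∃ c ∈ Fx D σ, ¬ Commute d c ∧ ¬ Commute c xj := by
    by_contra hno
    push Not at hno
    have := Set.ncard_le_ncard (show {c | c ∈ Fx D σ ∧ ¬ Commute d c ∧ ∃ x ∈ Fx D σ ∩ Nb D d, Commute x c} ⊆
        {c | c ∈ Fx D σ ∧ c ∈ Nb D xj ∧ ¬ Commute d c} from fun c ⟨h1, h2, _⟩ =>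
      ⟨h1, ⟨h1.1, fun h => h2 (h ▸ hxj.2.1.2.2), (hno c h1 h2).symm⟩, h2⟩) (Set.toFinite _)
    rw [ctx.card_second S, (ctx.at_xj S hxj exj).1] at this
    omega
  refine ⟨r * (c * xj * (d * c)), hr1.mul_right ((hc.2.mul_right hxj.1.2).mul_right (S.comm.mul_right hc.2)), ?_⟩
  calc r * (c * xj * (d * c)) * d * (r * (c * xj * (d * c)))⁻¹
      = r * (c * xj * (d * c * d * (d * c)⁻¹) * (c * xj)⁻¹) * r⁻¹ := by group
    _ = f := by rw [pair_step ctx.hD S.hd hc.1 hcd, pair_step ctx.hD hc.1 hxj.1.1 hcx, hr3]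

theorem rel_trans {a b c : G} (ha : a ∈ Fx D σ) (hb : b ∈ Fx D σ) (hc : c ∈ Fx D σ)
    (hab : Rel D σ a b) (hbc : Rel D σ b c) : Rel D σ a c := by
  obtain ⟨k, hk, rfl⟩ := ctx.trans_d S ha
  have hk' := hk.inv_right
  have e : ∀ u, k⁻¹ * u * k⁻¹⁻¹ = k⁻¹ * u * k := fun u => by rw [inv_inv]
  have hab' := Rel.conj ctx.hD hk' hab
  rw [e, e, show k⁻¹ * (k * d * k⁻¹) * k = d by group] at hab'
  have hbc' := Rel.conj ctx.hD hk' hbc
  rw [e, e] at hbc'
  have hbF : k⁻¹ * b * k ∈ Fx D σ := by simpa using Fx_conj ctx.hD hk' hb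
  have hcF : k⁻¹ * c * k ∈ Fx D σ := by simpa using Fx_conj ctx.hD hk' hc
  obtain ⟨w, hw, hw1, hw2⟩ := hbc'
  have := Rel.conj ctx.hD hk (ctx.closed S hw (ctx.closed S hbF hab' hw hw1) hcF hw2)
  rwa [show k * (k⁻¹ * c * k) * k⁻¹ = c by group] at this

theorem dvd_card_fixed : 120 ∣ (Fx D σ).ncard := by
  classical
  have := Fintype.ofFinite G
  set F : Finset G := Finset.univ.filter (fun e => e ∈ Fx D σ)
  have hF : (Fx D σ).ncard = F.card := by
    rw [← Set.ncard_coe_finset]; congr 1; ext c; simp [F]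
  let f : G → Set G := fun a => {y | y ∈ Fx D σ ∧ Rel D σ a y}
  refine ⟨(F.image f).card, ?_⟩
  rw [hF, Finset.card_eq_sum_card_image f F, Finset.sum_const_nat (m := 120), mul_comm]
  intro T hT
  obtain ⟨a, ha, rfl⟩ := Finset.mem_image.1 hT
  simp only [F, Finset.mem_filter, Finset.mem_univ, true_and] at ha
  have hset : (↑(F.filter fun b => f b = f a) : Set G) = f a := by
    ext b
    simp only [F, Finset.coe_filter, Finset.mem_filter, Finset.mem_univ, true_and, Set.mem_ofPred_eq, f]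
    constructor
    · rintro ⟨hb, e⟩
      exact ⟨hb, ((Set.ext_iff.1 e b).1 ⟨hb, b, hb, Commute.refl _, Commute.refl _⟩).2⟩
    · rintro ⟨hb, hab⟩
      refine ⟨hb, Set.ext fun y => ⟨fun ⟨hy, hby⟩ => ⟨hy, ctx.rel_trans S ha hb hy hab hby⟩,
        fun ⟨hy, hay⟩ => ⟨hy, ctx.rel_trans S hb ha hy hab.symm hay⟩⟩⟩
  rw [← Set.ncard_coe_finset, hset]
  obtain ⟨k, hk, rfl⟩ := ctx.trans_d S ha
  rw [← ctx.card_class S, ← Set.ncard_image_of_injective {y | y ∈ Fx D σ ∧ Rel D σ d y}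
    (f := fun z => k * z * k⁻¹) fun a b h => mul_left_cancel (mul_right_cancel h)]
  congr 1
  ext y
  constructor
  · rintro ⟨hy, hr⟩
    refine ⟨k⁻¹ * y * k, ⟨by simpa using Fx_conj ctx.hD hk.inv_right hy, ?_⟩, by group⟩
    have := Rel.conj ctx.hD hk.inv_right hr
    rwa [inv_inv, show k⁻¹ * (k * d * k⁻¹) * k = d by group] at this
  · rintro ⟨z, ⟨hz, hr⟩, rfl⟩
    exact ⟨Fx_conj ctx.hD hk hz, Rel.conj ctx.hD hk hr⟩

theorem sig_false : False := by
  classical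
  have := Fintype.ofFinite G
  let φ : G →* ℤˣ := Equiv.Perm.sign.comp (conjPerm ctx.hD)
  have hgen : ∀ e ∈ D, φ e = 1 := by
    intro e he
    have h694 : {y | y ∈ D ∧ Commute e y}.ncard = 694 := by
      have : {y | y ∈ D ∧ Commute e y} = insert e (Nb D e) := by
        ext y
        constructor
        · rintro ⟨hy, hc⟩
          rcases eq_or_ne y e with h | h
          · exact Or.inl h
          · exact Or.inr ⟨hy, h, hc⟩
        · rintro (rfl | h)
          · exact ⟨he, Commute.refl _⟩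
          · exact ⟨h.1, h.2.2⟩
      rw [this, Set.ncard_insert_of_notMem (fun h => h.2.1 rfl) (Set.toFinite _), ctx.card_nb he]
    show Equiv.Perm.sign (conjPerm ctx.hD e) = 1
    rw [sign_conjPerm ctx.hD (FischerTransitivity.sq ctx.hD he), h694, ctx.card_D]
    exact Even.neg_one_pow ⟨704, rfl⟩
  have hall : ∀ g, φ g = 1 := by
    intro g
    have hg : g ∈ Subgroup.closure D := by rw [ctx.hD.2.2]; exact Subgroup.mem_top g
    induction hg using Subgroup.closure_induction with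
    | mem y hy => exact hgen y hy
    | one => exact map_one φ
    | mul a b _ _ ha hb => rw [map_mul, ha, hb, one_mul]
    | inv a _ ha => rw [map_inv, ha, inv_one]
  have h : Equiv.Perm.sign (conjPerm ctx.hD σ) = 1 := hall σ
  rw [sign_conjPerm ctx.hD S.invol, ctx.card_D] at h
  obtain ⟨n, hn⟩ := ctx.dvd_card_fixed S
  have hle : (Fx D σ).ncard ≤ 3510 := by
    rw [← ctx.card_D]; exact Set.ncard_le_ncard (fun e he => he.1) (Set.toFinite _)
  rw [show {y | y ∈ D ∧ Commute σ y} = Fx D σ from rfl] at h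
  rw [Odd.neg_one_pow (Nat.odd_iff.2 (by omega))] at h
  exact absurd h (by decide)

omit S

/-- The centralizer of a member is generated by its neighbours. -/
theorem centralizer_eq {d : G} (hd : d ∈ D) : Subgroup.centralizer ({d} : Set G) = HG D d := by
  refine le_antisymm (fun g hg => ?_) fun g hg =>
    Subgroup.mem_centralizer_singleton_iff.2 (HG_commute hg).symm.eq
  by_contra hn
  obtain ⟨π, c, σ, S⟩ := ctx.exists_sig hd (Subgroup.mem_centralizer_singleton_iff.1 hg) hn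
  exact ctx.sig_false S

end Ctx

end CfsgLib.Sporadic.MTwentyTwo
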