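import Cfsg.Agent.Lib.ThreeTransp.ReflThree
import Cfsg.Agent.Lib.Derangements.OrthNondegCount

/-!
# The 3-part of the six-dimensional reflection groups over the field with three elements
-/

set_option autoImplicit false

namespace CfsgLib.Sporadic.MTwentyTwo

open QuadraticMap CfsgLib.Orth CfsgLib.ThreeTransp.ReflThree

variable {Q : QuadraticForm (ZMod 3) (Fin 6 → ZMod 3)} {c : ZMod 3}

theorem qadd (a b : Fin 6 → ZMod 3) : Q (a + b) = Q a + Q b + polar Q a b := by
  simp only [polar]; ring

theorem eq_zero_of_perp_norm (hQ : (polarBilin Q).Nondegenerate) {x : Fin 6 → ZMod 3}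
    (h : ∀ v, Q v = c → polar Q x v = 0) : x = 0 := by
  by_contra hx
  by_cases hqx : Q x = 0
  · obtain ⟨y, hy⟩ : ∃ y, polar Q x y ≠ 0 := by
      by_contra hno
      push Not at hno
      exact hx (hQ.1 x hno)
    set y' := (polar Q x y)⁻¹ • y
    have hy' : polar Q x y' = 1 := by
      rw [QuadraticMap.polar_smul_right, smul_eq_mul, inv_mul_cancel₀ hy]
    set b := y' + (c - Q y') • x
    have hb : Q b = c := by
      rw [qadd, QuadraticMap.map_smul Q (c - Q y'), hqx, QuadraticMap.polar_smul_right, polar_comm Q y', hy']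
      simp
    have := h b hb
    rw [QuadraticMap.polar_add_right, hy', QuadraticMap.polar_smul_right, QuadraticMap.polar_self, hqx] at this
    simp at this
  · obtain ⟨w, hw, -, hw'⟩ := exists_perp_value hQ (by norm_num) hqx x (c - Q x)
    have hv : Q (x + w) = c := by rw [qadd, hw, hw']; ring
    have := h _ hv
    rw [QuadraticMap.polar_add_right, hw, add_zero, QuadraticMap.polar_self, two_smul] at this
    exact hqx (by
      have h2 : (2 : ZMod 3) * Q x = 0 := by linear_combination this
      exact (mul_eq_zero.1 h2).resolve_left (by decide))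

theorem sq_eq_one_of_central (hQ : (polarBilin Q).Nondegenerate) (hc : c ≠ 0) {z : orthGroup Q}
    (hz : ∀ v, Q v = c → z * refl Q v = refl Q v * z) : z * z = 1 := by
  have hfix : ∀ v, Q v = c → z.1 (z.1 v) = v := by
    intro v hv
    have e : z.1 ((refl Q v).1 v) = (refl Q v).1 (z.1 v) :=
      congrArg (fun g : orthGroup Q => g.1 v) (hz v hv)
    rw [refl_self Q (by rw [hv]; exact hc), map_neg, refl_apply, hv] at e
    set k := c⁻¹ * polar Q v (z.1 v)
    have e2 : (2 : ZMod 3) • z.1 v = k • v := by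
      rw [two_smul]
      calc z.1 v + z.1 v = z.1 v - -z.1 v := (sub_neg_eq_add _ _).symm
        _ = _ := by rw [e, sub_sub_cancel]
    have e3 : z.1 v = ((2 : ZMod 3) * k) • v := by
      rw [mul_smul, ← e2, smul_smul, show (2 : ZMod 3) * 2 = 1 by decide, one_smul]
    set m := (2 : ZMod 3) * k
    have hm : m * m = 1 := by
      have : Q (z.1 v) = c := (z.2 v).trans hv
      rw [e3, QuadraticMap.map_smul, hv, smul_eq_mul] at this
      exact mul_right_cancel₀ hc (by rw [this, one_mul])
    rw [e3, map_smul, e3, smul_smul, hm, one_smul]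
  refine Subtype.ext (LinearEquiv.ext fun w => ?_)
  have hp : ∀ (g : orthGroup Q) (a b : Fin 6 → ZMod 3), polar Q (g.1 a) (g.1 b) = polar Q a b := by
    intro g a b
    simp only [polar, ← map_add]
    rw [show Q (g.1 (a + b)) = Q (a + b) from g.2 _, show Q (g.1 a) = Q a from g.2 _,
      show Q (g.1 b) = Q b from g.2 _]
  refine sub_eq_zero.1 (eq_zero_of_perp_norm (c := c) hQ fun v hv => ?_)
  change polar Q (z.1 (z.1 w) - w) v = 0
  rw [QuadraticMap.polar_sub_left]
  conv_lhs => arg 1; arg 3; rw [← hfix v hv]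
  rw [hp, hp, sub_self]

/-- The order of a projective reflection group is divisible by `3 ^ 6`. -/
theorem proj_refl_dvd {X : Type*} [Group X] [Finite X] {μ : ZMod 3} (hc : c ≠ 0)
    (h : Cfsg.IsProjReflectionGroupModThree X 6 μ c) : 3 ^ 6 ∣ Nat.card X := by
  obtain ⟨Q, hQ, -, ⟨e⟩⟩ := h
  set R := Cfsg.reflectionSubgroup (⇑Q) c with hR
  let f : R ≃* R0 Q c := (MulEquiv.subgroupCongr (reflectionSubgroup_eq Q c)).trans
    { toFun := fun x => ⟨toOrth Q (fun _ => rfl) x.1, x.2⟩
      invFun := fun y => ⟨(toOrth Q (fun _ => rfl)).symm y.1, by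
        show toOrth Q (fun _ => rfl) ((toOrth Q (fun _ => rfl)).symm y.1) ∈ R0 Q c
        rw [MulEquiv.apply_symm_apply]; exact y.2⟩
      left_inv := fun x => Subtype.ext ((toOrth Q (fun _ => rfl)).symm_apply_apply _)
      right_inv := fun y => Subtype.ext ((toOrth Q (fun _ => rfl)).apply_symm_apply _)
      map_mul' := fun x y => Subtype.ext (map_mul _ _ _) }
  have hcardO : 3 ^ 6 ∣ Nat.card (orthGroup Q) := by
    obtain ⟨fa, ga, hf, -⟩ := CfsgLib.Derangements.OrthInv.card_even_form (F := ZMod 3) (k := 2) hQ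
      (by rw [Module.finrank_fin_fun])
    rw [hf, ZMod.card]
    exact dvd_mul_of_dvd_left (dvd_mul_of_dvd_left (Dvd.intro_left 2 (by norm_num)) _) _
  have hR0 : Nat.card (R0 Q c) * 2 = Nat.card (orthGroup Q) := by
    rw [← index_eq_two hQ (by norm_num) hc]
    exact (R0 Q c).card_mul_index
  have h3 : 3 ^ 6 ∣ Nat.card R := by
    rw [Nat.card_congr f.toEquiv]
    exact (Nat.Coprime.dvd_mul_right (by norm_num)).1 (hR0 ▸ hcardO)
  have h2 : IsPGroup 2 (Subgroup.center R) := by
    intro z
    refine ⟨1, Subtype.ext (f.injective ?_)⟩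
    have hz : ∀ v, Q v = c → (f z.1 : orthGroup Q) * refl Q v = refl Q v * (f z.1 : orthGroup Q) := by
      intro v hv
      obtain ⟨r, hr⟩ := f.surjective ⟨refl Q v, refl_mem hv⟩
      have := congrArg (fun t : R => (f t : orthGroup Q)) ((Subgroup.mem_center_iff.1 z.2 r).symm)
      simp only [map_mul, Subgroup.coe_mul, hr] at this
      exact this
    have := sq_eq_one_of_central hQ hc hz
    simp only [pow_one, pow_two, Subgroup.coe_mul, map_mul, Subgroup.coe_one, map_one]
    exact Subtype.ext this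
  obtain ⟨k, hk⟩ := h2.exists_card_eq
  have hX : Nat.card X * 2 ^ k = Nat.card R := by
    rw [Nat.card_congr e.toEquiv, ← hk]
    exact (Subgroup.card_eq_card_quotient_mul_card_subgroup _).symm
  exact (Nat.Coprime.dvd_mul_right (by apply Nat.Coprime.pow; norm_num)).1 (hX ▸ h3)

end CfsgLib.Sporadic.MTwentyTwo
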