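import Cfsg.Prelude.Def_FischerSpaces
import Cfsg.Agent.Lib.Sporadic.MTwentyTwo.Count
import Cfsg.Agent.Lib.Sporadic.MTwentyTwo.Refl
import Cfsg.Agent.Lib.Sporadic.FischerPrimitive
import Cfsg.Agent.Lib.Chevalley.G2Two.Transfer
import Cfsg.Agent.S5354

/-!
# The neighbourhood of a member in a group of type M(22)
-/

set_option autoImplicit false
set_option linter.unusedSectionVars false

namespace CfsgLib.Sporadic.MTwentyTwo

open CfsgLib.Sporadic.FischerTransitivity CfsgLib.Sporadic.FischerRankThree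
open scoped commutatorElement

attribute [local irreducible] pts tp orth veq comb tmv

variable {G : Type*} [Group G] {D : Set G}

/-- The subgroup generated by the members commuting with `d`. -/
abbrev HG (D : Set G) (d : G) : Subgroup G := Subgroup.closure (Nb D d)

/-- A group of type M(22). -/
structure Ctx (D : Set G) : Prop where
  hD : Cfsg.IsThreeTranspositionGroup D
  hprim : Cfsg.IsPrimitiveUnderConj D
  ht : Cfsg.IsOfTypeM22 G D

/-- A map onto the simple group with central kernel. -/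
structure IsPi (D : Set G) (d : G) (π : HG D d →* P) : Prop where
  surj : Function.Surjective π
  ker : π.ker = Subgroup.center (HG D d)

/-- The map on all elements. -/
noncomputable def pf {d : G} (π : HG D d →* P) (x : G) : P :=
  @dite _ (x ∈ HG D d) (_root_.Classical.propDecidable _) (fun h => π ⟨x, h⟩) (fun _ => 1)

theorem pf_eq {d : G} (π : HG D d →* P) {x : G} (h : x ∈ HG D d) : pf π x = π ⟨x, h⟩ := by
  unfold pf
  exact @dif_pos (x ∈ HG D d) (_root_.Classical.propDecidable _) h _ (fun h => π ⟨x, h⟩) (fun _ => 1)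

theorem pf_mul {d : G} (π : HG D d →* P) {x y : G} (hx : x ∈ HG D d) (hy : y ∈ HG D d) :
    pf π (x * y) = pf π x * pf π y := by
  rw [pf_eq π (mul_mem hx hy), pf_eq π hx, pf_eq π hy, ← map_mul]
  rfl

theorem pf_inv {d : G} (π : HG D d →* P) {x : G} (hx : x ∈ HG D d) : pf π x⁻¹ = (pf π x)⁻¹ := by
  rw [pf_eq π (inv_mem hx), pf_eq π hx, ← map_inv]
  rfl

theorem mem_HG {d x : G} (h : x ∈ Nb D d) : x ∈ HG D d := Subgroup.subset_closure h

theorem HG_commute {d g : G} (hg : g ∈ HG D d) : Commute d g := by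
  induction hg using Subgroup.closure_induction with
  | mem y hy => exact hy.2.2
  | one => exact Commute.one_right _
  | mul a b _ _ ha hb => exact ha.mul_right hb
  | inv a _ ha => exact ha.inv_right

theorem psu_field {F F₀ : Type*} [Field F] [Field F₀] (e : F ≃+* F₀) :
    Nonempty (Cfsg.PSU 6 F 2 ≃* Cfsg.PSU 6 F₀ 2) := by
  refine ⟨QuotientGroup.congr _ _ (Chevalley.G2Two.suCongr e 6 2) ?_⟩
  ext y
  constructor
  · rintro ⟨x, hx, rfl⟩
    rw [Subgroup.mem_center_iff]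
    intro g
    obtain ⟨h, rfl⟩ := (Chevalley.G2Two.suCongr e 6 2).surjective g
    show Chevalley.G2Two.suCongr e 6 2 h * Chevalley.G2Two.suCongr e 6 2 x = _ * _
    rw [← map_mul, Subgroup.mem_center_iff.1 hx h, map_mul]
    rfl
  · intro hy
    refine ⟨(Chevalley.G2Two.suCongr e 6 2).symm y, Subgroup.mem_center_iff.2 fun g => ?_,
      (Chevalley.G2Two.suCongr e 6 2).apply_symm_apply y⟩
    apply (Chevalley.G2Two.suCongr e 6 2).injective
    simpa using Subgroup.mem_center_iff.1 hy (Chevalley.G2Two.suCongr e 6 2 g)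

theorem conj_mem_HG (hD : Cfsg.IsThreeTranspositionGroup D) (g : G) {d x : G} (hx : x ∈ HG D d) :
    g * x * g⁻¹ ∈ HG D (g * d * g⁻¹) := by
  induction hx using Subgroup.closure_induction with
  | mem y hy => exact mem_HG (nb_conj hD g hy)
  | one => simp
  | mul a b _ _ ha hb => simpa [mul_assoc] using mul_mem ha hb
  | inv a _ ha => simpa [mul_assoc] using inv_mem ha

variable [Finite G] (ctx : Ctx D)
include ctx

namespace Ctx

theorem hclass : ∀ a ∈ D, ∀ b ∈ D, ∃ g : G, g * a * g⁻¹ = b := ctx.hprim.1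

theorem width : ∃ a ∈ D, ∃ b ∈ D, a ≠ b ∧ Commute a b := by
  obtain ⟨d, hd, c, hc, -, ⟨F, hf, hf', hF, ⟨e⟩⟩, -⟩ := ctx.ht.2
  by_contra hno
  push Not at hno
  have he : {y : G | y ∈ D ∧ y ≠ d ∧ Commute d y} = ∅ :=
    Set.eq_empty_iff_forall_notMem.2 fun y hy => hno d hd y hy.1 (Ne.symm hy.2.1) hy.2.2
  obtain ⟨i⟩ := psu_field (FiniteField.ringEquivOfCardEq (K := F) (K' := K) (by rw [hF, hK]))
  let j := e.trans i
  have h1 : ∀ u : P, u = 1 := by
    intro u
    obtain ⟨v, rfl⟩ := j.surjective u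
    obtain ⟨w, rfl⟩ := QuotientGroup.mk_surjective v
    have hw : (w : G) = 1 := by
      have := w.2
      simp only [he, Subgroup.closure_empty, Subgroup.mem_bot] at this
      exact this
    rw [show w = 1 from Subtype.ext hw]
    exact map_one j
  have := TP_order.1 _ (mem_TP p12_mem)
  rw [h1 (tp p12), orderOf_one] at this
  norm_num at this

theorem center : Subgroup.center G = ⊥ := ctx.ht.1

theorem hperf : ⁅commutator G, commutator G⁆ = commutator G := by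
  obtain ⟨h2, h3, hconn⟩ := FischerPrimitive.of_primitive ctx.hD ctx.hprim ctx.width
  obtain ⟨hclass, hD2, -⟩ := ctx.hprim
  obtain ⟨L, hL⟩ := FischerLayer.exists_component ctx.hD hclass hD2 h2 h3
  exact FischerPrimitive.derived_perfect ctx.hD hclass hD2 hL
    (FischerLayer.index_le_two ctx.hD hclass hD2 hL hconn)

theorem hsol : ∀ N : Subgroup G, N.Normal → Group.IsSolvable ↥N → N ≤ commutator G →
    N ≤ Subgroup.center G := by
  obtain ⟨h2, h3, -⟩ := FischerPrimitive.of_primitive ctx.hD ctx.hprim ctx.width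
  exact fun N hN hs _ => FischerCores.solvable_normal_le_center ctx.hD h2 h3 N hN hs

theorem exists_noncomm {d : G} (hd : d ∈ D) : ∃ y ∈ D, ¬ Commute d y :=
  FischerLayer.exists_adj' ctx.hD ctx.hclass ctx.hprim.2.1 hd

/-- The projective picture at each member. -/
theorem exists_pi {d : G} (hd : d ∈ D) : ∃ π : HG D d →* P, IsPi D d π := by
  obtain ⟨d₀, hd₀, c, hc, -, ⟨F, hf, hf', hF, ⟨e⟩⟩, -⟩ := ctx.ht.2
  obtain ⟨i⟩ := psu_field (FiniteField.ringEquivOfCardEq (K := F) (K' := K) (by rw [hF, hK]))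
  obtain ⟨g, rfl⟩ := ctx.hclass d₀ hd₀ d hd
  let φ : HG D (g * d₀ * g⁻¹) ≃* HG D d₀ :=
    { toFun := fun x => ⟨g⁻¹ * x * g, by simpa [mul_assoc] using conj_mem_HG ctx.hD g⁻¹ x.2⟩
      invFun := fun x => ⟨g * x * g⁻¹, conj_mem_HG ctx.hD g x.2⟩
      left_inv := fun x => Subtype.ext (by simp [mul_assoc])
      right_inv := fun x => Subtype.ext (by simp [mul_assoc])
      map_mul' := fun x y => Subtype.ext (by simp [mul_assoc]) }
  let j : HG D d₀ ⧸ Subgroup.center (HG D d₀) ≃* P := e.trans i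
  refine ⟨(j.toMonoidHom.comp (QuotientGroup.mk' _)).comp φ.toMonoidHom,
    (j.surjective.comp (QuotientGroup.mk'_surjective _)).comp φ.surjective, ?_⟩
  ext x
  rw [MonoidHom.mem_ker]
  change j (QuotientGroup.mk (φ x)) = 1 ↔ _
  rw [MulEquiv.map_eq_one_iff, QuotientGroup.eq_one_iff]
  simp only [Subgroup.mem_center_iff]
  constructor
  · intro h y
    apply φ.injective
    rw [map_mul, map_mul]
    exact h _
  · intro h y
    obtain ⟨y, rfl⟩ := φ.surjective y
    rw [← map_mul, ← map_mul, h y]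

variable {d : G} (hd : d ∈ D) {π : HG D d →* P} (hπ : IsPi D d π)
include hd hπ

theorem pf_ne_one {x : G} (hx : x ∈ Nb D d) : pf π x ≠ 1 := by
  intro h
  rw [pf_eq π (mem_HG hx), ← MonoidHom.mem_ker, hπ.ker, Subgroup.mem_center_iff] at h
  have hall : Nb D d ⊆ {x} := by
    intro y hy
    obtain ⟨g, hg, rfl⟩ := exists_conj ctx.hD ctx.hclass ctx.hperf ctx.hsol hd hx hy
    have := congrArg Subtype.val (h ⟨g, hg⟩)
    simp only [Subgroup.coe_mul] at this
    show g * x * g⁻¹ = x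
    rw [this, mul_inv_cancel_right]
  have hcomm : ∀ a b : HG D d, a * b = b * a := by
    intro a b
    have hz : ∀ t : HG D d, (t : G) ∈ Subgroup.zpowers x := fun t =>
      (Subgroup.closure_le _).2 (fun s hs => by rw [hall hs]; exact Subgroup.mem_zpowers x) t.2
    obtain ⟨m, hm⟩ := hz a
    obtain ⟨n, hn⟩ := hz b
    refine Subtype.ext ?_
    simp only [Subgroup.coe_mul, ← hm, ← hn]
    exact (Commute.zpow_zpow_self x m n).eq
  exact P_noncomm ⟨⟨fun a b => by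
    obtain ⟨a, rfl⟩ := hπ.surj a
    obtain ⟨b, rfl⟩ := hπ.surj b
    rw [← map_mul, ← map_mul, hcomm]⟩⟩

theorem pf_sq {x : G} (hx : x ∈ Nb D d) : pf π x * pf π x = 1 := by
  rw [← pf_mul π (mem_HG hx) (mem_HG hx), FischerTransitivity.sq ctx.hD hx.1, pf_eq π (one_mem _)]
  exact map_one π

theorem pf_mem {x : G} (hx : x ∈ Nb D d) : pf π x ∈ TP := by
  have hE : ∀ e ∈ pf π '' Nb D d, e ≠ 1 ∧ e * e = 1 := by
    rintro _ ⟨y, hy, rfl⟩
    exact ⟨ctx.pf_ne_one hd hπ hy, ctx.pf_sq hd hπ hy⟩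
  have hconj : ∀ u : P, ∀ e ∈ pf π '' Nb D d, u * e * u⁻¹ ∈ pf π '' Nb D d := by
    rintro u _ ⟨y, hy, rfl⟩
    obtain ⟨g, rfl⟩ := hπ.surj u
    have hg : (g : G) * d * (g : G)⁻¹ = d := by rw [← (HG_commute g.2).eq, mul_inv_cancel_right]
    have hy' := nb_conj ctx.hD (g : G) hy
    rw [hg] at hy'
    refine ⟨g * y * (g : G)⁻¹, hy', ?_⟩
    rw [pf_mul π (mul_mem g.2 (mem_HG hy)) (inv_mem g.2), pf_mul π g.2 (mem_HG hy), pf_inv π g.2, pf_eq π g.2]
  have htt : ∀ a ∈ pf π '' Nb D d, ∀ b ∈ pf π '' Nb D d, (a * b) ^ 2 = 1 ∨ (a * b) ^ 3 = 1 := by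
    rintro _ ⟨a, ha, rfl⟩ _ ⟨b, hb, rfl⟩
    rw [← pf_mul π (mem_HG ha) (mem_HG hb)]
    have key : ∀ n : ℕ, (a * b) ^ n = 1 → pf π (a * b) ^ n = 1 := fun n h => by
      rw [pf_eq π (mul_mem (mem_HG ha) (mem_HG hb)), ← map_pow]
      exact (congrArg π (Subtype.ext h)).trans (map_one π)
    exact (ctx.hD.1.2 a ha.1 b hb.1).imp (key 2) (key 3)
  obtain ⟨v, hv, h⟩ := exists_tp hE hconj htt ⟨x, hx, rfl⟩
  rw [h]
  exact mem_TP hv

theorem pf_surj {z : P} (hz : z ∈ TP) : ∃ x ∈ Nb D d, pf π x = z := by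
  obtain ⟨x, hx⟩ : (Nb D d).Nonempty := by
    obtain ⟨a, ha, b, hb, hab, hc⟩ := ctx.width
    obtain ⟨g, rfl⟩ := ctx.hclass a ha d hd
    exact ⟨g * b * g⁻¹, nb_conj ctx.hD g ⟨hb, hab.symm, hc⟩⟩
  obtain ⟨u, hu⟩ := TP_class _ (ctx.pf_mem hd hπ hx) z hz
  obtain ⟨g, rfl⟩ := hπ.surj u
  have hg : (g : G) * d * (g : G)⁻¹ = d := by rw [← (HG_commute g.2).eq, mul_inv_cancel_right]
  refine ⟨g * x * (g : G)⁻¹, by have := nb_conj ctx.hD (g : G) hx; rwa [hg] at this, ?_⟩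
  rw [← hu, pf_mul π (mul_mem g.2 (mem_HG hx)) (inv_mem g.2), pf_mul π g.2 (mem_HG hx), pf_inv π g.2, pf_eq π g.2]

theorem central_of_ker {z : G} (hz : z ∈ HG D d) (h : pf π z = 1) : ∀ y ∈ Nb D d, Commute z y := by
  intro y hy
  rw [pf_eq π hz, ← MonoidHom.mem_ker, hπ.ker, Subgroup.mem_center_iff] at h
  exact (congrArg Subtype.val (h ⟨y, mem_HG hy⟩)).symm

theorem commute_iff {x y : G} (hx : x ∈ Nb D d) (hy : y ∈ Nb D d) :
    Commute (pf π x) (pf π y) ↔ Commute x y := by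
  refine ⟨fun h => ?_, fun h => ?_⟩
  · rcases ctx.hD.1.2 x hx.1 y hy.1 with h2 | h3
    · exact (CfsgLib.ThreeTransp.Basic.commute_iff (FischerTransitivity.sq ctx.hD hx.1)
        (FischerTransitivity.sq ctx.hD hy.1)).2 h2
    · have hm := mul_mem (mem_HG hx) (mem_HG hy)
      have h1 : pf π (x * y * (x * y)) = 1 := by
        rw [pf_mul π hm hm, pf_mul π (mem_HG hx) (mem_HG hy)]
        calc pf π x * pf π y * (pf π x * pf π y) = pf π x * (pf π y * pf π x) * pf π y := by group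
          _ = 1 := by rw [← h.eq, ← mul_assoc, ctx.pf_sq hd hπ hx, one_mul, ctx.pf_sq hd hπ hy]
      have hc := ctx.central_of_ker hd hπ (mul_mem hm hm) h1 x hx
      have e : x * y * (x * y) = (x * y)⁻¹ := by
        rw [eq_inv_iff_mul_eq_one, ← pow_two, ← pow_succ]
        exact h3
      rw [e] at hc
      have hc' : Commute (x * y) x := (inv_inv (x * y)) ▸ hc.inv_left
      exact (mul_left_cancel (a := x) (by rw [← mul_assoc, ← mul_assoc, hc'.eq, ← mul_assoc] :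
        x * (x * y) = x * (y * x)))
  · rw [commute_iff_eq, ← pf_mul π (mem_HG hx) (mem_HG hy), h.eq, pf_mul π (mem_HG hy) (mem_HG hx)]

omit hd hπ

/-- Any two members with a common noncommuting partner have common neighbours generating a non-abelian group. -/
theorem common_noncomm {d c : G} (hd : d ∈ D) (hc : c ∈ D) (hdc : ¬ Commute d c) :
    ∃ x ∈ Nb D d ∩ Nb D c, ∃ y ∈ Nb D d ∩ Nb D c, ¬ Commute x y := by
  obtain ⟨d₀, hd₀, c₀, hc₀, hn₀, -, c₃, hc₃, hrefl⟩ := ctx.ht.2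
  obtain ⟨g, hg⟩ := ctx.hclass d₀ hd₀ d hd
  have hn1 : ¬ Commute d (g * c₀ * g⁻¹) := hg ▸ fun h => hn₀ ((Commute.conj_iff g).1 h)
  obtain ⟨k, hk1, hk2⟩ := adj_transitive ctx.hD ctx.hclass ctx.hperf ctx.hsol hd
    (ctx.hD.2.1 g c₀ hc₀) hc hn1 hdc
  have hmap : ∀ x ∈ Nb D d₀ ∩ Nb D c₀, k * g * x * (k * g)⁻¹ ∈ Nb D d ∩ Nb D c := by
    rintro x ⟨h1, h2⟩
    constructor
    · have := nb_conj ctx.hD (k * g) h1
      rwa [show k * g * d₀ * (k * g)⁻¹ = k * (g * d₀ * g⁻¹) * k⁻¹ by group, hg, hk1] at this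
    · have := nb_conj ctx.hD (k * g) h2
      rwa [show k * g * c₀ * (k * g)⁻¹ = k * (g * c₀ * g⁻¹) * k⁻¹ by group, hk2] at this
  by_contra hno
  push Not at hno
  set L := Subgroup.closure ({y : G | y ∈ D ∧ y ≠ d₀ ∧ Commute d₀ y} ∩ {y : G | y ∈ D ∧ y ≠ c₀ ∧ Commute c₀ y})
  have hL : ∀ x : L, x ∈ Subgroup.center L := by
    intro x
    rw [Subgroup.mem_center_iff]
    intro y
    refine Subtype.ext ?_
    have hy : (y : G) ∈ Subgroup.centralizer (L : Set G) := by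
      refine (Subgroup.closure_le _).2 (fun a ha => ?_) y.2
      rw [SetLike.mem_coe, Subgroup.centralizer_closure, Subgroup.mem_centralizer_iff]
      intro b hb
      exact ((Commute.conj_iff (k * g)).1 (hno _ (hmap b hb) _ (hmap a ha))).eq
    exact (Subgroup.mem_centralizer_iff.1 hy _ x.2).symm
  have h := proj_refl_dvd hc₃ hrefl
  have : Nat.card (L ⧸ Subgroup.center L) = 1 := Nat.card_eq_one_iff_unique.2
    ⟨⟨fun a b => by
      obtain ⟨a, rfl⟩ := QuotientGroup.mk_surjective a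
      obtain ⟨b, rfl⟩ := QuotientGroup.mk_surjective b
      exact QuotientGroup.eq.2 (hL _)⟩, ⟨1⟩⟩
  rw [this] at h
  norm_num at h

include hd hπ

theorem pf_inj {x y : G} (hx : x ∈ Nb D d) (hy : y ∈ Nb D d) (h : pf π x = pf π y) : x = y := by
  by_contra hne
  have hcxy : Commute x y := (ctx.commute_iff hd hπ hx hy).1 (h ▸ Commute.refl _)
  have key : ∀ u ∈ Nb D d, ∀ w ∈ Nb D d, pf π u = pf π w →
      ∀ z ∈ Nb D d, Commute u z → Commute w z := fun u hu w hw huw z hz hc =>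
    (ctx.commute_iff hd hπ hw hz).1 (huw ▸ (ctx.commute_iff hd hπ hu hz).2 hc)
  -- in the picture at `x`, the members `d` and `y` have the same image
  obtain ⟨π', hπ'⟩ := ctx.exists_pi hx.1
  have hdx : d ∈ Nb D x := ⟨hd, Ne.symm hx.2.1, hx.2.2.symm⟩
  have hyx : y ∈ Nb D x := ⟨hy.1, Ne.symm hne, hcxy⟩
  have hdy : pf π' y = pf π' d := by
    refine eq_of_perp (ctx.pf_mem hx.1 hπ' hdx) (ctx.pf_mem hx.1 hπ' hyx) fun z hz hc => ?_
    obtain ⟨z, hz', rfl⟩ := ctx.pf_surj hx.1 hπ' hz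
    rw [ctx.commute_iff hx.1 hπ' hdx hz'] at hc
    rw [ctx.commute_iff hx.1 hπ' hyx hz']
    by_cases he : z = d
    · exact he ▸ hy.2.2.symm
    exact key x hx y hy h z ⟨hz'.1, he, hc⟩ hz'.2.2
  have sep : ∀ u ∈ D, Commute x u → u ≠ x → ¬ Commute d u → ¬ Commute y u := by
    intro u hu hxu hne' hdu hyu
    have hux : u ∈ Nb D x := ⟨hu, hne', hxu⟩
    exact hdu ((ctx.commute_iff hx.1 hπ' hdx hux).1 (hdy ▸ (ctx.commute_iff hx.1 hπ' hyx hux).2 hyu))
  -- every common neighbour commutes with `x`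
  have hall : ∀ u ∈ D, ¬ Commute d u → Commute x u → ∀ z ∈ Nb D d ∩ Nb D u, Commute x z := by
    rintro u hu hdu hxu z ⟨hzd, hzu⟩
    by_contra hxz
    have hyz : ¬ Commute y z := fun hc => hxz (key y hy x hx h.symm z hzd hc)
    have hyu : ¬ Commute y u := sep u hu hxu (fun e => hdu (e ▸ hx.2.2)) hdu
    have hcen : pf π (x * y) = 1 := by
      rw [pf_mul π (mem_HG hx) (mem_HG hy), ← h, ctx.pf_sq hd hπ hx]
    have hzc := ctx.central_of_ker hd hπ (mul_mem (mem_HG hx) (mem_HG hy)) hcen z hzd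
    have h1 : cj y (cj x z) = z := by
      simp only [cj]
      calc y * (x * z * x) * y = (x * y) * z * (x * y) := by
            rw [hcxy.eq]; simp only [mul_assoc]; rw [← hcxy.eq]
        _ = z := by
            have hsq : x * y * (x * y) = 1 := by
              calc x * y * (x * y) = x * (y * x) * y := by group
                _ = 1 := by
                  rw [← hcxy.eq, ← mul_assoc, FischerTransitivity.sq ctx.hD hx.1, one_mul,
                    FischerTransitivity.sq ctx.hD hy.1]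
            rw [hzc.eq, mul_assoc, hsq, mul_one]
    have h2 : cj y u = cj y (cj x u) := by rw [cj_fix ctx.hD hx.1 hxu]
    have h3 : Commute (cj y (cj x z)) (cj y (cj x u)) :=
      (commute_cj ctx.hD hy.1 _ _).2 ((commute_cj ctx.hD hx.1 _ _).2 hzu.2.2.symm)
    rw [h1, ← h2, commute_swap ctx.hD hy.1, cj_comm ctx.hD hy.1 hzd.1 hyz,
      ← commute_swap ctx.hD hzd.1, cj_fix ctx.hD hzd.1 hzu.2.2.symm] at h3
    exact hyu h3
  -- every member of the neighbourhood has a partner, so common neighbours pairwise commute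
  obtain ⟨c, hc, hdc⟩ := ctx.exists_noncomm hd
  obtain ⟨u, hu, v, hv, huv⟩ := ctx.common_noncomm hd hc hdc
  obtain ⟨g, hg, hgu⟩ := exists_conj ctx.hD ctx.hclass ctx.hperf ctx.hsol hd hx hu.1
  have hgd : g * d * g⁻¹ = d := by rw [← (HG_commute hg).eq, mul_inv_cancel_right]
  have hdc' : ¬ Commute d (g⁻¹ * c * g) := by
    intro h'
    apply hdc
    have := (Commute.conj_iff g).2 h'
    rwa [hgd, show g * (g⁻¹ * c * g) * g⁻¹ = c by group] at this
  have hxc : Commute x (g⁻¹ * c * g) := by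
    have := hu.2.2.2.symm
    rw [← hgu] at this
    rw [← Commute.conj_iff g, show g * (g⁻¹ * c * g) * g⁻¹ = c by group]
    exact this
  have hv' : g⁻¹ * v * g ∈ Nb D d ∩ Nb D (g⁻¹ * c * g) := by
    constructor
    · have := nb_conj ctx.hD g⁻¹ hv.1
      rw [inv_inv] at this
      rwa [show g⁻¹ * d * g = d by
        calc g⁻¹ * d * g = g⁻¹ * (g * d * g⁻¹) * g := by rw [hgd]
          _ = d := by group] at this
    · have := nb_conj ctx.hD g⁻¹ hv.2
      rwa [inv_inv] at this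
  have := hall _ (by simpa using ctx.hD.2.1 g⁻¹ c hc) hdc' hxc _ hv'
  apply huv
  rw [← Commute.conj_iff g, hgu, show g * (g⁻¹ * v * g) * g⁻¹ = v by group] at this
  exact this

theorem ncard_nb (p : P → Prop) :
    {x | x ∈ Nb D d ∧ p (pf π x)}.ncard = {z | z ∈ TP ∧ p z}.ncard := by
  rw [← Set.InjOn.ncard_image fun a ha b hb => ctx.pf_inj hd hπ ha.1 hb.1]
  congr 1
  ext z
  constructor
  · rintro ⟨x, ⟨hx, hp⟩, rfl⟩
    exact ⟨ctx.pf_mem hd hπ hx, hp⟩
  · rintro ⟨hz, hp⟩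
    obtain ⟨x, hx, rfl⟩ := ctx.pf_surj hd hπ hz
    exact ⟨x, ⟨hx, hp⟩, rfl⟩

omit hd hπ

theorem card_nb {d : G} (hd : d ∈ D) : (Nb D d).ncard = 693 := by
  obtain ⟨π, hπ⟩ := ctx.exists_pi hd
  have := ctx.ncard_nb hd hπ fun _ => True
  simpa [card_TP] using this

theorem card_nb_nb {d e : G} (hd : d ∈ D) (he : e ∈ Nb D d) : (Nb D d ∩ Nb D e).ncard = 180 := by
  obtain ⟨π, hπ⟩ := ctx.exists_pi hd
  have h := ctx.ncard_nb hd hπ fun z => Commute (pf π e) z
  rw [card_perp (ctx.pf_mem hd hπ he)] at h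
  have e1 : {x | x ∈ Nb D d ∧ Commute (pf π e) (pf π x)} = insert e (Nb D d ∩ Nb D e) := by
    ext x
    constructor
    · rintro ⟨hx, hc⟩
      rcases eq_or_ne x e with h' | h'
      · exact Or.inl h'
      · exact Or.inr ⟨hx, hx.1, h', (ctx.commute_iff hd hπ he hx).1 hc⟩
    · rintro (rfl | ⟨hx, hxe⟩)
      · exact ⟨he, Commute.refl _⟩
      · exact ⟨hx, (ctx.commute_iff hd hπ he hx).2 hxe.2.2⟩
  rw [e1, Set.ncard_insert_of_notMem (fun h => h.2.2.1 rfl) (Set.toFinite _)] at h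
  omega

theorem card_nb_three {d c e : G} (hd : d ∈ D) (hdc : ¬ Commute d c) (he : e ∈ Nb D d ∩ Nb D c)
    (hc : c ∈ D) : (Nb D e ∩ (Nb D d ∩ Nb D c)).ncard = 45 := by
  obtain ⟨π, hπ⟩ := ctx.exists_pi he.1.1
  have hde : d ∈ Nb D e := ⟨hd, Ne.symm he.1.2.1, he.1.2.2.symm⟩
  have hce : c ∈ Nb D e := ⟨hc, Ne.symm he.2.2.1, he.2.2.2.symm⟩
  rw [← card_pair_perp (ctx.pf_mem he.1.1 hπ hde) (ctx.pf_mem he.1.1 hπ hce)
    (fun h => hdc ((ctx.commute_iff he.1.1 hπ hde hce).1 h)),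
    ← ctx.ncard_nb he.1.1 hπ fun z => Commute (pf π d) z ∧ Commute (pf π c) z]
  congr 1
  ext x
  refine ⟨fun ⟨hx, h1, h2⟩ => ⟨hx, (ctx.commute_iff he.1.1 hπ hde hx).2 h1.2.2,
    (ctx.commute_iff he.1.1 hπ hce hx).2 h2.2.2⟩, fun ⟨hx, h1, h2⟩ => ?_⟩
  rw [ctx.commute_iff he.1.1 hπ hde hx] at h1
  rw [ctx.commute_iff he.1.1 hπ hce hx] at h2
  exact ⟨hx, ⟨hx.1, fun e' => hdc (e' ▸ h2.symm), h1⟩, ⟨hx.1, fun e' => hdc (e' ▸ h1), h2⟩⟩

/-- A member with the same common neighbours is in the same triangle. -/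
theorem eq_of_common {d c c' e : G} (hd : d ∈ D) (hc : c ∈ D) (hdc : ¬ Commute d c)
    (he : e ∈ Nb D d ∩ Nb D c) (hc' : c' ∈ Nb D e)
    (h : ∀ x ∈ Nb D e, Commute d x → Commute c x → Commute c' x) :
    c' = d ∨ c' = c ∨ c' = d * c * d := by
  obtain ⟨π, hπ⟩ := ctx.exists_pi he.1.1
  have hde : d ∈ Nb D e := ⟨hd, Ne.symm he.1.2.1, he.1.2.2.symm⟩
  have hce : c ∈ Nb D e := ⟨hc, Ne.symm he.2.2.1, he.2.2.2.symm⟩
  have h3 : d * c * d⁻¹ ∈ Nb D e := by
    have := nb_conj ctx.hD d hce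
    rwa [show d * e * d⁻¹ = e by rw [he.1.2.2.eq, mul_inv_cancel_right]] at this
  have hmem : ∀ {x : G}, x ∈ Nb D e → pf π x ∈ TP := fun hx => ctx.pf_mem he.1.1 hπ hx
  rcases eq_of_pair_perp (hmem hde) (hmem hce) (hmem hc')
    (fun h' => hdc ((ctx.commute_iff he.1.1 hπ hde hce).1 h')) (fun z hz h1 h2 => by
      obtain ⟨x, hx, rfl⟩ := ctx.pf_surj he.1.1 hπ hz
      rw [ctx.commute_iff he.1.1 hπ hde hx] at h1
      rw [ctx.commute_iff he.1.1 hπ hce hx] at h2
      exact (ctx.commute_iff he.1.1 hπ hc' hx).2 (h x hx h1 h2)) with e1 | e1 | e1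
  · exact Or.inl (ctx.pf_inj he.1.1 hπ hc' hde e1)
  · exact Or.inr (Or.inl (ctx.pf_inj he.1.1 hπ hc' hce e1))
  · refine Or.inr (Or.inr ?_)
    rw [← pf_mul π (mem_HG hde) (mem_HG hce), ← pf_inv π (mem_HG hde),
      ← pf_mul π (mul_mem (mem_HG hde) (mem_HG hce)) (inv_mem (mem_HG hde))] at e1
    rw [ctx.pf_inj he.1.1 hπ hc' h3 e1, inv_eq ctx.hD hd]

theorem eq_one_of_fix {d y g : G} (hd : d ∈ D) (hy : y ∈ D) (hdy : ¬ Commute d y)
    (hg : ∀ x ∈ Nb D d, Commute g x) (hgd : Commute g d) (hgy : Commute g y) : g = 1 := by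
  obtain ⟨-, -, hmax⟩ := Cfsg.Agent.S5354.result ctx.hD ctx.hprim ctx.width
  set M := Subgroup.closure {z : G | z ∈ D ∧ Commute d z} with hM
  set H' := Subgroup.closure (insert y {z : G | z ∈ D ∧ Commute d z}) with hH'
  have hsub : Cfsg.IsDSubgroup D H' := le_antisymm ((Subgroup.closure_le _).2 fun z hz => hz.2)
    ((Subgroup.closure_le _).2 (by
      rintro z (rfl | hz)
      · exact Subgroup.subset_closure ⟨hy, Subgroup.subset_closure (Set.mem_insert _ _)⟩
      · exact Subgroup.subset_closure ⟨hz.1, Subgroup.subset_closure (Set.mem_insert_of_mem _ hz)⟩))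
  have hyM : y ∉ M := fun h => hdy (by
    refine (Subgroup.mem_centralizer_singleton_iff.1 ((Subgroup.closure_le _).2 (fun z hz => ?_) h)).symm
    exact Subgroup.mem_centralizer_singleton_iff.2 hz.2.symm.eq)
  rcases (hmax d hd).2 H' hsub (Subgroup.closure_mono (Set.subset_insert _ _)) with h | h
  · refine absurd ?_ hyM
    rw [hM, ← h]
    exact Subgroup.subset_closure (Set.mem_insert _ _)
  · rw [← Subgroup.mem_bot, ← ctx.center, Subgroup.mem_center_iff]
    intro z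
    have hz : z ∈ H' := h ▸ Subgroup.mem_top z
    refine (Subgroup.mem_centralizer_singleton_iff.1
      ((Subgroup.closure_le _).2 ?_ hz : z ∈ Subgroup.centralizer ({g} : Set G)))
    rintro w (rfl | hw) <;> refine Subgroup.mem_centralizer_singleton_iff.2 ?_
    · exact hgy.symm.eq
    · rcases eq_or_ne w d with rfl | hne
      · exact hgd.symm.eq
      · exact (hg w ⟨hw.1, hne, hw.2⟩).symm.eq

/-- The centralizer of a neighbourhood. -/
theorem centralizer_nb {d g : G} (hd : d ∈ D) (hg : ∀ x ∈ Nb D d, Commute g x) : g = 1 ∨ g = d := by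
  have hgd : Commute g d := by
    have h : g * d * g⁻¹ = d := by
      refine eq_of_nb_eq ctx.hD ctx.hclass ctx.hsol (ctx.hD.2.1 g d hd) hd ?_
      rw [← nb_image ctx.hD]
      ext z
      constructor
      · rintro ⟨w, hw, rfl⟩
        show g * w * g⁻¹ ∈ _
        rw [(hg w hw).eq, mul_inv_cancel_right]; exact hw
      · intro hz
        exact ⟨z, hz, by show g * z * g⁻¹ = z; rw [(hg z hz).eq, mul_inv_cancel_right]⟩
    exact eq_mul_inv_iff_mul_eq.1 h.symm |>.symm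
  obtain ⟨y, hy, hdy⟩ := ctx.exists_noncomm hd
  by_cases hgy : Commute g y
  · exact Or.inl (ctx.eq_one_of_fix hd hy hdy hg hgd hgy)
  obtain ⟨e, he, -⟩ := ctx.common_noncomm hd hy hdy
  have hge : g * e * g⁻¹ = e := by rw [(hg e he.1).eq, mul_inv_cancel_right]
  have hce : y ∈ Nb D e := ⟨hy, Ne.symm he.2.2.1, he.2.2.2.symm⟩
  have hy' : g * y * g⁻¹ ∈ Nb D e := hge ▸ nb_conj ctx.hD g hce
  rcases ctx.eq_of_common hd hy hdy he hy' (fun x hx h1 h2 => by
    have hxd : x ∈ Nb D d := ⟨hx.1, fun e' => hdy (e' ▸ h2.symm), h1⟩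
    have := (Commute.conj_iff g).2 h2
    rwa [show g * x * g⁻¹ = x by rw [(hg x hxd).eq, mul_inv_cancel_right]] at this) with h | h | h
  · exfalso
    have h' : g * y * g⁻¹ = g * d * g⁻¹ := by rw [h, hgd.eq, mul_inv_cancel_right]
    exact hdy (mul_left_cancel (mul_right_cancel h') ▸ Commute.refl d)
  · exact absurd (eq_mul_inv_iff_mul_eq.1 h.symm).symm hgy
  · right
    have h1 : d * g = 1 := by
      refine ctx.eq_one_of_fix hd hy hdy (fun x hx => (hx.2.2).mul_left (hg x hx))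
        ((Commute.refl d).mul_left hgd) ?_
      have e2 : d * g * y * (d * g)⁻¹ = y := by
        calc d * g * y * (d * g)⁻¹ = d * (g * y * g⁻¹) * d⁻¹ := by group
          _ = d * (d * y * d) * d⁻¹ := by rw [h]
          _ = (d * d) * y := by group
          _ = y := by rw [FischerTransitivity.sq ctx.hD hd, one_mul]
      exact (eq_mul_inv_iff_mul_eq.1 e2.symm).symm
    rw [eq_inv_of_mul_eq_one_right h1, inv_eq ctx.hD hd]

theorem center_mem {d z : G} (hd : d ∈ D) {π : HG D d →* P} (hπ : IsPi D d π) (hz : z ∈ HG D d)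
    (h : pf π z = 1) : z = 1 ∨ z = d :=
  ctx.centralizer_nb hd (ctx.central_of_ker hd hπ hz h)

/-- A member belongs to the group generated by its neighbours. -/
theorem self_mem_HG {d : G} (hd : d ∈ D) : d ∈ HG D d := by
  by_contra hn
  obtain ⟨a, ha, b, hb, hab, hc⟩ := ctx.width
  obtain ⟨g, hg⟩ := ctx.hclass a ha d hd
  have hall : ∀ e ∈ D, e ∉ HG D e := by
    intro e he hee
    obtain ⟨k, hk⟩ := ctx.hclass e he d hd
    exact hn (hk ▸ conj_mem_HG ctx.hD k hee)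
  set e := g * b * g⁻¹
  have he : e ∈ Nb D d := hg ▸ nb_conj ctx.hD g ⟨hb, hab.symm, hc⟩
  obtain ⟨q, hqd, hqe⟩ : (Nb D d ∩ Nb D e).Nonempty :=
    Set.nonempty_of_ncard_ne_zero (by rw [ctx.card_nb_nb hd he]; norm_num)
  obtain ⟨π, hπ⟩ := ctx.exists_pi he.1
  have hde : d ∈ Nb D e := ⟨hd, Ne.symm he.2.1, he.2.2.symm⟩
  obtain ⟨Y, -, hlen, hY, -, hprod, -⟩ := lineFacts_TP.five _ (ctx.pf_mem he.1 hπ hde) _
    (ctx.pf_mem he.1 hπ hqe) (fun h => hqd.2.1 (ctx.pf_inj he.1 hπ hde hqe h).symm)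
    ((ctx.commute_iff he.1 hπ hde hqe).2 hqd.2.2)
  obtain ⟨r, s, t, rfl⟩ := List.length_eq_three.1 hlen
  have hlift : ∀ z, z ∈ [r, s, t] → ∃ x ∈ Nb D e, pf π x = z ∧ x ∈ Nb D d := by
    intro z hz
    obtain ⟨hzT, hzp, -, hzc, -⟩ := (hY z).1 hz
    obtain ⟨x, hx, rfl⟩ := ctx.pf_surj he.1 hπ hzT
    exact ⟨x, hx, rfl, hx.1, fun h => hzp (h ▸ rfl), (ctx.commute_iff he.1 hπ hde hx).1 hzc⟩
  obtain ⟨x, hx, rfl, hxd⟩ := hlift r (by simp)
  obtain ⟨y, hy, rfl, hyd⟩ := hlift s (by simp)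
  obtain ⟨w, hw, rfl, hwd⟩ := hlift t (by simp)
  have m1 := mul_mem (mem_HG hx) (mul_mem (mem_HG hy) (mem_HG hw))
  have hm : d * q * (x * (y * w)) ∈ HG D e := mul_mem (mul_mem (mem_HG hde) (mem_HG hqe)) m1
  have h1 : pf π (d * q * (x * (y * w))) = 1 := by
    rw [pf_mul π (mul_mem (mem_HG hde) (mem_HG hqe)) m1, pf_mul π (mem_HG hde) (mem_HG hqe),
      pf_mul π (mem_HG hx) (mul_mem (mem_HG hy) (mem_HG hw)), pf_mul π (mem_HG hy) (mem_HG hw)]
    simpa using hprod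
  rcases ctx.center_mem he.1 hπ hm h1 with h2 | h2
  · refine hn ?_
    have e3 : d = (q * (x * (y * w)))⁻¹ := eq_inv_of_mul_eq_one_left (by rw [← mul_assoc]; exact h2)
    have h4 : (q * (x * (y * w)))⁻¹ ∈ HG D d :=
      inv_mem (mul_mem (mem_HG hqd) (mul_mem (mem_HG hxd) (mul_mem (mem_HG hyd) (mem_HG hwd))))
    rwa [← e3] at h4
  · exact hall e he.1 (h2 ▸ hm)

theorem ker_eq {d : G} (hd : d ∈ D) {π : HG D d →* P} (hπ : IsPi D d π) :
    π.ker = (Subgroup.zpowers d).subgroupOf (HG D d) := by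
  ext z
  rw [Subgroup.mem_subgroupOf, MonoidHom.mem_ker]
  constructor
  · intro h
    rcases ctx.center_mem hd hπ z.2 (by rw [pf_eq π z.2]; exact h) with e | e <;> rw [e]
    · exact one_mem _
    · exact Subgroup.mem_zpowers d
  · rintro ⟨n, hn⟩
    have h1 : π ⟨d, ctx.self_mem_HG hd⟩ = 1 := by
      rw [← MonoidHom.mem_ker, hπ.ker, Subgroup.mem_center_iff]
      exact fun y => Subtype.ext (HG_commute y.2).eq.symm
    rw [show z = ⟨d, ctx.self_mem_HG hd⟩ ^ n from Subtype.ext (by simpa using hn.symm), map_zpow, h1, one_zpow]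

theorem card_HG {d : G} (hd : d ∈ D) : Nat.card (HG D d) = 2 * 9196830720 := by
  obtain ⟨π, hπ⟩ := ctx.exists_pi hd
  have h := π.ker.card_mul_index
  rw [Subgroup.index_ker, MonoidHom.range_eq_top.2 hπ.surj, Nat.card_congr Subgroup.topEquiv.toEquiv,
    CosetCert.FiP.card_PSU6, ctx.ker_eq hd hπ,
    Nat.card_congr (Subgroup.subgroupOfEquivOfLe ((Subgroup.zpowers_le).2 (ctx.self_mem_HG hd))).toEquiv,
    Nat.card_zpowers, ctx.hD.1.1 d hd] at h
  exact h.symm

end Ctx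

end CfsgLib.Sporadic.MTwentyTwo
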