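import Cfsg.Agent.Lib.Sporadic.MTwentyTwo.Bridge
import Cfsg.Agent.Lib.Sporadic.FischerRankThree
import Cfsg.Agent.Lib.Sporadic.FiUnitaryModel

/-!
# The class of transvections of `PSU₆(2)`
-/

set_option autoImplicit false

namespace CfsgLib.Sporadic.MTwentyTwo

open Matrix CfsgLib.Sporadic.U62Lift
open CfsgLib.Sporadic.FischerTransitivity CfsgLib.Sporadic.FischerRankThree
open CfsgLib.ThreeTransp.UnitarySix (LineFacts lineFacts_of_iso)
open scoped commutatorElement

attribute [local irreducible] pts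

/-- The transvections. -/
def TP : Set P := tp '' {v | v ∈ pts}

theorem mem_TP {v : Vec} (hv : v ∈ pts) : tp v ∈ TP := ⟨v, hv, rfl⟩

theorem mk_conj (g : SU) {v : Vec} (hv : v ∈ pts) :
    nz (mat g *ᵥ v) ∈ pts ∧
      (QuotientGroup.mk g : P) * tp v * (QuotientGroup.mk g : P)⁻¹ = tp (nz (mat g *ᵥ v)) := by
  have hi : hf (mat g *ᵥ v) (mat g *ᵥ v) = 0 := by rw [hf_mat, iso_of_mem hv]
  have h0 : mat g *ᵥ v ≠ 0 := fun h => ne_zero_of_mem hv (by
    have := congrArg (fun y => mat g⁻¹ *ᵥ y) h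
    simpa only [← mat_mul, inv_mul_cancel, mat_one, mulVec_zero] using this)
  refine ⟨nz_mem h0 hi, ?_⟩
  rw [tp_nz h0 hi]
  exact congrArg QuotientGroup.mk (tr_conj hK g (iso_of_mem hv))

theorem TP_conj (g : P) {a : P} (ha : a ∈ TP) : g * a * g⁻¹ ∈ TP := by
  obtain ⟨v, hv, rfl⟩ := ha
  obtain ⟨s, rfl⟩ := QuotientGroup.mk_surjective g
  rw [(mk_conj s hv).2]
  exact mem_TP (mk_conj s hv).1

theorem tmv_symm {v w : Vec} (h : hf w v ≠ 0) : tmv v w = tmv w v := by
  have h3 : hf w v * (hf w v * hf w v) = 1 :=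
    mul_left_cancel₀ h (by rw [mul_one]; linear_combination pow_four hK (hf w v))
  rw [tmv_eq, tmv_eq, hf_symm hK w v, ← nz_smul (c := hf w v) h (v + _)]
  congr 1
  rw [smul_add, smul_smul, show hf w v * hf w v ^ 2 = 1 by rw [pow_two]; exact h3, one_smul, add_comm]

theorem move_eq {v w : Vec} (hv : v ∈ pts) (hw : w ∈ pts) (h : hf v w ≠ 0) :
    tp v * tp w * tp v * (tp v * tp w)⁻¹ = tp w := by
  have h' : hf w v ≠ 0 := fun e => h (hf_eq_zero_symm hK e)
  have e1 := tp_conj hw hv
  have e2 := tp_conj hv (tmv_mem hw hv)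
  have e3 : tmv v (tmv w v) = w := by
    rw [← tmv_symm h', tmv_eq v (tmv v w)]
    have e : tmv v w = (sp (w + hf w v • v))⁻¹ • (w + hf w v • v) := by rw [tmv_eq, nz_eq]
    have hne : sp (w + hf w v • v) ≠ 0 := sp_ne fun e0 => by
      refine ne_zero_of_mem (tmv_mem hv hw) ?_
      rw [e, e0, smul_zero]
    rw [e, hf_smul_left, hf_add_left, hf_smul_left, iso_of_mem hv, mul_zero, add_zero, ← smul_smul, ← smul_add,
      nz_smul (inv_ne_zero hne), add_assoc, add_self_vec hK, add_zero, nz_self hw]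
  rw [e3] at e2
  rw [← e1] at e2
  rw [_root_.mul_inv_rev]
  simpa only [mul_assoc] using e2

theorem TP_order : Cfsg.IsThreeTranspositionSet TP := by
  refine ⟨?_, ?_⟩
  · rintro _ ⟨v, hv, rfl⟩
    refine orderOf_eq_prime (by rw [pow_two]; exact tp_sq hv) fun h => ?_
    obtain ⟨x, hx⟩ : ∃ x, hf x v ≠ 0 := by
      by_contra hno
      push Not at hno
      exact ne_zero_of_mem hv (eq_zero_of_hf hno)
    obtain ⟨c, hc⟩ := mat_eq_of_mk (g := 1) (g' := tr hK v) (h.symm.trans rfl)
    obtain ⟨y, hy, hyv, -⟩ := U62Lift.exists_perp v v v ⊥ (by simp)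
    have hy1 := hc y
    rw [mat_tr hK (iso_of_mem hv), hyv, zero_smul, add_zero, mat_one] at hy1
    have hc1 : c = 1 := by
      have : (c - 1) • y = 0 := by rw [sub_smul, one_smul, ← hy1, sub_self]
      exact sub_eq_zero.1 ((smul_eq_zero.1 this).resolve_right fun e => hy (by simp [e]))
    have := hc x
    rw [mat_tr hK (iso_of_mem hv), mat_one, hc1, one_smul, add_eq_left, smul_eq_zero] at this
    exact this.elim hx (ne_zero_of_mem hv)
  · rintro _ ⟨v, hv, rfl⟩ _ ⟨w, hw, rfl⟩
    by_cases h : hf v w = 0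
    · left
      have hc := (tp_commute_iff hv hw).2 (orth_iff.2 h)
      rw [pow_two]
      calc tp v * tp w * (tp v * tp w) = tp v * (tp w * tp v) * tp w := by group
        _ = 1 := by rw [← hc.eq, ← mul_assoc, tp_sq hv, one_mul, tp_sq hw]
    · right
      have e : tp v * tp w * tp v * tp w * (tp v * tp w) = 1 := by
        have h2 := move_eq hv hw h
        rw [mul_inv_eq_iff_eq_mul] at h2
        calc tp v * tp w * tp v * tp w * (tp v * tp w)
            = (tp w * (tp v * tp w)) * tp w * (tp v * tp w) := by rw [← h2]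
          _ = tp w * tp v * (tp w * tp w) * tp v * tp w := by group
          _ = 1 := by rw [tp_sq hw, mul_one, mul_assoc (tp w) (tp v), tp_sq hv, mul_one, tp_sq hw]
      rw [pow_succ, pow_two]
      simpa only [mul_assoc] using e

theorem step_ok : pts.all (fun P => pts.any fun Q => !orth P Q && !orth Q p12) = true := by decide +kernel

theorem p12_mem : p12 ∈ pts := mem_pts.2 (by decide +kernel)

theorem p13_mem : p13 ∈ pts := mem_pts.2 (by decide +kernel)

theorem p34_mem : p34 ∈ pts := mem_pts.2 (by decide +kernel)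

theorem TP_class : ∀ a ∈ TP, ∀ b ∈ TP, ∃ g : P, g * a * g⁻¹ = b := by
  have key : ∀ v ∈ pts, ∃ g : P, g * tp v * g⁻¹ = tp p12 := by
    intro v hv
    obtain ⟨q, hq, h⟩ := List.any_eq_true.1 (all_pts step_ok hv)
    simp only [Bool.and_eq_true, Bool.not_eq_true', orth_false] at h
    refine ⟨tp q * tp p12 * (tp v * tp q), ?_⟩
    have e1 := move_eq hv hq h.1
    have e2 := move_eq hq p12_mem h.2
    calc tp q * tp p12 * (tp v * tp q) * tp v * (tp q * tp p12 * (tp v * tp q))⁻¹
        = tp q * tp p12 * (tp v * tp q * tp v * (tp v * tp q)⁻¹) * (tp q * tp p12)⁻¹ := by group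
      _ = tp p12 := by rw [e1, e2]
  rintro _ ⟨v, hv, rfl⟩ _ ⟨w, hw, rfl⟩
  obtain ⟨g, hg⟩ := key v hv
  obtain ⟨k, hk⟩ := key w hw
  refine ⟨k⁻¹ * g, ?_⟩
  calc k⁻¹ * g * tp v * (k⁻¹ * g)⁻¹ = k⁻¹ * (g * tp v * g⁻¹) * k := by group
    _ = tp w := by rw [hg, ← hk]; group

theorem simple_P : IsSimpleGroup P := CosetCert.FiP.simple_PSU6

theorem TP_gen : Subgroup.closure TP = ⊤ := by
  have := simple_P
  have hn : (Subgroup.closure TP).Normal := ⟨fun x hx g => by
    induction hx using Subgroup.closure_induction with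
    | mem y hy => exact Subgroup.subset_closure (TP_conj g hy)
    | one => simp
    | mul y z _ _ hy hz => simpa [mul_assoc] using mul_mem hy hz
    | inv y _ hy => simpa [mul_assoc] using inv_mem hy⟩
  refine hn.eq_bot_or_eq_top.resolve_left fun h => ?_
  have h1 : tp p12 = 1 := by
    rw [← Subgroup.mem_bot, ← h]
    exact Subgroup.subset_closure (mem_TP p12_mem)
  have := TP_order.1 _ (mem_TP p12_mem)
  rw [h1, orderOf_one] at this
  norm_num at this

theorem TP_group : Cfsg.IsThreeTranspositionGroup TP :=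
  ⟨TP_order, fun g _ ha => TP_conj g ha, TP_gen⟩

theorem P_noncomm : ¬ IsMulCommutative P := fun h => by
  have := h.1.1 (tp p12) (tp p13)
  exact absurd ((tp_commute_iff p12_mem p13_mem).1 this) (by decide +kernel)

theorem P_perf : ⁅commutator P, commutator P⁆ = commutator P := by
  have := simple_P
  have h : commutator P = ⊤ := (Subgroup.Normal.eq_bot_or_eq_top inferInstance).resolve_left fun e =>
    P_noncomm ⟨⟨fun a b => by
      have hm : ⁅a, b⁆ ∈ commutator P := Subgroup.commutator_mem_commutator (Subgroup.mem_top a) (Subgroup.mem_top b)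
      rw [e, Subgroup.mem_bot, commutatorElement_eq_one_iff_mul_comm] at hm
      exact hm⟩⟩
  rw [h]
  exact h

theorem P_sol : ∀ N : Subgroup P, N.Normal → Group.IsSolvable ↥N → N ≤ commutator P →
    N ≤ Subgroup.center P := by
  intro N hN hs _
  have := simple_P
  rcases hN.eq_bot_or_eq_top with rfl | rfl
  · exact bot_le
  · exfalso
    have := Group.isSolvable_of_surjective (f := (Subgroup.topEquiv : (⊤ : Subgroup P) ≃* P).toMonoidHom)
      (Subgroup.topEquiv : (⊤ : Subgroup P) ≃* P).surjective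
    exact P_noncomm ⟨⟨fun a b => IsSimpleGroup.comm_iff_isSolvable.2 this a b⟩⟩

theorem lineFacts_TP : LineFacts TP :=
  lineFacts_of_iso hK (MulEquiv.refl P)
    (fun e he => ⟨fun h => by have := TP_order.1 e he; rw [h, orderOf_one] at this; norm_num at this,
      by obtain ⟨v, hv, rfl⟩ := he; exact tp_sq hv⟩)
    (fun g _ ha => TP_conj g ha) (TP_order.2) ⟨_, mem_TP p12_mem⟩

end CfsgLib.Sporadic.MTwentyTwo
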