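import Cfsg.Agent.Lib.Sporadic.MTwentyTwo.SetsData

/-!
# Closed sets of points invariant under the diagonal group
-/

set_option autoImplicit false

namespace CfsgLib.Sporadic.MTwentyTwo

theorem all_pts {p : Vec → Bool} (h : pts.all p = true) {v : Vec} (hv : v ∈ pts) : p v = true :=
  List.all_eq_true.1 h v hv

/-- Counting points by a computable predicate. -/
theorem ncard_pts (p : Vec → Bool) : {v : Vec | v ∈ pts ∧ p v = true}.ncard = pts.countP p := by
  classical
  have h : {v : Vec | v ∈ pts ∧ p v = true} = ↑((pts.filter p).toFinset) := by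
    ext v
    simp
  rw [h, Set.ncard_coe_finset, List.toFinset_card_of_nodup (pts_nodup.filter _), List.countP_eq_length_filter]

theorem rep_shape : pts.all (fun P => two (rep P) == two P && (full (rep P) == full P)) = true := by
  decide +kernel

theorem mem_reps {v : Vec} : v ∈ reps ↔ v ∈ pts ∧ rep v = v := by simp [reps, veq_iff]

theorem mem_fullReps {v : Vec} : v ∈ fullReps ↔ v ∈ reps ∧ full v = true := by simp [fullReps]

theorem mem_blk {r v : Vec} : v ∈ blk r ↔ v ∈ pts ∧ rep v = r := by simp [blk, veq_iff]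

theorem rep_spec {v : Vec} (hv : v ∈ pts) : rep v ∈ reps ∧ two (rep v) = two v ∧ full (rep v) = full v ∧
    (two v = true ∨ quad v = true ∨ full v = true) ∧ prd (dd v) = 1 ∧ dmul (dd v) (rep v) = v := by
  have h := all_pts orbit_ok hv
  have h' := all_pts rep_shape hv
  simp only [Bool.and_eq_true, Bool.or_eq_true, keq, decide_eq_true_eq, veq_iff, beq_iff_eq] at h h'
  obtain ⟨⟨⟨⟨h1, h2⟩, h3⟩, h4⟩, h5⟩ := h
  exact ⟨mem_reps.2 ⟨mem_pts.2 h3, h5⟩, h'.1, h'.2, or_assoc.1 h4, h1, h2⟩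

attribute [local irreducible] pts blk reps fullReps rep tmv comb two quad full dmul dd

/-- A closed invariant set. -/
structure InvSet (S : Set Vec) : Prop where
  sub : ∀ v ∈ S, v ∈ pts
  inv : ∀ d, prd d = 1 → ∀ v ∈ pts, v ∈ S → dmul d v ∈ S
  closed : ∀ p ∈ S, ∀ q ∈ S, orth p q = false → tmv p q ∈ S
  nocol : ∀ p ∈ S, ∀ q ∈ S, p ≠ q → orth p q = true → ∀ a : K, a ≠ 0 → comb p a q ∉ S
  big : 45 < S.ncard

theorem dmul_inv_pts : ∀ a : K, a ≠ 0 → a⁻¹ * a = 1 ∧ a * a⁻¹ = 1 := by decide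

theorem dinv_ok : pts.all (fun P =>
    veq (dmul (fun i => (dd P i)⁻¹) P) (rep P) && keq (prd fun i => (dd P i)⁻¹) 1) = true := by
  decide +kernel

namespace InvSet

variable {S : Set Vec} (hS : InvSet S)
include hS

theorem rep_mem {v : Vec} (hv : v ∈ S) : rep v ∈ S := by
  have h := all_pts dinv_ok (hS.sub v hv)
  simp only [Bool.and_eq_true, keq, decide_eq_true_eq, veq_iff] at h
  exact h.1 ▸ hS.inv _ h.2 v (hS.sub v hv) hv

theorem of_rep {v : Vec} (hv : v ∈ pts) (h : rep v ∈ S) : v ∈ S := by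
  obtain ⟨h1, -, -, -, h5, h6⟩ := rep_spec hv
  exact h6 ▸ hS.inv _ h5 _ (hS.sub _ h) h

theorem not_quad {r : Vec} (hr : r ∈ reps) (hrS : r ∈ S) : quad r = false := by
  by_contra hq
  have h := List.all_eq_true.1 quad_bad r hr
  simp only [Bool.not_eq_false] at hq
  simp only [hq, Bool.not_true, Bool.false_or, List.any_eq_true, Bool.and_eq_true,
    Bool.not_eq_true', mem_blk] at h
  obtain ⟨q', ⟨hq', hrep⟩, ho, -, e, ⟨he, herep⟩, ⟨heo, hene⟩, a, ha, hpt, hc⟩ := h
  have hq'S : q' ∈ S := hS.of_rep hq' (hrep ▸ hrS)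
  have htS := hS.rep_mem (hS.closed r hrS q' hq'S ho)
  have heS : e ∈ S := hS.of_rep he (herep ▸ htS)
  have hne : r ≠ e := fun h => by
    rw [h, veq_self] at hene
    exact Bool.noConfusion hene
  have ha0 : a ≠ 0 := by
    simp only [List.mem_cons, List.not_mem_nil, or_false] at ha
    rcases ha with rfl | rfl | rfl <;> decide
  exact hS.nocol r hrS e heS hne heo a ha0 (hS.of_rep (mem_pts.2 hpt) (by
    rw [veq_iff.1 hc]; exact hrS))

theorem pairs_of_full {r : Vec} (hr : r ∈ fullReps) (hrS : r ∈ S) {p : Vec} (hp : p ∈ pts)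
    (h2 : two p = true) : p ∈ S := by
  obtain ⟨h1, h12, -⟩ := rep_spec hp
  have h := List.all_eq_true.1 (List.all_eq_true.1 full_gives_pairs r hr) _ h1
  simp only [h12, h2, Bool.not_true, Bool.false_or, List.any_eq_true, Bool.and_eq_true,
    Bool.not_eq_true', mem_blk, veq_iff] at h
  obtain ⟨q', ⟨hq', hrep⟩, ho, hc⟩ := h
  exact hS.of_rep hp (hc ▸ hS.rep_mem (hS.closed r hrS q' (hS.of_rep hq' (hrep ▸ hrS)) ho))

/-- A closed invariant set consists of the points of weight two and one further orbit. -/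
theorem shape : ∃ r ∈ fullReps, ∀ v ∈ pts, (v ∈ S ↔ two v = true ∨ rep v = r) := by
  classical
  have hshape : ∀ v ∈ S, two v = true ∨ (full v = true ∧ rep v ∈ fullReps) := by
    intro v hv
    obtain ⟨h1, h2, h3, -⟩ := rep_spec (hS.sub v hv)
    have hnq := hS.not_quad h1 (hS.rep_mem hv)
    rcases (rep_spec (hS.sub _ (hS.rep_mem hv))).2.2.2.1 with h | h | h
    · exact Or.inl (h2 ▸ h)
    · rw [hnq] at h; exact Bool.noConfusion h
    · exact Or.inr ⟨h3 ▸ h, mem_fullReps.2 ⟨h1, h⟩⟩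
  obtain ⟨v₀, hv₀, hn₀⟩ : ∃ v ∈ S, two v = false := by
    by_contra hno
    push Not at hno
    have h1 : S.ncard ≤ 45 := by
      rw [← two_count, ← ncard_pts]
      exact Set.ncard_le_ncard (fun v hv => ⟨hS.sub v hv, by simpa using hno v hv⟩)
        ((pts.toFinset : Finset Vec).finite_toSet.subset fun v hv => by simpa using hv.1)
    have := hS.big
    omega
  obtain ⟨-, hr⟩ := (hshape v₀ hv₀).resolve_left (by simp [hn₀])
  set r := rep v₀
  have hrS : r ∈ S := hS.rep_mem hv₀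
  refine ⟨r, hr, fun v hv => ⟨fun hvS => ?_, fun h => h.elim (hS.pairs_of_full hr hrS hv)
    (fun h => hS.of_rep hv (h ▸ hrS))⟩⟩
  refine (hshape v hvS).imp_right fun ⟨_, hv'⟩ => ?_
  by_contra hne
  have hr'S := hS.rep_mem hvS
  have h := List.all_eq_true.1 (List.all_eq_true.1 full_third r hr) _ hv'
  simp only [Bool.or_eq_true, veq_iff, List.any_eq_true, Bool.and_eq_true, Bool.not_eq_true',
    mem_blk] at h
  obtain ⟨q', ⟨hq', hrep⟩, ho, hf, hn1, hn2⟩ := h.resolve_left (fun e => hne e.symm)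
  have htS0 := hS.closed r hrS q' (hS.of_rep hq' (hrep ▸ hr'S)) ho
  have htS := hS.rep_mem htS0
  obtain ⟨ht1, -, ht3, -⟩ := rep_spec (hS.sub _ htS0)
  have ht : rep (tmv r q') ∈ fullReps := mem_fullReps.2 ⟨ht1, by rw [ht3]; exact hf⟩
  have hn1' : rep (tmv r q') ≠ r := fun e => by rw [e, veq_self] at hn1; exact Bool.noConfusion hn1
  have hn2' : rep (tmv r q') ≠ rep v := fun e => by rw [e, veq_self] at hn2; exact Bool.noConfusion hn2
  have hthree : ∀ x ∈ fullReps, x ∈ S := by
    have hmem : ∀ y ∈ fullReps,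
        y = mk6 1 1 1 1 1 1 ∨ y = mk6 1 1 1 1 1 om ∨ y = mk6 1 1 1 1 1 (om + 1) := by
      intro y hy
      simpa [veq_iff, or_assoc] using List.all_eq_true.1 fullReps_eq y hy
    intro x hx
    rcases hmem r hr with a | a | a <;> rcases hmem _ hv' with b | b | b <;>
      rcases hmem _ ht with c | c | c <;> rcases hmem x hx with e | e | e <;>
      first
      | exact absurd (b.trans a.symm) hne
      | exact absurd (c.trans a.symm) hn1'
      | exact absurd (c.trans b.symm) hn2'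
      | exact e ▸ a ▸ hrS
      | exact e ▸ b ▸ hr'S
      | exact e ▸ c ▸ htS
  obtain ⟨q, hq, hrest⟩ := List.any_eq_true.1 full_line
  simp only [Bool.and_eq_true, List.any_eq_true] at hrest
  obtain ⟨⟨hqf, hqo⟩, a, ha, hpt, hcf⟩ := hrest
  have hfr : ∀ x ∈ pts, full x = true → x ∈ S := fun x hx hxf => by
    obtain ⟨x1, -, x3, -⟩ := rep_spec hx
    exact hS.of_rep hx (hthree _ (mem_fullReps.2 ⟨x1, by rw [x3]; exact hxf⟩))
  have h12 : p12 ∈ pts := mem_pts.2 (by decide +kernel)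
  have hne12 : q ≠ p12 := fun e => by
    rw [e] at hqf
    exact absurd hqf (by decide +kernel)
  refine hS.nocol q (hfr q hq hqf) p12 (hS.pairs_of_full hr hrS h12 (by decide +kernel)) hne12 hqo a ?_
    (hfr _ (mem_pts.2 hpt) hcf)
  simp only [List.mem_cons, List.not_mem_nil, or_false] at ha
  rcases ha with rfl | rfl | rfl <;> decide

theorem ncard_eq : S.ncard = 126 := by
  obtain ⟨r, hr, h⟩ := hS.shape
  have e : S = {v | v ∈ pts ∧ (two v || veq (rep v) r) = true} := by
    ext v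
    simp only [Set.mem_ofPred_eq, Bool.or_eq_true, veq_iff]
    exact ⟨fun hv => ⟨hS.sub v hv, (h v (hS.sub v hv)).1 hv⟩, fun ⟨hv, hh⟩ => (h v hv).2 hh⟩
  rw [e, ncard_pts]
  simpa using List.all_eq_true.1 class_count r hr

end InvSet

end CfsgLib.Sporadic.MTwentyTwo
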