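import Cfsg.Agent.Lib.Sporadic.MTwentyTwo.Model

/-!
# Decidable facts on the orbits of the diagonal group
-/

set_option autoImplicit false

namespace CfsgLib.Sporadic.MTwentyTwo

/-- The product of the coordinates. -/
def prd (v : Vec) : K := v 0 * (v 1 * (v 2 * (v 3 * (v 4 * v 5))))

/-- Whether every coordinate is non-zero. -/
def full (v : Vec) : Bool := !keq (prd v) 0

/-- Multiplication by a diagonal matrix. -/
def dmul (d v : Vec) : Vec := nz (mk6 (d 0 * v 0) (d 1 * v 1) (d 2 * v 2) (d 3 * v 3) (d 4 * v 4) (d 5 * v 5))

/-- One on the support. -/
def ind (a : K) : K := if a = 0 then 0 else 1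

/-- The representative of the orbit of the diagonal group of determinant one. -/
def rep (v : Vec) : Vec :=
  if full v = true then mk6 1 1 1 1 1 (prd v)
  else mk6 (ind (v 0)) (ind (v 1)) (ind (v 2)) (ind (v 3)) (ind (v 4)) (ind (v 5))

/-- The number of non-zero coordinates, as an indicator of weight two. -/
def two (v : Vec) : Bool :=
  ([v 0, v 1, v 2, v 3, v 4, v 5].filter fun a => !keq a 0).length == 2

/-- The weight four points. -/
def quad (v : Vec) : Bool :=
  ([v 0, v 1, v 2, v 3, v 4, v 5].filter fun a => !keq a 0).length == 4

/-- The other coordinates of a diagonal element moving a representative to `v`. -/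
def dd (v : Vec) : Vec :=
  let u : Vec := fun i => if v i = 0 then 1 else v i
  if full v = true then mk6 (v 0) (v 1) (v 2) (v 3) (v 4) ((v 0 * (v 1 * (v 2 * (v 3 * v 4))))⁻¹)
  else
    let c := (prd u)⁻¹
    if v 0 = 0 then mk6 c (u 1) (u 2) (u 3) (u 4) (u 5)
    else if v 1 = 0 then mk6 (u 0) c (u 2) (u 3) (u 4) (u 5)
    else if v 2 = 0 then mk6 (u 0) (u 1) c (u 3) (u 4) (u 5)
    else if v 3 = 0 then mk6 (u 0) (u 1) (u 2) c (u 4) (u 5)
    else if v 4 = 0 then mk6 (u 0) (u 1) (u 2) (u 3) c (u 5)
    else mk6 (u 0) (u 1) (u 2) (u 3) (u 4) c

theorem orbit_ok : pts.all (fun P =>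
    keq (prd (dd P)) 1 && veq (dmul (dd P) (rep P)) P && isPt (rep P) &&
      (two P || quad P || full P) && (veq (rep (rep P)) (rep P))) = true := by decide +kernel

/-- The points with a given representative. -/
def blk (r : Vec) : List Vec := pts.filter fun P => veq (rep P) r

/-- The representatives. -/
def reps : List Vec := pts.filter fun P => veq (rep P) P

/-- The three full representatives. -/
def fullReps : List Vec := reps.filter fun r => full r

theorem quad_bad : reps.all (fun r => !quad r ||
    ((blk r).any fun q' => !orth r q' &&
      (two (tmv r q') && ((blk (rep (tmv r q'))).any fun e => orth r e && !veq r e &&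
        ([1, om, om + 1].any fun a => isPt (comb r a e) && veq (rep (comb r a e)) r))))) = true := by decide +kernel

theorem full_gives_pairs : fullReps.all (fun r => reps.all fun p => !two p ||
    ((blk r).any fun q' => !orth r q' && veq (rep (tmv r q')) p)) = true := by decide +kernel

theorem full_third : fullReps.all (fun r => fullReps.all fun r' => veq r r' ||
    ((blk r').any fun q' => !orth r q' &&
      (full (tmv r q') && (!veq (rep (tmv r q')) r && !veq (rep (tmv r q')) r')))) = true := by
  decide +kernel

theorem full_line : (pts.any fun q => full q && orth q p12 &&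
    ([1, om, om + 1].any fun a => isPt (comb q a p12) && full (comb q a p12))) = true := by decide +kernel

theorem fullReps_eq : fullReps.all (fun r =>
    veq r (mk6 1 1 1 1 1 1) || veq r (mk6 1 1 1 1 1 om) || veq r (mk6 1 1 1 1 1 (om + 1))) = true := by
  decide +kernel

theorem two_count : (pts.countP fun P => two P) = 45 := by decide +kernel

theorem class_count : fullReps.all (fun r => (pts.countP fun P => two P || veq (rep P) r) == 126) = true := by
  decide +kernel

/-- Multiplication by a diagonal matrix of determinant not one moves every class. -/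
theorem diag_moves : fullReps.all (fun r =>
    veq (rep (dmul (mk6 om 1 1 1 1 1) r)) r == false &&
      veq (rep (dmul (mk6 (om + 1) 1 1 1 1 1) r)) r == false) = true := by decide +kernel

/-- The coordinatewise field automorphism. -/
def cj0 (v : Vec) : Vec := mk6 (v 0 * v 0) (v 1 * v 1) (v 2 * v 2) (v 3 * v 3) (v 4 * v 4) (v 5 * v 5)

theorem conj_class : fullReps.all (fun r => veq (rep (cj0 r)) r == veq r pj) = true := by decide +kernel

/-- The field automorphism after the transvection of the all-one vector. -/
def sg (v : Vec) : Vec := cj0 (tmv pj v)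

/-- The fixed points of `sg`. -/
def fixd (v : Vec) : Bool := veq (sg v) v

/-- The invariant set. -/
def inS0 (v : Vec) : Bool := two v || veq (rep v) pj

theorem fix_count : (pts.countP fun P => fixd P) = 63 := by decide +kernel

theorem fix_perp_count : (pts.countP fun P => fixd P && (orth P pj && !veq P pj)) = 30 := by decide +kernel

theorem fix_S_count : (pts.countP fun P => inS0 P && fixd P) = 36 := by decide +kernel

theorem fix_S_perp : (pts.countP fun P => inS0 P && (fixd P && (orth P pj && !veq P pj))) = 15 := by
  decide +kernel

theorem fix_connected : pts.all (fun P => !fixd P || (veq P pj || (!orth P pj ||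
    pts.any fun Q => fixd Q && (!orth P Q && !orth Q pj)))) = true := by decide +kernel

theorem fix_misc : (isPt pj && fixd pj && fixd p12 && orth p12 pj && fixd (comb pj 1 p12) &&
    !fixd (comb pj om p12) && inS0 p12 && inS0 pj) = true := by decide +kernel

/-- A set of pairwise orthogonal points of largest size. -/
def plane : List Vec := pts.filter fun P => keq (P 0) (P 1) && (keq (P 2) (P 3) && keq (P 4) (P 5))

theorem plane_ok : (plane.length == 21 && plane.all fun P => plane.all fun Q => orth P Q) = true := by
  decide +kernel

end CfsgLib.Sporadic.MTwentyTwo
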