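import Cfsg.Agent.Lib.Sporadic.MTwentyTwo.Model

/-!
# Two sets of six transvections with product one
-/

set_option autoImplicit false

namespace CfsgLib.Sporadic.MTwentyTwo

/-- The three common points. -/
def six0 : List Vec := [mk6 0 0 0 0 1 1, mk6 0 0 1 1 0 0, mk6 1 1 0 0 0 0]

/-- Six points. -/
def sixA : List Vec :=
  six0 ++ [mk6 1 1 1 1 1 1, mk6 1 1 om om (om + 1) (om + 1), mk6 1 1 (om + 1) (om + 1) om om]

@[inherit_doc sixA] def sixB : List Vec :=
  six0 ++ [mk6 1 1 1 1 om om, mk6 1 1 om om 1 1, mk6 1 1 (om + 1) (om + 1) (om + 1) (om + 1)]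

/-- The checks on a set of six. -/
def sixK (L : List Vec) : Bool :=
  L.all (fun v => isPt v) && L.all (fun v => L.all fun w => orth v w) &&
    (List.finRange 6).all (fun i => (List.finRange 6).all fun j =>
      keq ((L.map fun v => v i * (v j * v j)).sum) 0)

theorem six_ok : (sixK sixA && sixK sixB &&
    (decide (sixA.Nodup) && decide (sixB.Nodup)) &&
    !(sixB.any fun w => veq w (mk6 1 1 1 1 1 1))) = true := by decide +kernel

end CfsgLib.Sporadic.MTwentyTwo
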