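import Cfsg.Agent.Lib.Sporadic.MTwentyTwo.Outer
import Cfsg.Agent.Lib.Sporadic.MTwentyTwo.SixData
import Cfsg.Agent.S5361
import Cfsg.Prelude.Def_CaseTheorems

/-!
# Simplicity of a group of type M(22)
-/

set_option autoImplicit false
set_option linter.unusedSectionVars false

namespace CfsgLib.Sporadic.MTwentyTwo

open Matrix CfsgLib.Sporadic.FischerTransitivity CfsgLib.Sporadic.FischerRankThree
open CfsgLib.Sporadic.U62Lift (hf mat tr mat_tr mat_ext hf_add_left hf_smul_left mat_mul mat_one hf_eq_zero_symm)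
open scoped commutatorElement

attribute [local irreducible] pts tp orth veq comb tmv dmul sp

theorem sum_smul_apply (x : Vec) (i : Fin 6) :
    ∀ L : List Vec, ((L.map fun v => hf x v • v).sum) i =
      ∑ j, x j * (L.map fun v => v i * (v j * v j)).sum := by
  intro L
  induction L with
  | nil => simp
  | cons v t ih =>
    simp only [List.map_cons, List.sum_cons, Pi.add_apply, Pi.smul_apply, smul_eq_mul, ih, mul_add,
      Finset.sum_add_distrib, hf, Cfsg.hermForm, Finset.sum_mul]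
    congr 1
    exact Finset.sum_congr rfl fun j _ => by ring

theorem mat_prod (x : Vec) : ∀ L : List Vec, (∀ v ∈ L, v ∈ pts) → (∀ v ∈ L, ∀ w ∈ L, hf v w = 0) →
    mat ((L.map (tr hK)).prod) *ᵥ x = x + (L.map fun v => hf x v • v).sum := by
  intro L
  induction L with
  | nil => intro _ _; simp [mat_one]
  | cons v t ih =>
    intro h1 h2
    have hv := iso_of_mem (h1 v List.mem_cons_self)
    have hsum : ∀ l : List Vec, (∀ w ∈ l, hf w v = 0) → hf ((l.map fun w => hf x w • w).sum) v = 0 := by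
      intro l
      induction l with
      | nil => intro _; simp [hf, Cfsg.hermForm]
      | cons w s ihs =>
        intro h
        rw [List.map_cons, List.sum_cons, hf_add_left, hf_smul_left, h w List.mem_cons_self, mul_zero, zero_add]
        exact ihs fun u hu => h u (List.mem_cons_of_mem _ hu)
    rw [List.map_cons, List.prod_cons, mat_mul, ih (fun w hw => h1 w (List.mem_cons_of_mem _ hw))
      (fun u hu w hw => h2 u (List.mem_cons_of_mem _ hu) w (List.mem_cons_of_mem _ hw)), mat_tr hK hv,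
      hf_add_left, hsum t (fun w hw => h2 w (List.mem_cons_of_mem _ hw) v List.mem_cons_self), add_zero,
      List.map_cons, List.sum_cons]
    abel

/-- The product of a checked set of six transvections is one. -/
theorem six_prod {L : List Vec} (h : sixK L = true) :
    (∀ v ∈ L, v ∈ pts) ∧ (∀ v ∈ L, ∀ w ∈ L, orth v w = true) ∧ (L.map tp).prod = 1 := by
  simp only [sixK, Bool.and_eq_true, List.all_eq_true, keq, decide_eq_true_eq] at h
  obtain ⟨⟨h1, h2⟩, h3⟩ := h
  have hp : ∀ v ∈ L, v ∈ pts := fun v hv => mem_pts.2 (h1 v hv)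
  refine ⟨hp, h2, ?_⟩
  have e : (L.map (tr hK)).prod = 1 := by
    refine mat_ext fun x => ?_
    rw [mat_prod x L hp (fun v hv w hw => orth_iff.1 (h2 v hv w hw)), mat_one, add_eq_left]
    funext i
    rw [sum_smul_apply]
    simp [fun j => h3 i (List.mem_finRange i) j (List.mem_finRange j)]
  have e2 : (L.map tp) = (L.map (tr hK)).map (QuotientGroup.mk' _) := by
    rw [List.map_map]
    exact List.map_congr_left fun v _ => by with_unfolding_all rfl
  rw [e2, ← map_list_prod, e, map_one]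

variable {G : Type*} [Group G] [Finite G] {D : Set G} (ctx : Ctx D)
include ctx

namespace Ctx

variable {d : G} (hd : d ∈ D)
include hd

/-- The group generated by the neighbours of a member is perfect. -/
theorem HG_perfect : commutator (HG D d) = ⊤ := by
  classical
  obtain ⟨π, hπ⟩ := ctx.exists_pi hd
  have := simple_P
  set dd : HG D d := ⟨d, ctx.self_mem_HG hd⟩ with hdd
  -- the commutator subgroup covers the simple group
  have hcov : ∀ h : HG D d, h ∈ commutator (HG D d) ∨ dd⁻¹ * h ∈ commutator (HG D d) := by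
    intro h
    have hP : commutator P = ⊤ := (Subgroup.Normal.eq_bot_or_eq_top inferInstance).resolve_left fun e =>
      P_noncomm ⟨⟨fun a b => by
        have hm : ⁅a, b⁆ ∈ commutator P :=
          Subgroup.commutator_mem_commutator (Subgroup.mem_top a) (Subgroup.mem_top b)
        rw [e, Subgroup.mem_bot, commutatorElement_eq_one_iff_mul_comm] at hm
        exact hm⟩⟩
    have hm : π h ∈ (commutator (HG D d)).map π := by
      rw [commutator_def, Subgroup.map_commutator, Subgroup.map_top_of_surjective π hπ.surj, ← commutator_def, hP]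
      exact Subgroup.mem_top _
    obtain ⟨k, hk, e⟩ := hm
    have hz : π (h * k⁻¹) = 1 := by rw [map_mul, map_inv, e, mul_inv_cancel]
    rcases ctx.center_mem hd hπ (h * k⁻¹).2 (by rw [pf_eq π (h * k⁻¹).2]; exact hz) with e1 | e1
    · exact Or.inl (by rw [mul_inv_eq_one.1 (Subtype.ext e1 : h * k⁻¹ = 1)]; exact hk)
    · refine Or.inr ?_
      rw [show h = dd * k from mul_inv_eq_iff_eq_mul.1 (Subtype.ext e1 : h * k⁻¹ = dd), inv_mul_cancel_left]
      exact hk
  by_contra hne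
  have hd0 : dd ∉ commutator (HG D d) := fun hm => hne (eq_top_iff.2 fun h _ => by
    rcases hcov h with h1 | h1
    · exact h1
    · simpa using mul_mem hm h1)
  -- every neighbour lies in the coset of `d`
  let q : HG D d →* Abelianization (HG D d) := Abelianization.of
  have hq : ∀ h, q h = 1 ↔ h ∈ commutator (HG D d) := fun h => by
    rw [← MonoidHom.mem_ker, show q.ker = commutator (HG D d) from Abelianization.ker_of _]
  have hqd : q dd * q dd = 1 := by
    rw [← map_mul, show dd * dd = 1 from Subtype.ext (FischerTransitivity.sq ctx.hD hd), map_one]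
  have hall : ∀ x (hx : x ∈ Nb D d), q ⟨x, mem_HG hx⟩ = q dd := by
    obtain ⟨x0, hx0⟩ : (Nb D d).Nonempty :=
      Set.nonempty_of_ncard_ne_zero (by rw [ctx.card_nb hd]; norm_num)
    have heq : ∀ x (hx : x ∈ Nb D d), q ⟨x, mem_HG hx⟩ = q ⟨x0, mem_HG hx0⟩ := by
      intro x hx
      obtain ⟨g, hg, e⟩ := exists_conj ctx.hD ctx.hclass ctx.hperf ctx.hsol hd hx0 hx
      rw [show (⟨x, mem_HG hx⟩ : HG D d) = ⟨g, hg⟩ * ⟨x0, mem_HG hx0⟩ * ⟨g, hg⟩⁻¹ from Subtype.ext e.symm,
        map_mul, map_mul, map_inv, mul_comm (q ⟨g, hg⟩), mul_inv_cancel_right]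
    intro x hx
    rcases hcov ⟨x, mem_HG hx⟩ with h | h
    · exfalso
      refine hd0 ((hq _).1 ?_)
      have : ∀ h : HG D d, q h = 1 := by
        rintro ⟨u, hh⟩
        induction hh using Subgroup.closure_induction with
        | mem y hy => rw [heq y hy, ← heq x hx]; exact (hq _).2 h
        | one => exact map_one q
        | mul a b ha hb iha ihb =>
          rw [show (⟨a * b, mul_mem ha hb⟩ : HG D d) = ⟨a, ha⟩ * ⟨b, hb⟩ from rfl, map_mul, iha, ihb, one_mul]
        | inv a ha iha =>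
          rw [show (⟨a⁻¹, inv_mem ha⟩ : HG D d) = ⟨a, ha⟩⁻¹ from rfl, map_inv, iha, inv_one]
      exact this dd
    · have := (hq _).2 h
      rw [map_mul, map_inv, inv_mul_eq_one] at this
      exact this.symm
  -- six commuting members with product one
  have lift : ∀ v : Vec, ∃ x, v ∈ pts → x ∈ Nb D d ∧ pf π x = tp v := fun v => by
    by_cases hv : v ∈ pts
    · obtain ⟨x, hx, e⟩ := ctx.pf_surj hd hπ (mem_TP hv)
      exact ⟨x, fun _ => ⟨hx, e⟩⟩
    · exact ⟨1, fun h => absurd h hv⟩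
  choose lf hlf using lift
  have hprod : ∀ a b c e g k : Vec, sixK [a, b, c, e, g, k] = true →
      lf a * lf b * lf c * lf e * lf g * lf k = 1 := by
    intro a b c e g k h
    obtain ⟨hp, -, hpr⟩ := six_prod h
    simp only [List.mem_cons, List.not_mem_nil, or_false, forall_eq_or_imp, forall_eq] at hp
    obtain ⟨ha, hb, hc, he, hg, hk⟩ := hp
    have na := (hlf a ha).1; have nb := (hlf b hb).1; have nc := (hlf c hc).1
    have ne' := (hlf e he).1; have ng := (hlf g hg).1; have nk := (hlf k hk).1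
    have m2 := mul_mem (mem_HG na) (mem_HG nb)
    have m3 := mul_mem m2 (mem_HG nc)
    have m4 := mul_mem m3 (mem_HG ne')
    have m5 := mul_mem m4 (mem_HG ng)
    have m6 := mul_mem m5 (mem_HG nk)
    have h1 : pf π (lf a * lf b * lf c * lf e * lf g * lf k) = 1 := by
      rw [pf_mul π m5 (mem_HG nk), pf_mul π m4 (mem_HG ng), pf_mul π m3 (mem_HG ne'), pf_mul π m2 (mem_HG nc),
        pf_mul π (mem_HG na) (mem_HG nb), (hlf a ha).2, (hlf b hb).2, (hlf c hc).2, (hlf e he).2, (hlf g hg).2,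
        (hlf k hk).2]
      simpa [mul_assoc] using hpr
    refine (ctx.center_mem hd hπ m6 h1).resolve_right fun heq => hd0 ((hq dd).1 ?_)
    rw [show dd = (⟨lf a, mem_HG na⟩ * ⟨lf b, mem_HG nb⟩ * ⟨lf c, mem_HG nc⟩ * ⟨lf e, mem_HG ne'⟩ *
      ⟨lf g, mem_HG ng⟩ * ⟨lf k, mem_HG nk⟩ : HG D d) from Subtype.ext heq.symm]
    rw [map_mul, map_mul, map_mul, map_mul, map_mul, hall _ na, hall _ nb, hall _ nc, hall _ ne', hall _ ng,
      hall _ nk]
    rw [hqd, one_mul, hqd, one_mul, hqd]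
  -- two sets of six with three common members
  have hok := six_ok
  simp only [Bool.and_eq_true, decide_eq_true_eq, Bool.not_eq_true'] at hok
  obtain ⟨⟨⟨hA, hB⟩, hAn, hBn⟩, hcB⟩ := hok
  set a : Vec := mk6 0 0 0 0 1 1
  set b : Vec := mk6 0 0 1 1 0 0
  set c : Vec := mk6 1 1 0 0 0 0
  obtain ⟨hAp, hAo, -⟩ := six_prod hA
  obtain ⟨hBp, hBo, -⟩ := six_prod hB
  have ha : a ∈ pts := hAp a (by simp [sixA, six0, a])
  have hNa := (hlf a ha).1
  obtain ⟨ρ, hρ⟩ := ctx.exists_pi hNa.1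
  have hnb : ∀ L : List Vec, (∀ v ∈ L, v ∈ pts) → (∀ v ∈ L, ∀ w ∈ L, orth v w = true) → a ∈ L →
      ∀ v ∈ L, v ≠ a → lf v ∈ Nb D (lf a) := by
    intro L hLp hLo haL v hv hne
    refine ⟨(hlf v (hLp v hv)).1.1, fun h => hne (tp_inj (hLp v hv) ha ?_), ?_⟩
    · rw [← (hlf v (hLp v hv)).2, h, (hlf a ha).2]
    · rw [← ctx.commute_iff hd hπ hNa (hlf v (hLp v hv)).1, (hlf a ha).2, (hlf v (hLp v hv)).2,
        tp_commute_iff ha (hLp v hv)]
      exact hLo a haL v hv
  -- five neighbours of the first member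
  have five : ∀ L : List Vec, L.Nodup → (∀ v ∈ L, v ∈ pts) → (∀ v ∈ L, ∀ w ∈ L, orth v w = true) →
      ∀ p r s t u, L = [a, p, r, s, t, u] → lf a * lf p * lf r * lf s * lf t * lf u = 1 →
      ∀ Y : List P, (∀ x y z : P, x ∈ TP → y ∈ TP → z ∈ TP → [pf ρ (lf p), pf ρ (lf r), x, y, z].Nodup →
        (∀ i ∈ [pf ρ (lf p), pf ρ (lf r), x, y, z], ∀ j ∈ [pf ρ (lf p), pf ρ (lf r), x, y, z], Commute i j) →
        pf ρ (lf p) * pf ρ (lf r) * (x * y * z) = 1 → x ∈ Y) →
      pf ρ (lf s) ∈ Y ∧ pf ρ (lf t) ∈ Y ∧ pf ρ (lf u) ∈ Y := by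
    intro L hnd hLp hLo p r s t u hL hone Y huniq
    subst hL
    simp only [List.nodup_cons, List.mem_cons, List.not_mem_nil, or_false, not_or, List.nodup_nil, and_true,
      not_false_eq_true] at hnd
    obtain ⟨⟨nap, nar, nas, nat', nau⟩, ⟨npr, nps, npt, npu⟩, ⟨nrs, nrt, nru⟩, ⟨nst, nsu⟩, ntu⟩ := hnd
    have N := hnb _ hLp hLo List.mem_cons_self
    have Np := N p (by simp) (Ne.symm nap)
    have Nr := N r (by simp) (Ne.symm nar)
    have Ns := N s (by simp) (Ne.symm nas)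
    have Nt := N t (by simp) (Ne.symm nat')
    have Nu := N u (by simp) (Ne.symm nau)
    have inj : ∀ {v w : Vec}, v ∈ [a, p, r, s, t, u] → w ∈ [a, p, r, s, t, u] →
        lf v ∈ Nb D (lf a) → lf w ∈ Nb D (lf a) → v ≠ w → pf ρ (lf v) ≠ pf ρ (lf w) := by
      intro v w hv hw Nv Nw hne h
      refine hne (tp_inj (hLp v hv) (hLp w hw) ?_)
      rw [← (hlf v (hLp v hv)).2, ctx.pf_inj hNa.1 hρ Nv Nw h, (hlf w (hLp w hw)).2]
    have com : ∀ {v w : Vec}, v ∈ [a, p, r, s, t, u] → w ∈ [a, p, r, s, t, u] →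
        lf v ∈ Nb D (lf a) → lf w ∈ Nb D (lf a) → Commute (pf ρ (lf v)) (pf ρ (lf w)) := by
      intro v w hv hw Nv Nw
      rw [ctx.commute_iff hNa.1 hρ Nv Nw, ← ctx.commute_iff hd hπ (hlf v (hLp v hv)).1 (hlf w (hLp w hw)).1,
        (hlf v (hLp v hv)).2, (hlf w (hLp w hw)).2, tp_commute_iff (hLp v hv) (hLp w hw)]
      exact hLo v hv w hw
    have hprod' : pf ρ (lf p) * pf ρ (lf r) * (pf ρ (lf s) * pf ρ (lf t) * pf ρ (lf u)) = 1 := by
      have m2 := mul_mem (mem_HG Np) (mem_HG Nr)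
      have m3 := mul_mem (mul_mem (mem_HG Ns) (mem_HG Nt)) (mem_HG Nu)
      rw [← pf_mul ρ (mem_HG Ns) (mem_HG Nt), ← pf_mul ρ (mul_mem (mem_HG Ns) (mem_HG Nt)) (mem_HG Nu),
        ← pf_mul ρ (mem_HG Np) (mem_HG Nr), ← pf_mul ρ m2 m3]
      have e : lf p * lf r * (lf s * lf t * lf u) = lf a := by
        rw [show lf a * lf p * lf r * lf s * lf t * lf u = lf a * (lf p * lf r * (lf s * lf t * lf u)) by group]
          at hone
        rw [eq_inv_of_mul_eq_one_right hone, inv_eq ctx.hD hNa.1]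
      rw [e, pf_eq ρ (ctx.self_mem_HG hNa.1), ← MonoidHom.mem_ker, hρ.ker, Subgroup.mem_center_iff]
      exact fun w => Subtype.ext (HG_commute w.2).eq.symm
    have key : ∀ {x y z : Vec}, x ∈ [a, p, r, s, t, u] → y ∈ [a, p, r, s, t, u] → z ∈ [a, p, r, s, t, u] →
        lf x ∈ Nb D (lf a) → lf y ∈ Nb D (lf a) → lf z ∈ Nb D (lf a) → [p, r, x, y, z].Nodup →
        pf ρ (lf p) * pf ρ (lf r) * (pf ρ (lf x) * pf ρ (lf y) * pf ρ (lf z)) = 1 → pf ρ (lf x) ∈ Y := by
      intro x y z hx hy hz Nx Ny Nz hnd' hpr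
      have hmem : ∀ v ∈ [p, r, x, y, z], v ∈ [a, p, r, s, t, u] ∧ lf v ∈ Nb D (lf a) := by
        intro v hv
        simp only [List.mem_cons, List.not_mem_nil, or_false] at hv
        rcases hv with rfl | rfl | rfl | rfl | rfl
        · exact ⟨by simp, Np⟩
        · exact ⟨by simp, Nr⟩
        · exact ⟨hx, Nx⟩
        · exact ⟨hy, Ny⟩
        · exact ⟨hz, Nz⟩
      refine huniq _ _ _ (ctx.pf_mem hNa.1 hρ Nx) (ctx.pf_mem hNa.1 hρ Ny) (ctx.pf_mem hNa.1 hρ Nz) ?_ ?_ hpr
      · exact List.Nodup.map_on (f := fun v => pf ρ (lf v)) (fun v hv w hw h => by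
          by_contra hne
          exact inj (hmem v hv).1 (hmem w hw).1 (hmem v hv).2 (hmem w hw).2 hne h) hnd'
      · intro i hi j hj
        have hi' : i ∈ ([p, r, x, y, z].map fun v => pf ρ (lf v)) := hi
        have hj' : j ∈ ([p, r, x, y, z].map fun v => pf ρ (lf v)) := hj
        obtain ⟨v, hv, rfl⟩ := List.mem_map.1 hi'
        obtain ⟨w, hw, rfl⟩ := List.mem_map.1 hj'
        exact com (hmem v hv).1 (hmem w hw).1 (hmem v hv).2 (hmem w hw).2
    have cst := com (v := s) (w := t) (by simp) (by simp) Ns Nt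
    have ctu := com (v := t) (w := u) (by simp) (by simp) Nt Nu
    have csu := com (v := s) (w := u) (by simp) (by simp) Ns Nu
    refine ⟨key (by simp) (by simp) (by simp) Ns Nt Nu ?_ hprod',
      key (x := t) (y := s) (z := u) (by simp) (by simp) (by simp) Nt Ns Nu ?_ (by rwa [← cst.eq]),
      key (x := u) (y := s) (z := t) (by simp) (by simp) (by simp) Nu Ns Nt ?_ ?_⟩
    · simp [npr, nps, npt, npu, nrs, nrt, nru, nst, nsu, ntu]
    · simp [npr, nps, npt, npu, nrs, nrt, nru, nst, nsu, ntu, Ne.symm nst]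
    · simp [npr, nps, npt, npu, nrs, nrt, nru, nst, nsu, ntu, Ne.symm nsu, Ne.symm ntu]
    · rwa [show pf ρ (lf u) * pf ρ (lf s) * pf ρ (lf t) = pf ρ (lf s) * pf ρ (lf t) * pf ρ (lf u) from
        (mul_assoc _ _ _).trans ((csu.symm.mul_right ctu.symm).eq)]
  have hb : b ∈ pts := hAp b (by simp [sixA, six0, b])
  have hc : c ∈ pts := hAp c (by simp [sixA, six0, c])
  have nab : b ≠ a := by decide +kernel
  have nac : c ≠ a := by decide +kernel
  have nbc : b ≠ c := by decide +kernel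
  have Nb' := hnb sixA hAp hAo (by simp [sixA, six0, a]) b (by simp [sixA, six0, b]) nab
  have Nc' := hnb sixA hAp hAo (by simp [sixA, six0, a]) c (by simp [sixA, six0, c]) nac
  obtain ⟨Y, -, hlen, -, -, -, huniq⟩ := lineFacts_TP.five _ (ctx.pf_mem hNa.1 hρ Nb') _
    (ctx.pf_mem hNa.1 hρ Nc') (fun h => nbc (tp_inj hb hc (by
      rw [← (hlf b hb).2, ctx.pf_inj hNa.1 hρ Nb' Nc' h, (hlf c hc).2])))
    ((ctx.commute_iff hNa.1 hρ Nb' Nc').2 ((ctx.commute_iff hd hπ (hlf b hb).1 (hlf c hc).1).1 (by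
      rw [(hlf b hb).2, (hlf c hc).2, tp_commute_iff hb hc]
      exact hAo b (by simp [sixA, six0, b]) c (by simp [sixA, six0, c]))))
  obtain ⟨hs, -, -⟩ := five sixA hAn hAp hAo b c _ _ _ rfl (hprod _ _ _ _ _ _ hA) Y huniq
  obtain ⟨h1, h2, h3⟩ := five sixB hBn hBp hBo b c _ _ _ rfl (hprod _ _ _ _ _ _ hB) Y huniq
  have hN : ∀ v ∈ sixB, v ≠ a → lf v ∈ Nb D (lf a) := hnb sixB hBp hBo (by simp [sixB, six0, a])
  set s₁ : Vec := mk6 1 1 1 1 om om
  set s₂ : Vec := mk6 1 1 om om 1 1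
  set s₃ : Vec := mk6 1 1 (om + 1) (om + 1) (om + 1) (om + 1)
  have e1 : s₁ ≠ a ∧ s₂ ≠ a ∧ s₃ ≠ a ∧ s₁ ≠ s₂ ∧ s₁ ≠ s₃ ∧ s₂ ≠ s₃ := by decide +kernel
  obtain ⟨a1, a2, a3, d12, d13, d23⟩ := e1
  have m1 : s₁ ∈ sixB := by simp [sixB, s₁]
  have m2 : s₂ ∈ sixB := by simp [sixB, s₂]
  have m3 : s₃ ∈ sixB := by simp [sixB, s₃]
  have hinj : ∀ {v w : Vec}, v ∈ pts → w ∈ pts → lf v ∈ Nb D (lf a) → lf w ∈ Nb D (lf a) →
      pf ρ (lf v) = pf ρ (lf w) → v = w := fun hv hw Nv Nw h =>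
    tp_inj hv hw (by rw [← (hlf _ hv).2, ctx.pf_inj hNa.1 hρ Nv Nw h, (hlf _ hw).2])
  have hnd3 : [pf ρ (lf s₁), pf ρ (lf s₂), pf ρ (lf s₃)].Nodup := by
    simp only [List.nodup_cons, List.mem_cons, List.not_mem_nil, or_false, not_or, List.nodup_nil, and_true,
      not_false_eq_true]
    exact ⟨⟨fun h => d12 (hinj (hBp _ m1) (hBp _ m2) (hN _ m1 a1) (hN _ m2 a2) h),
      fun h => d13 (hinj (hBp _ m1) (hBp _ m3) (hN _ m1 a1) (hN _ m3 a3) h)⟩,
      fun h => d23 (hinj (hBp _ m2) (hBp _ m3) (hN _ m2 a2) (hN _ m3 a3) h)⟩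
  have hsub : [pf ρ (lf s₁), pf ρ (lf s₂), pf ρ (lf s₃)].Subperm Y := hnd3.subperm (by
    intro z hz
    simp only [List.mem_cons, List.not_mem_nil, or_false] at hz
    rcases hz with rfl | rfl | rfl <;> assumption)
  have hs' := (hsub.perm_of_length_le (by rw [hlen]; rfl)).mem_iff.2 hs
  set j : Vec := mk6 1 1 1 1 1 1
  have hj : j ∈ pts := hAp j (by simp [sixA, j])
  have hjB : j ∉ sixB := fun h => by
    have hh : (sixB.any fun w => veq w j) = true := List.any_eq_true.2 ⟨j, h, veq_self j⟩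
    rw [hh] at hcB
    exact Bool.noConfusion hcB
  have Nj := hnb sixA hAp hAo (by simp [sixA, six0, a]) j (by simp [sixA, j]) (by decide +kernel)
  simp only [List.mem_cons, List.not_mem_nil, or_false] at hs'
  rcases hs' with h | h | h
  · exact hjB (hinj hj (hBp _ m1) Nj (hN _ m1 a1) h ▸ m1)
  · exact hjB (hinj hj (hBp _ m2) Nj (hN _ m2 a2) h ▸ m2)
  · exact hjB (hinj hj (hBp _ m3) Nj (hN _ m3 a3) h ▸ m3)

theorem HG_quasisimple : Cfsg.IsQuasisimple (HG D d) ∧
    Subgroup.center (HG D d) = (Subgroup.zpowers d).subgroupOf (HG D d) := by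
  obtain ⟨π, hπ⟩ := ctx.exists_pi hd
  have := simple_P
  refine ⟨⟨⟨ctx.HG_perfect hd⟩, ?_⟩, ?_⟩
  · let e := (QuotientGroup.quotientMulEquivOfEq hπ.ker.symm).trans
      (QuotientGroup.quotientKerEquivOfSurjective π hπ.surj)
    have : Nontrivial (HG D d ⧸ Subgroup.center (HG D d)) := e.toEquiv.nontrivial
    exact IsSimpleGroup.isSimpleGroup_of_surjective e.symm.toMonoidHom e.symm.surjective
  · rw [← hπ.ker, ctx.ker_eq hd hπ]

omit hd

theorem simple_G : IsSimpleGroup G := by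
  obtain ⟨d, hd, -⟩ := ctx.hprim.2.1
  have hclass : Cfsg.IsThreeTranspositionClass D := by
    refine ⟨ctx.hD.1, ⟨d, hd, Set.ext fun y => ⟨fun hy => ?_, fun hy => ?_⟩⟩, ctx.hD.2.2⟩
    · exact isConj_iff.2 (ctx.hclass d hd y hy)
    · obtain ⟨g, rfl⟩ := isConj_iff.1 hy
      exact ctx.hD.2.1 g d hd
  have hs := (Cfsg.Agent.S5361.result hclass ctx.center ctx.width).1.2 ctx.hprim
  have htop : commutator G = ⊤ := by
    rw [eq_top_iff, ← ctx.hD.2.2, Subgroup.closure_le]
    intro e he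
    have hm : (⟨e, ctx.self_mem_HG he⟩ : HG D e) ∈ commutator (HG D e) := by
      rw [ctx.HG_perfect he]; exact Subgroup.mem_top _
    have := Subgroup.mem_map_of_mem (HG D e).subtype hm
    rw [commutator_def, Subgroup.map_commutator] at this
    exact Subgroup.commutator_mono le_top le_top this
  rw [htop] at hs
  have : Nontrivial G := (Subgroup.topEquiv (G := G)).toEquiv.symm.nontrivial
  exact IsSimpleGroup.isSimpleGroup_of_surjective (Subgroup.topEquiv (G := G)).toMonoidHom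
    (Subgroup.topEquiv (G := G)).surjective

end Ctx

end CfsgLib.Sporadic.MTwentyTwo
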