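import Cfsg.Agent.Lib.Sporadic.MTwentyTwo.Outer
import Mathlib.GroupTheory.Index

/-!
# Order and width of a group of type M(22)
-/

set_option autoImplicit false
set_option linter.unusedSectionVars false

namespace CfsgLib.Sporadic.MTwentyTwo

open CfsgLib.Sporadic.FischerTransitivity CfsgLib.Sporadic.FischerRankThree

attribute [local irreducible] pts tp orth veq comb tmv dmul sp

/-- Pairwise commuting transvections are at most twenty-one. -/
theorem clique_TP {E : Set P} (hE : E ⊆ TP) (hc : ∀ a ∈ E, ∀ b ∈ E, Commute a b) : E.ncard ≤ 21 := by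
  classical
  by_cases h2 : E.ncard ≤ 1
  · omega
  have h1 : 1 < E.ncard := by omega
  obtain ⟨a, ha, b, hb, hab⟩ := (Set.one_lt_ncard (Set.toFinite E)).1 h1
  obtain ⟨g, hg⟩ := TP_class a (hE ha) _ (mem_TP p12_mem)
  have hn1 : g * b * g⁻¹ ∈ Nb TP (tp p12) := by
    rw [← hg]; exact nb_conj TP_group g ⟨hE hb, hab.symm, hc a ha b hb⟩
  have hn2 : tp p34 ∈ Nb TP (tp p12) :=
    ⟨mem_TP p34_mem, fun e => absurd (tp_inj p34_mem p12_mem e) (by decide +kernel),
      (tp_commute_iff p12_mem p34_mem).2 (by decide +kernel)⟩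
  obtain ⟨k, hk, hk2⟩ := exists_conj TP_group TP_class P_perf P_sol (mem_TP p12_mem) hn1 hn2
  have hk1 : k * tp p12 * k⁻¹ = tp p12 := by
    have hcz : k ∈ Subgroup.centralizer ({tp p12} : Set P) := (Subgroup.closure_le _).2 (fun z hz =>
      Subgroup.mem_centralizer_singleton_iff.2 hz.2.2.symm.eq) hk
    rw [Subgroup.mem_centralizer_singleton_iff] at hcz
    rw [hcz, mul_inv_cancel_right]
  set V : Set Vec := {v | v ∈ pts ∧ ∃ z ∈ E, k * g * z * (k * g)⁻¹ = tp v} with hV
  have hVcard : E.ncard = V.ncard := by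
    rw [← Set.InjOn.ncard_image (f := tp) (s := V) fun x hx y hy h => tp_inj hx.1 hy.1 h,
      ← Set.ncard_image_of_injective E (f := fun z => k * g * z * (k * g)⁻¹)
        fun x y h => mul_left_cancel (mul_right_cancel h)]
    congr 1
    ext z
    constructor
    · rintro ⟨y, hy, rfl⟩
      obtain ⟨v, hv, e⟩ := TP_conj (k * g) (hE hy)
      exact ⟨v, ⟨hv, y, hy, e.symm⟩, e⟩
    · rintro ⟨v, ⟨-, y, hy, e⟩, rfl⟩
      exact ⟨y, hy, e⟩
  have hVc : ∀ v ∈ V, ∀ w ∈ V, orth v w = true := by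
    rintro v ⟨hv, y, hy, ey⟩ w ⟨hw, z, hz, ez⟩
    rw [← tp_commute_iff hv hw, ← ey, ← ez]
    exact (Commute.conj_iff _).2 (hc y hy z hz)
  have h12 : p12 ∈ V := ⟨p12_mem, a, ha, by
    rw [show k * g * a * (k * g)⁻¹ = k * (g * a * g⁻¹) * k⁻¹ by group, hg, hk1]⟩
  have h34 : p34 ∈ V := ⟨p34_mem, b, hb, by
    rw [show k * g * b * (k * g)⁻¹ = k * (g * b * g⁻¹) * k⁻¹ by group, hk2]⟩
  rw [hVcard]
  by_cases hline : ∀ v ∈ V, v ∈ line34
  · calc V.ncard ≤ (↑line34.toFinset : Set Vec).ncard :=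
          Set.ncard_le_ncard (fun v hv => by simpa using hline v hv) (Finset.finite_toSet _)
      _ ≤ 21 := by
        rw [Set.ncard_coe_finset]
        exact (List.toFinset_card_le _).trans (by simp [line34])
  push Not at hline
  obtain ⟨Q, hQ, hQl⟩ := hline
  have h := all_pts clique_bound hQ.1
  simp only [Bool.or_eq_true, decide_eq_true_eq, hVc _ h12 Q hQ, hVc _ h34 Q hQ, Bool.and_self,
    Bool.not_true, Bool.false_eq_true, false_or, List.any_eq_true, veq_iff] at h
  rcases h with ⟨L, hL, e⟩ | h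
  · exact absurd (e ▸ hL) hQl
  refine le_trans ?_ h
  rw [← ncard_pts]
  refine Set.ncard_le_ncard (fun v hv => ?_) ((pts.toFinset : Finset Vec).finite_toSet.subset fun v hv => by
    simpa using hv.1)
  exact ⟨hv.1, by simp [hVc _ h12 v hv, hVc _ h34 v hv, hVc _ hQ v hv]⟩

variable {G : Type*} [Group G] [Finite G] {D : Set G} (ctx : Ctx D)
include ctx

namespace Ctx

theorem card_G : Nat.card G = 2 ^ 17 * 3 ^ 9 * 5 ^ 2 * 7 * 11 * 13 := by
  obtain ⟨d, hd, -⟩ := ctx.hprim.2.1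
  have e : Nat.card (G ⧸ Subgroup.centralizer ({d} : Set G)) = D.ncard := by
    rw [← Nat.card_coe_set_eq]
    refine Nat.card_eq_of_bijective (Quotient.lift (fun g => (⟨g * d * g⁻¹, ctx.hD.2.1 g d hd⟩ : D)) ?_) ⟨?_, ?_⟩
    · intro a b h
      have h' := Subgroup.mem_centralizer_singleton_iff.1 (QuotientGroup.leftRel_apply.1 h)
      refine Subtype.ext ?_
      show a * d * a⁻¹ = b * d * b⁻¹
      calc a * d * a⁻¹ = a * (d * (a⁻¹ * b)) * b⁻¹ := by group
        _ = a * ((a⁻¹ * b) * d) * b⁻¹ := by rw [h']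
        _ = b * d * b⁻¹ := by group
    · intro x y
      induction x using Quotient.inductionOn with
      | _ a =>
        induction y using Quotient.inductionOn with
        | _ b =>
          intro h
          have h' : a * d * a⁻¹ = b * d * b⁻¹ := congrArg Subtype.val h
          refine QuotientGroup.eq.2 (Subgroup.mem_centralizer_singleton_iff.2 ?_)
          calc a⁻¹ * b * d = a⁻¹ * (b * d * b⁻¹) * b := by group
            _ = a⁻¹ * (a * d * a⁻¹) * b := by rw [h']
            _ = d * (a⁻¹ * b) := by group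
    · rintro ⟨y, hy⟩
      obtain ⟨g, hg⟩ := ctx.hclass d hd y hy
      exact ⟨Quotient.mk'' g, Subtype.ext hg⟩
  have h := (Subgroup.centralizer ({d} : Set G)).card_mul_index
  rw [Subgroup.index, e, ctx.card_D, ctx.centralizer_eq hd, ctx.card_HG hd] at h
  rw [← h]
  norm_num

theorem width_eq : Cfsg.commutingWidth D = 22 := by
  classical
  have hle : ∀ n ∈ {n : ℕ | ∃ E : Set G, E ⊆ D ∧ E.Finite ∧ (∀ a ∈ E, ∀ b ∈ E, Commute a b) ∧ E.ncard = n},
      n ≤ 22 := by
    rintro n ⟨E, hED, -, hc, rfl⟩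
    rcases E.eq_empty_or_nonempty with rfl | ⟨e, he⟩
    · simp
    obtain ⟨π, hπ⟩ := ctx.exists_pi (hED he)
    have hsub : E \ {e} ⊆ Nb D e := fun x hx => ⟨hED hx.1, hx.2, hc e he x hx.1⟩
    have h := clique_TP (E := pf π '' (E \ {e})) (by
        rintro _ ⟨x, hx, rfl⟩
        exact ctx.pf_mem (hED he) hπ (hsub hx)) (by
        rintro _ ⟨x, hx, rfl⟩ _ ⟨y, hy, rfl⟩
        exact (ctx.commute_iff (hED he) hπ (hsub hx) (hsub hy)).2 (hc x hx.1 y hy.1))
    rw [Set.InjOn.ncard_image fun x hx y hy => ctx.pf_inj (hED he) hπ (hsub hx) (hsub hy)] at h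
    have := Set.ncard_sdiff_singleton_add_one he (Set.toFinite _)
    omega
  refine le_antisymm (csSup_le' hle) (le_csSup ⟨22, hle⟩ ?_)
  obtain ⟨d, hd, -⟩ := ctx.hprim.2.1
  obtain ⟨π, hπ⟩ := ctx.exists_pi hd
  have hpl := plane_ok
  simp only [Bool.and_eq_true, beq_iff_eq, List.all_eq_true] at hpl
  have hsubp : ∀ v ∈ plane, v ∈ pts := fun v hv => (List.mem_filter.1 hv).1
  set E : Set G := {x | x ∈ Nb D d ∧ ∃ v ∈ plane, pf π x = tp v}
  have hEc : E.ncard = 21 := by
    rw [← Set.InjOn.ncard_image (f := pf π) (s := E) fun x hx y hy => ctx.pf_inj hd hπ hx.1 hy.1,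
      show pf π '' E = tp '' (↑plane.toFinset : Set Vec) from ?_,
      Set.InjOn.ncard_image fun x hx y hy => tp_inj (hsubp x (by simpa using hx)) (hsubp y (by simpa using hy)),
      Set.ncard_coe_finset, List.toFinset_card_of_nodup (show plane.Nodup from pts_nodup.filter _), hpl.1]
    ext z
    constructor
    · rintro ⟨x, ⟨-, v, hv, e⟩, rfl⟩
      exact ⟨v, by simpa using hv, e.symm⟩
    · rintro ⟨v, hv, rfl⟩
      have hv' : v ∈ plane := by simpa using hv
      obtain ⟨x, hx, e⟩ := ctx.exists_member hd hπ (hsubp v hv')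
      exact ⟨x, ⟨hx, v, hv', e⟩, e⟩
  refine ⟨insert d E, ?_, Set.toFinite _, ?_, ?_⟩
  · rintro x (rfl | hx)
    · exact hd
    · exact hx.1.1
  · rintro x (rfl | hx) y (rfl | hy)
    · exact Commute.refl _
    · exact hy.1.2.2
    · exact hx.1.2.2.symm
    · obtain ⟨hx, v, hv, ex⟩ := hx
      obtain ⟨hy, w, hw, ey⟩ := hy
      rw [← ctx.commute_iff hd hπ hx hy, ex, ey, tp_commute_iff (hsubp v hv) (hsubp w hw)]
      exact hpl.2 v hv w hw
  · rw [Set.ncard_insert_of_notMem (fun h => h.1.2.1 rfl) (Set.toFinite _), hEc]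

end Ctx

end CfsgLib.Sporadic.MTwentyTwo
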